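import Groth.Agent.UnipLib.Split
import Groth.Agent.WittLib.Subgroup
import Groth.Agent.GrpScheme.IdComponent
import Groth.Agent.GrpScheme.HomFlat
import Groth.Prelude.Def_SGA7IX

/-! Rational points, and the basic facts on isogenies of unipotent groups. -/

set_option autoImplicit false
universe u

open CategoryTheory CategoryTheory.Limits AlgebraicGeometry MonoidalCategory CartesianMonoidalCategory MonObj

namespace Groth.Agent.UnipLib

open Groth.Agent.WittLib.Basic Groth.Agent.WittLib.Subgroup

variable {k : Type u} [Field k]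

local notation "Sk" => Spec (CommRingCat.of k)
local notation "pt₀" => IsLocalRing.closedPoint k

lemma unip_of [IsAlgClosed k] (p : ℕ) [Fact p.Prime] [CharP k p] (G : Over Sk) [GrpObj G] [IsCommMonObj G]
    [Smooth G.hom] [ConnectedSpace G.left] [IsAffine G.left] (hG : Red.HasNoSubtorus k G) {n : ℕ}
    (hdim : topologicalKrullDim G.left ≤ n) : Unip p G := by
  haveI : IsReduced G.left := GrpScheme.HomFlat.isReduced_of_smooth G.hom
  haveI : IrreducibleSpace G.left := by
    have h := GrpScheme.IdComponent.connectedComponent_eq G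
    rw [PreconnectedSpace.connectedComponent_eq_univ] at h
    exact @IrreducibleSpace.mk _ _ ⟨(h ▸ isIrreducible_irreducibleComponent).2⟩
      ⟨GrpScheme.IdComponent.e₀ G⟩
  haveI : IsIntegral G.left := isIntegral_of_irreducibleSpace_of_isReduced G.left
  exact ⟨inferInstance, inferInstance, inferInstance, n, pow_dim_eq_one p G hG hdim⟩

variable [IsAlgClosed k]

/-- Rational points lift along surjections. -/
lemma exists_lift_point {X Y : Over Sk} [LocallyOfFiniteType X.hom] [LocallyOfFiniteType Y.hom]
    (f : X ⟶ Y) [Surjective f.left] (P : 𝟙_ (Over Sk) ⟶ Y) : ∃ Q, Q ≫ f = P := by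
  haveI : JacobsonSpace X.left := LocallyOfFiniteType.jacobsonSpace X.hom
  have hne : (f.left.base ⁻¹' {P.left.base pt₀}).Nonempty := by
    obtain ⟨x, hx⟩ := f.left.surjective (P.left.base pt₀)
    exact ⟨x, hx⟩
  obtain ⟨x, hx, hxc⟩ := nonempty_inter_closedPoints hne
    ((isClosed_apply_point P).preimage f.left.continuous).isLocallyClosed
  obtain ⟨Q, hQ⟩ := exists_point hxc
  exact ⟨Q, point_ext (by rw [← hx, ← hQ]; rfl)⟩

/-- A closed morphism hitting all rational points is surjective. -/
lemma surjective_of_points {X Y : Over Sk} [LocallyOfFiniteType Y.hom] (f : X ⟶ Y) [UniversallyClosed f.left]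
    (h : ∀ P : 𝟙_ (Over Sk) ⟶ Y, ∃ Q, Q ≫ f = P) : Surjective f.left := by
  haveI : JacobsonSpace Y.left := LocallyOfFiniteType.jacobsonSpace Y.hom
  refine ⟨fun y => ?_⟩
  have hsub : closedPoints Y.left ⊆ Set.range f.left.base := by
    intro y hy
    obtain ⟨P, hP⟩ := exists_point hy
    obtain ⟨Q, hQ⟩ := h P
    exact ⟨Q.left.base pt₀, by rw [← hP, ← hQ]; rfl⟩
  have h2 := closure_minimal hsub f.left.isClosedMap.isClosed_range
  rw [closure_closedPoints] at h2
  exact h2 (Set.mem_univ y)

/-- Morphisms from reduced varieties agreeing on rational points are equal. -/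
lemma ext_points {X Y : Over Sk} [LocallyOfFiniteType X.hom] [IsReduced X.left] [IsSeparated Y.hom]
    {f g : X ⟶ Y} (h : ∀ P : 𝟙_ (Over Sk) ⟶ X, P ≫ f = P ≫ g) : f = g := by
  let φ : X.left ⟶ pullback Y.hom Y.hom := pullback.lift f.left g.left (by rw [Over.w, Over.w])
  let D := pullback.diagonal Y.hom
  have hφ1 : φ ≫ pullback.fst _ _ = f.left := pullback.lift_fst _ _ _
  have hφ2 : φ ≫ pullback.snd _ _ = g.left := pullback.lift_snd _ _ _
  haveI : Surjective (pullback.fst φ D) := by
    haveI : JacobsonSpace X.left := LocallyOfFiniteType.jacobsonSpace X.hom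
    refine ⟨fun y => ?_⟩
    have hsub : closedPoints X.left ⊆ Set.range (pullback.fst φ D).base := by
      intro y hy
      obtain ⟨P, hP⟩ := exists_point hy
      let l : (𝟙_ (Over Sk)).left ⟶ pullback φ D := pullback.lift P.left (P ≫ f).left (by
        apply pullback.hom_ext
        · simp only [D, Category.assoc, hφ1, Category.comp_id, pullback.diagonal_fst, Over.comp_left]
        · simp only [D, Category.assoc, hφ2, Category.comp_id, pullback.diagonal_snd, ← Over.comp_left, h P])
      refine ⟨l pt₀, ?_⟩
      have e : l ≫ pullback.fst φ D = P.left := pullback.lift_fst _ _ _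
      rw [← hP, ← e]; rfl
    have h2 := closure_minimal hsub (pullback.fst φ D).isClosedEmbedding.isClosed_range
    rw [closure_closedPoints] at h2
    exact h2 (Set.mem_univ y)
  haveI : IsIso (pullback.fst φ D) := isIso_of_isClosedImmersion_of_surjective _
  refine Over.OverMorphism.ext ((cancel_epi (pullback.fst φ D)).1 ?_)
  have e1 : pullback.fst φ D ≫ f.left = pullback.snd φ D := by
    simpa [D, hφ1] using congrArg (fun q => q ≫ pullback.fst _ _) (pullback.condition (f := φ) (g := D))
  have e2 : pullback.fst φ D ≫ g.left = pullback.snd φ D := by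
    simpa [D, hφ2] using congrArg (fun q => q ≫ pullback.snd _ _) (pullback.condition (f := φ) (g := D))
  rw [e1, e2]

/-- A finite surjection is an isogeny. -/
lemma isIsogenyOver_of_finite {G H : Over Sk} [GrpObj H] (f : G ⟶ H) [IsFinite f.left] [Surjective f.left] :
    SGA7.IsIsogenyOver f := by
  refine ⟨inferInstance, fun N i h => ?_⟩
  have h' := IsPullback.map (Over.forget Sk) h
  haveI : IsFinite ((Over.forget Sk).map f) := ‹_›
  haveI hu : IsFinite ((Over.forget Sk).map (toUnit N)) :=
    MorphismProperty.of_isPullback h' ‹_›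
  have e : N.hom = (toUnit N).left := ((Over.w (toUnit N)).symm.trans (Category.comp_id _))
  rw [e]
  exact hu

/-- A homomorphism to a group killed by its unit. -/
lemma eq_one_of_pow_zero {G H : Over Sk} [GrpObj G] [GrpObj H] (h : (𝟙 G : G ⟶ G) = 1) (f : H ⟶ G) : f = 1 := by
  rw [← Category.comp_id f, h, MonObj.comp_one]

end Groth.Agent.UnipLib
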