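import Groth.Agent.UnipLib.Basic
import Mathlib.LinearAlgebra.JordanChevalley
import Mathlib.LinearAlgebra.Eigenspace.Semisimple
import Mathlib.LinearAlgebra.Eigenspace.Pi
import Mathlib.LinearAlgebra.Eigenspace.Triangularizable
import Mathlib.RingTheory.HopfAlgebra.Convolution
import Mathlib.RingTheory.HopfAlgebra.GroupLike
import Mathlib.RingTheory.Coalgebra.GroupLike
import Mathlib.Algebra.CharP.Lemmas
import Mathlib.Algebra.MonoidAlgebra.Basic

/-! In a commutative reduced Hopf algebra in characteristic `p`, a sufficiently high `p`-power map lands in the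
span of the characters. -/

set_option autoImplicit false
set_option linter.style.haveILetI false
universe u
open scoped TensorProduct
open WithConv

namespace Groth.Agent.UnipLib

variable {k : Type u} [Field k] {A : Type u} [CommRing A] [HopfAlgebra k A]

/-- Multiplication by `N` on the coordinate ring. -/
noncomputable def powMap (k : Type u) [Field k] {A : Type u} [CommRing A] [HopfAlgebra k A] (N : ℕ) : A →ₐ[k] A :=
  (toConv (AlgHom.id k A) ^ N).ofConv

lemma comp_pow {R S : Type u} [CommRing R] [CommRing S] [Algebra k R] [Algebra k S] (h : R →ₐ[k] S)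
    (f : A →ₐ[k] R) (N : ℕ) : h.comp (toConv f ^ N).ofConv = (toConv (h.comp f) ^ N).ofConv := by
  induction N with
  | zero => exact AlgHom.ext fun a => h.commutes _
  | succ N ih => rw [pow_succ, pow_succ, AlgHom.comp_convMul_distrib, ih]

lemma comp_powMap {R : Type u} [CommRing R] [Algebra k R] (x : A →ₐ[k] R) (N : ℕ) :
    x.comp (powMap k N) = (toConv x ^ N).ofConv := by
  rw [powMap, comp_pow, AlgHom.comp_id]

lemma pt_powMap {R : Type u} [CommRing R] [Algebra k R] (x : A →ₐ[k] R) (N : ℕ) (a : A) :
    x (powMap k N a) = (toConv x ^ N) a :=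
  congr($(comp_powMap x N) a)

lemma powMap_powMap (M N : ℕ) (a : A) :
    powMap k M (powMap k N a) = powMap k (M * N) a := by
  rw [pt_powMap, powMap, toConv_ofConv, ← pow_mul]
  rfl

lemma powMap_zero (a : A) : powMap k 0 a = algebraMap k A (Coalgebra.counit a) := rfl

lemma powMap_one (a : A) : powMap k 1 a = a := by
  rw [powMap, pow_one]; rfl

variable (k A) in
/-- The rational points form a commutative group. -/
def PtsComm : Prop := ∀ x y : WithConv (A →ₐ[k] k), x * y = y * x

variable [IsAlgClosed k] [Algebra.FiniteType k A] [IsReduced A]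

lemma isGroupLikeElem_of_forall {l : A} (h1 : Coalgebra.counit (R := k) l = 1)
    (h : ∀ x y : WithConv (A →ₐ[k] k), (x * y) l = x l * y l) : IsGroupLikeElem k l := by
  refine ⟨h1, tensor_ext fun x y => ?_⟩
  rw [← AlgHom.convMul_apply (toConv x) (toConv y), h, Algebra.TensorProduct.lift_tmul]

lemma rho_mul (g h : A →ₐ[k] k) (a : A) :
    rho g (rho h a) = rho (k := k) (toConv g * toConv h).ofConv a := by
  refine ext_pts (k := k) fun x => ?_
  have e : x.comp (rho g) = (toConv x * toConv g).ofConv := AlgHom.ext (pt_rho_self x g)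
  rw [← AlgHom.comp_apply x (rho g), e, pt_rho_self, pt_rho_self, toConv_ofConv, toConv_ofConv, _root_.mul_assoc]

variable (p : ℕ) [Fact p.Prime] [CharP k p]

/-- A high `p`-power map sends any element into the span of the group-like elements in its image. -/
theorem exists_pow_mem_span (hc : PtsComm k A) (s : Finset A) : ∃ r : ℕ, ∀ a ∈ s,
    powMap k (p ^ r) a ∈ Submodule.span k {l : A | IsGroupLikeElem k l ∧ ∃ w, powMap k (p ^ r) w = l} := by
  classical
  obtain ⟨V, hVfin, hsV, hV⟩ := exists_stable (k := k) s
  rcases subsingleton_or_nontrivial V with hsub | hnt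
  · refine ⟨0, fun a ha => ?_⟩
    have : a = 0 := congrArg Subtype.val (Subsingleton.elim (⟨a, hsV ha⟩ : V) 0)
    rw [this, map_zero]
    exact zero_mem _
  let f : (A →ₐ[k] k) → Module.End k V := fun g => (rho g).toLinearMap.restrict (hV g)
  have hf : ∀ g h, f g * f h = f (toConv g * toConv h).ofConv := fun g h =>
    LinearMap.ext fun v => Subtype.ext (rho_mul g h _)
  have hone : f (1 : WithConv (A →ₐ[k] k)).ofConv = 1 := LinearMap.ext fun v => Subtype.ext <| by
    refine ext_pts (k := k) fun x => ?_
    show x (rho _ (v : A)) = x v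
    rw [pt_rho_self, toConv_ofConv, _root_.mul_one]
  have hpow : ∀ (g : A →ₐ[k] k) (N : ℕ), f (toConv g ^ N).ofConv = f g ^ N := by
    intro g N
    induction N with
    | zero => rw [pow_zero, pow_zero, hone]
    | succ N ih => rw [pow_succ, pow_succ, ← ih, hf, toConv_ofConv]
  obtain ⟨r, hr⟩ : ∃ r, Module.finrank k V ≤ p ^ r :=
    ⟨Module.finrank k V, (Nat.lt_pow_self (Fact.out (p := p.Prime)).one_lt).le⟩
  refine ⟨r, fun a ha => ?_⟩
  set P := p ^ r
  let F : (A →ₐ[k] k) → Module.End k V := fun g => f g ^ P
  have hFcomm : ∀ g h, Commute (F g) (F h) := fun g h => Commute.pow_pow (by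
    show f g * f h = f h * f g
    rw [hf, hf, hc]) P P
  have hp0 : (p : Module.End k V) = 0 := by
    rw [← map_natCast (algebraMap k (Module.End k V)), CharP.cast_eq_zero, map_zero]
  have hss : ∀ g, (F g).IsSemisimple := by
    intro g
    obtain ⟨n, hn, s', hs', hnil, hsem, hsum⟩ := (f g).exists_isNilpotent_isSemisimple
    have hcm : Commute n s' := by
      exact (Algebra.commute_of_mem_adjoin_singleton_of_commute hs' (Algebra.commute_of_mem_adjoin_self hn).symm)
    have hnP : n ^ P = 0 := by
      obtain ⟨m, hm⟩ := hnil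
      have h1 := Module.End.ker_pow_le_ker_pow_finrank n m
      rw [hm, LinearMap.ker_zero, top_le_iff, LinearMap.ker_eq_top] at h1
      rw [← Nat.add_sub_cancel' hr, pow_add, h1, zero_mul]
    obtain ⟨c, hc'⟩ : ∃ c, (n + s') ^ P = n ^ P + s' ^ P + (p : Module.End k V) * c :=
      ⟨_, (hcm.add_pow_prime_pow_eq (p := p) Fact.out r).trans (by simp only [_root_.mul_assoc]; rfl)⟩
    show (f g ^ P).IsSemisimple
    rw [hsum, hc', hp0, zero_mul, add_zero, hnP, zero_add]
    exact hsem.pow P
  have htop : ⨆ χ : (A →ₐ[k] k) → k, ⨅ g, (F g).eigenspace (χ g) = ⊤ := by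
    have h := Module.End.iSup_iInf_maxGenEigenspace_eq_top_of_iSup_maxGenEigenspace_eq_top_of_commute F
      (fun i j _ => hFcomm i j) (fun g => Module.End.iSup_maxGenEigenspace_eq_top (F g))
    simpa only [(Module.End.IsSemisimple.isFinitelySemisimple (hss _)).maxGenEigenspace_eq_eigenspace] using h
  set L := Submodule.span k {l : A | IsGroupLikeElem k l ∧ ∃ w, powMap k P w = l}
  suffices hle : ∀ χ : (A →ₐ[k] k) → k, (⨅ g, (F g).eigenspace (χ g)) ≤
      Submodule.comap ((powMap k P).toLinearMap ∘ₗ V.subtype) L by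
    have : (⊤ : Submodule k V) ≤ Submodule.comap ((powMap k P).toLinearMap ∘ₗ V.subtype) L :=
      htop ▸ iSup_le hle
    exact this (Submodule.mem_top (x := ⟨a, hsV ha⟩))
  intro χ v hv
  simp only [Submodule.mem_iInf, Module.End.mem_eigenspace_iff] at hv
  show powMap k P (v : A) ∈ L
  -- value at a point
  have hval : ∀ x : A →ₐ[k] k, x (powMap k P (v : A)) = χ x * Coalgebra.counit (R := k) (v : A) := by
    intro x
    rw [pt_powMap]
    have h1 : (toConv x ^ P) (v : A) = Coalgebra.counit (R := k) (rho (toConv x ^ P).ofConv (v : A)) := by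
      show _ = Bialgebra.counitAlgHom k A _
      rw [pt_rho_self, toConv_ofConv]
      rw [show toConv (Bialgebra.counitAlgHom k A) = (1 : WithConv (A →ₐ[k] k)) from
        WithConv.ofConv_injective (AlgHom.ext fun b => rfl), _root_.one_mul]
    have h2 : rho (toConv x ^ P).ofConv (v : A) = χ x • (v : A) := by
      have := congrArg Subtype.val (hv x)
      simp only [F, ← hpow] at this
      exact this
    rw [h1, h2, map_smul, smul_eq_mul]
  by_cases he : Coalgebra.counit (R := k) (v : A) = 0
  · have : powMap k P (v : A) = 0 := eq_zero_of_forall (k := k) fun x => by rw [hval, he, mul_zero]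
    rw [this]
    exact zero_mem _
  have hv0 : v ≠ 0 := fun h => he (by rw [h]; simp)
  set e := Coalgebra.counit (R := k) (v : A)
  let l := e⁻¹ • powMap k P (v : A)
  have hl : ∀ x : A →ₐ[k] k, x l = χ x := fun x => by
    simp only [l]
    rw [map_smul, hval, smul_eq_mul, mul_comm (χ x), ← mul_assoc, inv_mul_cancel₀ he, one_mul]
  have hχ : ∀ x y : A →ₐ[k] k, χ (toConv x * toConv y).ofConv = χ x * χ y := by
    intro x y
    have h1 : F (toConv x * toConv y).ofConv = F x * F y := by
      simp only [F]
      rw [← hf, Commute.mul_pow (show f x * f y = f y * f x by rw [hf, hf, hc])]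
    have h2 := hv (toConv x * toConv y).ofConv
    rw [h1, Module.End.mul_apply, hv y, map_smul, hv x, smul_smul] at h2
    have h3 := smul_left_injective k hv0 h2
    rw [← h3, mul_comm]
  have hχ1 : χ (Bialgebra.counitAlgHom k A) = 1 := by
    have h1 : f (Bialgebra.counitAlgHom k A) = 1 := by
      rw [← hone]; congr 1
    have h2 := hv (Bialgebra.counitAlgHom k A)
    simp only [F, h1, one_pow, Module.End.one_apply] at h2
    exact smul_left_injective k hv0 (show χ _ • v = (1 : k) • v by rw [← h2, one_smul])
  have hgl : IsGroupLikeElem k l := isGroupLikeElem_of_forall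
    (show Bialgebra.counitAlgHom k A l = 1 by rw [hl, hχ1])
    (fun x y => by
      show (x * y).ofConv l = x.ofConv l * y.ofConv l
      rw [hl, hl, hl]
      exact hχ x.ofConv y.ofConv)
  have : powMap k P (v : A) = e • l := by
    simp only [l]
    rw [smul_smul, mul_inv_cancel₀ he, one_smul]
  rw [this]
  exact L.smul_mem _ (Submodule.subset_span ⟨hgl, e⁻¹ • (v : A), map_smul _ _ _⟩)

end Groth.Agent.UnipLib
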