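import Groth.Agent.UnipLib.Period
import Groth.Agent.AffGrp.Bridge
import Groth.Agent.RedPts.Basic
import Groth.Agent.WittLib.Basic
import Groth.Prelude.Def_Red
import Mathlib.AlgebraicGeometry.Morphisms.Smooth

/-! Points of affine groups as algebra maps; a group without subtori is killed by `p ^ dim`. -/

set_option autoImplicit false
set_option linter.style.haveILetI false
universe u

open CategoryTheory CategoryTheory.Limits AlgebraicGeometry MonoidalCategory CartesianMonoidalCategory MonObj WithConv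

namespace Groth.Agent.UnipLib

variable {k : Type u} [Field k]

local notation "Sk" => Spec (CommRingCat.of k)

/-- The structure map on global functions. -/
@[implicit_reducible]
noncomputable def algOf (X : Over (Spec (CommRingCat.of k))) : Algebra k Γ(X.left, ⊤) :=
  ((X.hom.appTop).hom.comp (Scheme.ΓSpecIso (CommRingCat.of k)).inv.hom).toAlgebra

attribute [local instance] algOf

/-- The map to the affinization. -/
noncomputable def toGamma (X : Over (Spec (CommRingCat.of k))) :
    X ⟶ (Spec (CommRingCat.of Γ(X.left, ⊤))).asOver (Spec (CommRingCat.of k)) :=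
  Over.homMk X.left.toSpecΓ (by
    show X.left.toSpecΓ ≫ Spec.map (CommRingCat.ofHom (algebraMap k Γ(X.left, ⊤))) = X.hom
    rw [RingHom.algebraMap_toAlgebra, CommRingCat.ofHom_comp, Spec.map_comp, CommRingCat.ofHom_hom,
      CommRingCat.ofHom_hom, ← Category.assoc, ← Scheme.toSpecΓ_naturality]
    simp)

variable {A : Type u} [CommRing A] [HopfAlgebra k A]

/-- The point attached to an algebra map. -/
noncomputable def ptHom (X : Over (Spec (CommRingCat.of k))) (f : WithConv (A →ₐ[k] Γ(X.left, ⊤))) :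
    X ⟶ (Spec (CommRingCat.of A)).asOver (Spec (CommRingCat.of k)) :=
  toGamma X ≫ Spec.mapMulEquiv f

lemma ptHom_mul (X : Over Sk) (f g : WithConv (A →ₐ[k] Γ(X.left, ⊤))) :
    ptHom X (f * g) = ptHom X f * ptHom X g := by
  rw [ptHom, map_mul, MonObj.comp_mul]; rfl

lemma ptHom_appTop (X : Over Sk) (f : WithConv (A →ₐ[k] Γ(X.left, ⊤))) :
    (Scheme.ΓSpecIso (CommRingCat.of A)).inv ≫ (ptHom X f).left.appTop =
      CommRingCat.ofHom f.ofConv.toRingHom := by
  show _ ≫ (X.left.toSpecΓ ≫ Spec.map (CommRingCat.ofHom f.ofConv.toRingHom)).appTop = _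
  simp [Scheme.toSpecΓ_appTop]

lemma ptHom_injective (X : Over Sk) : Function.Injective (ptHom (A := A) X) := by
  intro f g h
  have h1 := ptHom_appTop X f
  rw [h, ptHom_appTop] at h1
  exact WithConv.ofConv_injective (AlgHom.ext fun a => congr($h1.symm a))

lemma comp_ptHom {X Y : Over Sk} (h : Y ⟶ X) (f : WithConv (A →ₐ[k] Γ(X.left, ⊤)))
    (g : WithConv (A →ₐ[k] Γ(Y.left, ⊤))) (e : ∀ a, g a = h.left.appTop (f a)) :
    h ≫ ptHom X f = ptHom Y g := by
  refine Over.OverMorphism.ext ?_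
  show h.left ≫ X.left.toSpecΓ ≫ Spec.map (CommRingCat.ofHom f.ofConv.toRingHom) =
    Y.left.toSpecΓ ≫ Spec.map (CommRingCat.ofHom g.ofConv.toRingHom)
  rw [Scheme.toSpecΓ_naturality_assoc, ← Spec.map_comp]
  congr 2
  ext a
  exact (e a).symm

/-- Base change of split tori. -/
lemma isTorus_DS (m : ℕ) : Red.IsTorus (Red.DS Sk (Fin m → ℤ)) := by
  refine ⟨Sk, 𝟙 _, inferInstance, inferInstance, fun V hV => ⟨V, hV.isCompact, by simp⟩,
    fun s' => ⟨⊤, trivial, m, ?_⟩⟩
  let U := ((⊤ : (Spec (CommRingCat.of k)).Opens) : Scheme.{u})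
  let g : U ⟶ Sk := (⊤ : (Spec (CommRingCat.of k)).Opens).ι ≫ 𝟙 _
  show Nonempty _
  have key : ∀ (t : U ⟶ Spec (CommRingCat.of (ULift.{u} ℤ))), t = g ≫ Limits.IsTerminal.from specULiftZIsTerminal Sk →
      Nonempty (Grp.mk (Red.bc g (Red.DS Sk (Fin m → ℤ))) ≅ Grp.mk (Red.bc t (Red.diag (ULift.{u} ℤ) (Fin m → ℤ)))) := by
    rintro t rfl
    let D : Grp (Over (Spec (CommRingCat.of (ULift.{u} ℤ)))) := Grp.mk (Red.diag (ULift.{u} ℤ) (Fin m → ℤ))
    exact ⟨(Functor.mapGrpCompIso (F := Over.pullback (Limits.IsTerminal.from specULiftZIsTerminal Sk))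
      (G := Over.pullback g)).symm.app D ≪≫
      (Functor.mapGrpNatIso (Over.pullbackComp g (Limits.IsTerminal.from specULiftZIsTerminal Sk)).symm).app D⟩
  exact key _ (specULiftZIsTerminal.hom_ext _ _)

open RedPts in
theorem exists_kill [IsAlgClosed k] [Algebra.FiniteType k A] [IsDomain A] (p : ℕ) [Fact p.Prime] [CharP k p]
    (hc : PtsComm k A) (hno : Red.HasNoSubtorus k ((Spec (CommRingCat.of A)).asOver (Spec (CommRingCat.of k)))) :
    ∃ r, ∀ a : A, powMap k (p ^ r) a = algebraMap k A (Coalgebra.counit a) := by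
  classical
  obtain ⟨r, m, ι₀, ψ, hsurj, hι, hmult⟩ := exists_torus (k := k) p hc
  refine ⟨r, fun a => ?_⟩
  rcases Nat.eq_zero_or_pos m with hm | hm
  · subst hm
    have h : ∀ x : A →ₐ[k] k, x (powMap k (p ^ r) a) = x (algebraMap k A (Coalgebra.counit a)) := by
      intro x
      haveI : Subsingleton (MonoidAlgebra k (Multiplicative (Fin 0 → ℤ)) →ₐ[k] k) :=
        ⟨fun f g => (MonoidAlgebra.lift k k _).symm.injective (MonoidHom.ext fun z => by
          rw [Subsingleton.elim z 1, map_one, map_one])⟩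
      have e1 : powMap k (p ^ r) a = MonoidAlgebra.lift k A _ ι₀ (ψ a) := congr($hι.symm a)
      have e2 : x.comp (MonoidAlgebra.lift k A _ ι₀) =
          (Bialgebra.counitAlgHom k A).comp (MonoidAlgebra.lift k A _ ι₀) := Subsingleton.elim _ _
      rw [e1, ← AlgHom.comp_apply, e2, AlgHom.comp_apply, ← e1, AlgHom.commutes]
      rw [pt_powMap]
      show (toConv (Bialgebra.counitAlgHom k A) ^ (p ^ r)) a = _
      rw [show toConv (Bialgebra.counitAlgHom k A) = (1 : WithConv (A →ₐ[k] k)) from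
        WithConv.ofConv_injective (AlgHom.ext fun b => rfl), one_pow]
      rfl
    exact ext_pts (k := k) h
  exfalso
  let T := Red.DS Sk (Fin m → ℤ)
  let chr : ∀ {X : Over Sk}, (X ⟶ T) → (Multiplicative (Fin m → ℤ) →* Γ(X.left, ⊤)) := fun {X} x =>
    { toFun := fun z => dFn x (Multiplicative.toAdd z)
      map_one' := d_zero x
      map_mul' := fun a b => d_add x _ _ }
  let j : T ⟶ (Spec (CommRingCat.of A)).asOver (Spec (CommRingCat.of k)) :=
    ptHom T (toConv ((MonoidAlgebra.lift k _ _ (chr (𝟙 T))).comp ψ))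
  have hj : ∀ {X : Over Sk} (x : X ⟶ T), x ≫ j = ptHom X (toConv ((MonoidAlgebra.lift k _ _ (chr x)).comp ψ)) := by
    intro X x
    refine comp_ptHom x _ _ fun a => ?_
    let φ : Γ(T.left, ⊤) →ₐ[k] Γ(X.left, ⊤) :=
      { x.left.appTop.hom with
        commutes' := fun c => by
          show x.left.appTop (T.hom.appTop ((Scheme.ΓSpecIso (CommRingCat.of k)).inv c)) =
            X.hom.appTop ((Scheme.ΓSpecIso (CommRingCat.of k)).inv c)
          exact congr(Scheme.Hom.appTop $(Over.w x) ((Scheme.ΓSpecIso (CommRingCat.of k)).inv c)) }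
    have e : MonoidAlgebra.lift k _ _ (chr x) = φ.comp (MonoidAlgebra.lift k _ _ (chr (𝟙 T))) :=
      MonoidAlgebra.algHom_ext (fun z => by
        simp only [AlgHom.comp_apply, MonoidAlgebra.lift_single, one_smul]
        show dFn x (Multiplicative.toAdd z) = x.left.appTop (dFn (𝟙 T) (Multiplicative.toAdd z))
        rw [← d_comp, Category.comp_id]) (Algebra.ext_id _ _ _)
    show MonoidAlgebra.lift k _ _ (chr x) (ψ a) = _
    rw [e]
    rfl
  haveI : IsMonHom j := WittLib.Basic.isMonHom_of_points _ fun X x y => by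
    rw [hj, hj, hj, ← ptHom_mul, hmult]
    congr 4
    ext z
    exact d_mul x y _
  haveI : Mono j := ⟨fun {X} x y h => by
    rw [hj, hj] at h
    have h' := congrArg WithConv.ofConv (ptHom_injective X h)
    simp only [ofConv_toConv] at h'
    refine d_ext fun z => ?_
    obtain ⟨a, ha⟩ := hsurj (MonoidAlgebra.single (Multiplicative.ofAdd z) 1)
    have := congr($h' a)
    simp only [AlgHom.comp_apply, ha, MonoidAlgebra.lift_single, one_smul] at this
    exact this⟩
  haveI := hno T j (isTorus_DS m)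
  obtain ⟨c, hc0, hc1⟩ : ∃ c : k, c ≠ 0 ∧ c ≠ 1 := by
    obtain ⟨c, hc⟩ := Infinite.exists_notMem_finset ({0, 1} : Finset k)
    exact ⟨c, by simpa using hc⟩
  let u : Γ((𝟙_ (Over Sk)).left, ⊤)ˣ :=
    Units.map (Scheme.ΓSpecIso (CommRingCat.of k)).inv.hom.toMonoidHom (Units.mk0 c hc0)
  obtain ⟨x, hx⟩ := d_surjective (S := Sk) (X := 𝟙_ (Over Sk)) (M := Fin m → ℤ)
    ((Units.coeHom _).comp ((zpowersHom _ u).comp
      (AddMonoidHom.toMultiplicative (Pi.evalAddMonoidHom (fun _ : Fin m => ℤ) ⟨0, hm⟩))))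
  obtain ⟨y, hy⟩ := d_surjective (S := Sk) (X := 𝟙_ (Over Sk)) (M := Fin m → ℤ) 1
  haveI : IsIso T.hom := ‹Red.IsTrivialGrp T›
  have hxy : x = y := Over.OverMorphism.ext ((cancel_mono T.hom).1 ((Over.w x).trans (Over.w y).symm))
  have h1 : dFn x (Pi.single ⟨0, hm⟩ 1) = dFn y (Pi.single ⟨0, hm⟩ 1) := by rw [hxy]
  rw [hx, hy] at h1
  simp [u] at h1
  apply hc1
  have := congrArg (Scheme.ΓSpecIso (CommRingCat.of k)).hom h1
  simpa using this

theorem pow_dim_eq_one [IsAlgClosed k] (p : ℕ) [Fact p.Prime] [CharP k p] (G : Over (Spec (CommRingCat.of k)))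
    [GrpObj G] [IsCommMonObj G] [LocallyOfFiniteType G.hom] [IsIntegral G.left] [IsAffine G.left]
    (hG : Red.HasNoSubtorus k G) {n : ℕ} (hdim : topologicalKrullDim G.left ≤ n) :
    (𝟙 G : G ⟶ G) ^ (p ^ n) = 1 := by
  obtain ⟨A, hA, e, he⟩ := AffGrp.Bridge.exists_iso (R := CommRingCat.of k) G
  let S := (Spec A).asOver (Spec (CommRingCat.of k))
  haveI hi : IsIntegral (Spec A) := by
    haveI hiso : IsIso e.hom.left := inferInstanceAs (IsIso ((Over.forget _).map e.hom))
    haveI : Nonempty (Spec A) := (inferInstance : Nonempty G.left).map (TopCat.homeoOfIso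
      (Scheme.forgetToTop.mapIso ((Over.forget _).mapIso e.symm)))
    let φ : Spec A ⟶ G.left := e.hom.left
    haveI : IsIso φ := hiso
    exact isIntegral_of_isOpenImmersion φ
  haveI : IsDomain A := (affine_isIntegral_iff A).1 hi
  haveI : Algebra.FiniteType k A := by
    haveI : IsIso e.hom.left := inferInstanceAs (IsIso ((Over.forget _).map e.hom))
    have h : LocallyOfFiniteType S.hom := by
      rw [← Over.w e.hom]; infer_instance
    have h' : LocallyOfFiniteType (Spec.map (CommRingCat.ofHom (algebraMap k A))) := h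
    rw [HasRingHomProperty.Spec_iff (P := @LocallyOfFiniteType)] at h'
    exact RingHom.finiteType_algebraMap.1 h'
  have hmul : ∀ {T : Over Sk} (a b : T ⟶ S), a * b = b * a := fun a b => by
    rw [← cancel_mono e.hom, MonObj.mul_comp, MonObj.mul_comp, _root_.mul_comm]
  have hc : PtsComm k A := fun x y => Spec.mapMulEquiv.injective (by rw [map_mul, map_mul]; exact hmul _ _)
  have hno : Red.HasNoSubtorus k S := fun T _ j _ _ hT => hG T (j ≫ e.hom) hT
  obtain ⟨r, hr⟩ := exists_kill p hc hno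
  have hd : ringKrullDim A ≤ n := by
    have e' : topologicalKrullDim G.left = topologicalKrullDim (Spec A) :=
      IsHomeomorph.topologicalKrullDim_eq _ (TopCat.homeoOfIso (Scheme.forgetToTop.mapIso ((Over.forget _).mapIso e.symm))).isHomeomorph
    rw [← PrimeSpectrum.topologicalKrullDim_eq_ringKrullDim]
    exact le_trans (le_of_eq e'.symm) hdim
  have hS : (𝟙 S : S ⟶ S) ^ (p ^ n) = 1 := by
    have e1 : (𝟙 S : S ⟶ S) = Spec.mapMulEquiv (toConv (AlgHom.id k A)) := by
      refine Over.OverMorphism.ext ?_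
      show 𝟙 _ = Spec.map _
      simp
      exact (Spec.map_id _).symm
    rw [e1, ← map_pow]
    rw [show toConv (AlgHom.id k A) ^ p ^ n = 1 from WithConv.ofConv_injective
      (AlgHom.ext (powMap_dim p hr hd)), map_one]
  calc (𝟙 G : G ⟶ G) ^ (p ^ n) = e.inv ≫ ((𝟙 S : S ⟶ S) ^ (p ^ n)) ≫ e.hom := by
        rw [MonObj.pow_comp, MonObj.comp_pow, Category.id_comp, Iso.inv_hom_id]
    _ = 1 := by rw [hS, MonObj.one_comp, MonObj.comp_one]

end Groth.Agent.UnipLib
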