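import Groth.Agent.UnipLib.Subgroup
import Groth.Agent.UnipLib.Scheme
import Groth.Agent.GrpScheme.Smooth
import Groth.Agent.WittExt.Main

/-! Every nontrivial connected commutative group killed by a power of `p` has a subgroup `W_1` with quotient. -/

set_option autoImplicit false
set_option linter.style.haveILetI false
universe u

open CategoryTheory CategoryTheory.Limits AlgebraicGeometry MonoidalCategory CartesianMonoidalCategory MonObj WithConv
open scoped Polynomial TensorProduct

namespace Groth.Agent.UnipLib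

open Groth.Agent.WittLib.Basic

variable {k : Type u} [Field k]

local notation "Sk" => Spec (CommRingCat.of k)

attribute [local instance] algOf

/-- Affine connected groups killed by a power of `p`. -/
structure Unip (p : ℕ) (G : Over (Spec (CommRingCat.of k))) [GrpObj G] : Prop where
  affine : IsAffine G.left
  lft : LocallyOfFiniteType G.hom
  integral : IsIntegral G.left
  killed : ∃ r, (𝟙 G : G ⟶ G) ^ (p ^ r) = 1

/-- The affine scheme of a Hopf algebra. -/
noncomputable abbrev Sp (A : CommRingCat.{u}) [Algebra k A] : Over (Spec (CommRingCat.of k)) :=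
  (Spec A).asOver (Spec (CommRingCat.of k))

/-- Pulling back global functions as an algebra map. -/
noncomputable def pullAlg {X Y : Over (Spec (CommRingCat.of k))} (h : Y ⟶ X) : Γ(X.left, ⊤) →ₐ[k] Γ(Y.left, ⊤) :=
  { h.left.appTop.hom with
    commutes' := fun c => by
      show h.left.appTop (X.hom.appTop ((Scheme.ΓSpecIso (CommRingCat.of k)).inv c)) =
        Y.hom.appTop ((Scheme.ΓSpecIso (CommRingCat.of k)).inv c)
      exact congr(Scheme.Hom.appTop $(Over.w h) ((Scheme.ΓSpecIso (CommRingCat.of k)).inv c)) }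

variable {A : Type u} [CommRing A] [HopfAlgebra k A]

lemma comp_ptHom' {X Y : Over Sk} (h : Y ⟶ X) (f : WithConv (A →ₐ[k] Γ(X.left, ⊤))) :
    h ≫ ptHom X f = ptHom Y (toConv ((pullAlg h).comp f.ofConv)) :=
  comp_ptHom h _ _ fun _ => rfl

lemma ptHom_surjective (X : Over Sk) : Function.Surjective (ptHom (A := A) X) := by
  intro x
  let x' : X.left ⟶ Spec (CommRingCat.of A) := x.left
  let g : A →+* Γ(X.left, ⊤) := ((Scheme.ΓSpecIso (CommRingCat.of A)).inv ≫ x'.appTop).hom
  have hg : ∀ c : k, g (algebraMap k A c) = algebraMap k Γ(X.left, ⊤) c := by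
    intro c
    have h2 : X.hom.appTop = (Spec.map (CommRingCat.ofHom (algebraMap k A))).appTop ≫ x'.appTop := by
      rw [← Scheme.Hom.comp_appTop]
      exact congrArg Scheme.Hom.appTop (Over.w x).symm
    show g (algebraMap k A c) = X.hom.appTop ((Scheme.ΓSpecIso (CommRingCat.of k)).inv c)
    rw [h2]
    show x'.appTop _ = x'.appTop ((Spec.map (CommRingCat.ofHom (algebraMap k A))).appTop _)
    congr 1
    exact congr($(Scheme.ΓSpecIso_inv_naturality (CommRingCat.ofHom (algebraMap k A))) c)
  refine ⟨toConv (AlgHom.mk g hg), Over.OverMorphism.ext ?_⟩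
  show X.left.toSpecΓ ≫ Spec.map (CommRingCat.ofHom g) = x'
  rw [CommRingCat.ofHom_hom, Spec.map_comp, ← Category.assoc, ← Scheme.toSpecΓ_naturality, Category.assoc]
  simp

lemma ptHom_one (X : Over Sk) : ptHom (A := A) X 1 = 1 := by
  rw [ptHom, map_one, MonObj.comp_one]

lemma ptHom_pow (X : Over Sk) (f : WithConv (A →ₐ[k] Γ(X.left, ⊤))) (N : ℕ) :
    ptHom X (f ^ N) = ptHom X f ^ N := by
  induction N with
  | zero => rw [pow_zero, pow_zero, ptHom_one]
  | succ N ih => rw [pow_succ, pow_succ, ptHom_mul, ih]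

lemma ptHom_comp_map {B : Type u} [CommRing B] [HopfAlgebra k B] (X : Over Sk)
    (f : WithConv (A →ₐ[k] Γ(X.left, ⊤))) (g : B →ₐ[k] A) :
    ptHom X f ≫ Spec.mapMulEquiv (toConv g) = ptHom X (toConv (f.ofConv.comp g)) := by
  refine Over.OverMorphism.ext ?_
  show (X.left.toSpecΓ ≫ Spec.map (CommRingCat.ofHom f.ofConv.toRingHom)) ≫ Spec.map (CommRingCat.ofHom g.toRingHom) =
    X.left.toSpecΓ ≫ Spec.map (CommRingCat.ofHom (f.ofConv.comp g).toRingHom)
  rw [Category.assoc, ← Spec.map_comp]
  rfl

lemma pow_id_eq_one_iff (N : ℕ) :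
    (𝟙 (Sp (k := k) (CommRingCat.of A))) ^ N = 1 ↔ ∀ a : A, powMap k N a = algebraMap k A (Coalgebra.counit a) := by
  have e1 : 𝟙 (Sp (k := k) (CommRingCat.of A)) = Spec.mapMulEquiv (toConv (AlgHom.id k A)) := by
    refine Over.OverMorphism.ext ?_
    show 𝟙 _ = Spec.map _
    simp
  rw [e1, ← map_pow, ← map_one (Spec.mapMulEquiv (R := k) (S := A) (T := A)), EquivLike.apply_eq_iff_eq]
  refine ⟨fun h a => ?_, fun h => WithConv.ofConv_injective (AlgHom.ext h)⟩
  exact congr($(congrArg WithConv.ofConv h) a)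

variable (p : ℕ) [hp : Fact p.Prime]

omit hp in
lemma exists_model [IsAlgClosed k] (G : Over Sk) [GrpObj G] [IsCommMonObj G] (hG : Unip p G) :
    ∃ (A : CommRingCat.{u}) (_ : HopfAlgebra k A) (e : Sp (k := k) A ≅ G), IsMonHom e.hom ∧ IsDomain A ∧
      Algebra.FiniteType k A ∧ PtsComm k A ∧ ringKrullDim A = topologicalKrullDim G.left ∧
      ∀ N : ℕ, ((∀ a : A, powMap k N a = algebraMap k A (Coalgebra.counit a)) ↔ (𝟙 G : G ⟶ G) ^ N = 1) := by
  haveI := hG.affine; haveI := hG.lft; haveI := hG.integral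
  obtain ⟨A, hA, e, he⟩ := AffGrp.Bridge.exists_iso (R := CommRingCat.of k) G
  let S := (Spec A).asOver (Spec (CommRingCat.of k))
  haveI hiso : IsIso e.hom.left := inferInstanceAs (IsIso ((Over.forget _).map e.hom))
  let homeo := TopCat.homeoOfIso (Scheme.forgetToTop.mapIso ((Over.forget _).mapIso e.symm))
  haveI hi : IsIntegral (Spec A) := by
    haveI : Nonempty (Spec A) := (inferInstance : Nonempty G.left).map homeo
    let φ : Spec A ⟶ G.left := e.hom.left
    haveI : IsIso φ := hiso
    exact isIntegral_of_isOpenImmersion φ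
  have hft : Algebra.FiniteType k A := by
    have h : LocallyOfFiniteType S.hom := by rw [← Over.w e.hom]; infer_instance
    have h' : LocallyOfFiniteType (Spec.map (CommRingCat.ofHom (algebraMap k A))) := h
    rw [HasRingHomProperty.Spec_iff (P := @LocallyOfFiniteType)] at h'
    exact RingHom.finiteType_algebraMap.1 h'
  have hmul : ∀ {T : Over Sk} (a b : T ⟶ S), a * b = b * a := fun a b => by
    rw [← cancel_mono e.hom, MonObj.mul_comp, MonObj.mul_comp, _root_.mul_comm]
  refine ⟨A, hA, e, he, (affine_isIntegral_iff A).1 hi, hft,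
    fun x y => Spec.mapMulEquiv.injective (by rw [map_mul, map_mul]; exact hmul _ _), ?_, fun N => ?_⟩
  · rw [← PrimeSpectrum.topologicalKrullDim_eq_ringKrullDim]
    exact (IsHomeomorph.topologicalKrullDim_eq _ homeo.isHomeomorph).symm
  · have h1 : (𝟙 G : G ⟶ G) ^ N = e.inv ≫ ((𝟙 S : S ⟶ S) ^ N) ≫ e.hom := by
      rw [MonObj.pow_comp, MonObj.comp_pow, Category.id_comp, Iso.inv_hom_id]
    rw [← pow_id_eq_one_iff (A := A) N]
    refine ⟨fun h => by rw [h1, show (𝟙 S : S ⟶ S) ^ N = 1 from h, MonObj.one_comp, MonObj.comp_one], fun h => ?_⟩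
    rw [h1] at h
    have := congrArg (fun q => e.hom ≫ q) h
    simp only [Iso.hom_inv_id_assoc, MonObj.comp_one] at this
    rw [← cancel_mono e.hom, MonObj.one_comp]
    exact this

variable [IsAlgClosed k] [CharP k p]

set_option maxHeartbeats 1600000 in
open WittExt.Base in
theorem exists_split (G : Over (Spec (CommRingCat.of k))) [GrpObj G] [IsCommMonObj G] (hG : Unip p G) {n m : ℕ}
    (hdim : topologicalKrullDim G.left ≤ n) (hm : (𝟙 G : G ⟶ G) ^ (p ^ (m + 1)) = 1)
    (hm' : (𝟙 G : G ⟶ G) ^ (p ^ m) ≠ 1) :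
    ∃ (Q : Over (Spec (CommRingCat.of k))) (_ : GrpObj Q) (_ : IsCommMonObj Q)
      (i : WittGrp.W p 1 (Spec (CommRingCat.of k)) ⟶ G) (π : G ⟶ Q),
      IsMonHom i ∧ IsMonHom π ∧ IsClosedImmersion i.left ∧ Flat π.left ∧ Surjective π.left ∧
        AlgGrp.IsKernel i π ∧ Unip p Q ∧ Smooth Q.hom ∧ (𝟙 Q : Q ⟶ Q) ^ (p ^ (m + 1)) = 1 ∧
        (∃ n', n = n' + 1 ∧ topologicalKrullDim Q.left ≤ (n' : ℕ)) ∧
        (n = m + 1 → (𝟙 Q : Q ⟶ Q) ^ (p ^ m) = 1) := by
  obtain ⟨A, hA, e, he, hdom, hft, hc, hdimA, hkill⟩ := exists_model p G hG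
  haveI := hdom
  haveI := hft
  haveI := hG.affine
  have hn : ringKrullDim A ≤ n := hdimA ▸ hdim
  obtain ⟨π₀, hπ, hadd, hker₀, hkereq⟩ := exists_additive (p := p) hc ((hkill _).2 hm)
    (fun h => hm' ((hkill _).1 h)) hn
  obtain ⟨B, hB, hfg, hst, hπB, hker⟩ := exists_quotient (p := p) hc π₀ hπ hadd
  have hdimB := ringKrullDim_quot_add_one_le hπ hB hfg hst hπB hker
  letI hBA := HopfSub.hopfAlgebra hB
  haveI hBft : Algebra.FiniteType k B := (B.fg_iff_finiteType).1 hfg
  haveI : IsDomain B := inferInstance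
  haveI hff := faithfullyFlat hB
  let Q : Over Sk := Sp (k := k) (CommRingCat.of B)
  have hmulB : ∀ {R : Type u} [CommRing R] [Algebra k R] (x y : WithConv (A →ₐ[k] R)),
      toConv ((x * y).ofConv.comp B.val) = toConv (x.ofConv.comp B.val) * toConv (y.ofConv.comp B.val) :=
    fun x y => WithConv.ofConv_injective (AlgHom.convMul_comp_bialgHom_distrib x y (HopfSub.incl hB))
  have hpowB : ∀ (N : ℕ) (b : B), ((powMap k N b : B) : A) = powMap k N (b : A) := by
    intro N b
    have h : ∀ N, toConv ((toConv (AlgHom.id k A) ^ N).ofConv.comp B.val) = toConv B.val ^ N := by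
      intro N
      induction N with
      | zero => rw [pow_zero, pow_zero]; exact WithConv.ofConv_injective (AlgHom.ext fun b => rfl)
      | succ N ih => rw [pow_succ, pow_succ, hmulB, ih]; rfl
    have h1 := congr($(congrArg WithConv.ofConv (h N)) b)
    refine Eq.trans ?_ h1.symm
    show B.val (powMap k N b) = _
    exact pt_powMap B.val N b
  have hcB : PtsComm k B := by
    intro x y
    have lift : ∀ x : WithConv (B →ₐ[k] k), ∃ x' : WithConv (A →ₐ[k] k), toConv (x'.ofConv.comp B.val) = x := by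
      intro x
      haveI : (RingHom.ker x.ofConv).IsMaximal :=
        RingHom.ker_isMaximal_of_surjective _ (fun c => ⟨algebraMap k B c, by simp⟩)
      have hne : (RingHom.ker x.ofConv).map (algebraMap B A) ≠ ⊤ := fun h =>
        (inferInstance : (RingHom.ker x.ofConv).IsMaximal).ne_top (by
          rw [← comap_map hB (RingHom.ker x.ofConv), h, Ideal.comap_top])
      obtain ⟨M, hM, hle⟩ := Ideal.exists_le_maximal _ hne
      haveI := hM
      obtain ⟨x', hx'⟩ := exists_pt_ker (k := k) M
      refine ⟨toConv x', WithConv.ofConv_injective (AlgHom.ext fun b => ?_)⟩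
      have hmem : b - algebraMap k B (x.ofConv b) ∈ RingHom.ker x.ofConv := by
        rw [RingHom.mem_ker, map_sub, AlgHom.commutes, Algebra.algebraMap_self, RingHom.id_apply, sub_self]
      have := (hx' _).2 (hle (Ideal.mem_map_of_mem _ hmem))
      rw [map_sub, map_sub, ← IsScalarTower.algebraMap_apply k B A, AlgHom.commutes, sub_eq_zero] at this
      exact this
    obtain ⟨x', rfl⟩ := lift x
    obtain ⟨y', rfl⟩ := lift y
    rw [← hmulB, ← hmulB, hc]
  haveI : Coalgebra.IsCocomm k B := by
    refine ⟨LinearMap.ext fun b => ?_⟩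
    refine tensor_ext fun x y => ?_
    have e1 : ∀ t : B ⊗[k] B, Algebra.TensorProduct.lift x y (fun _ _ => Commute.all _ _) ((TensorProduct.comm k B B) t) =
        Algebra.TensorProduct.lift y x (fun _ _ => Commute.all _ _) t := by
      intro t
      induction t with
      | zero => simp
      | add u v hu hv => simp only [map_add, hu, hv]
      | tmul u v => simp [_root_.mul_comm]
    show Algebra.TensorProduct.lift x y _ ((TensorProduct.comm k B B) (Coalgebra.comul (R := k) b)) = _
    rw [e1, ← AlgHom.convMul_apply (toConv y) (toConv x), hcB, AlgHom.convMul_apply]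
  let πB : Sp (k := k) A ⟶ Q := Spec.mapMulEquiv (toConv B.val)
  haveI hπBhom : IsMonHom πB := isMonHom_of_points _ fun T x y => by
    obtain ⟨f, rfl⟩ := ptHom_surjective T x
    obtain ⟨g, rfl⟩ := ptHom_surjective T y
    simp only [πB]
    rw [← ptHom_mul, ptHom_comp_map, ptHom_comp_map, ptHom_comp_map, ← ptHom_mul]
    congr 1
    exact hmulB f g
  haveI : IsMonHom e.hom := he
  haveI : IsMonHom e.inv := isMonHom_of_points _ fun T x y => by
    rw [← cancel_mono e.hom, MonObj.mul_comp]

  let W := WittGrp.W p 1 Sk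
  let u : Γ(W.left, ⊤) := c0 (𝟙 W)
  let i₀ : W ⟶ Sp (k := k) A := ptHom W (toConv ((Polynomial.aeval u).comp π₀))
  have hi₀ : ∀ {T : Over Sk} (z : T ⟶ W), z ≫ i₀ = ptHom T (toConv ((Polynomial.aeval (c0 z)).comp π₀)) := by
    intro T z
    rw [show i₀ = ptHom W (toConv ((Polynomial.aeval u).comp π₀)) from rfl, comp_ptHom']
    congr 2
    rw [ofConv_toConv, ← AlgHom.comp_assoc]
    congr 1
    refine Polynomial.algHom_ext ?_
    rw [AlgHom.comp_apply, Polynomial.aeval_X, Polynomial.aeval_X]
    show z.left.appTop (c0 (𝟙 W)) = c0 z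
    rw [c0, ← coeff_vec_comp, Category.comp_id]
  let D : k[X] →ₐ[k] k[X] ⊗[k] k[X] := Polynomial.aeval (Polynomial.X ⊗ₜ 1 + 1 ⊗ₜ Polynomial.X)
  have hD : ∀ a : A, Algebra.TensorProduct.map π₀ π₀ (Coalgebra.comul (R := k) a) = D (π₀ a) := by
    intro a
    refine tensor_ext fun x y => ?_
    have hx : ∀ z : k[X] →ₐ[k] k, z = Polynomial.aeval (z Polynomial.X) := fun z =>
      Polynomial.algHom_ext (by rw [Polynomial.aeval_X])
    have e2 : (Algebra.TensorProduct.lift x y (fun _ _ => Commute.all _ _)).comp D =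
        Polynomial.aeval (x Polynomial.X + y Polynomial.X) := Polynomial.algHom_ext (by simp [D])
    rw [← AlgHom.comp_apply _ (Algebra.TensorProduct.map π₀ π₀),
      show (Algebra.TensorProduct.lift x y (fun _ _ => Commute.all _ _)).comp (Algebra.TensorProduct.map π₀ π₀) =
        Algebra.TensorProduct.lift (x.comp π₀) (y.comp π₀) (fun _ _ => Commute.all _ _) from
          Algebra.TensorProduct.ext' fun u v => by simp,
      ← AlgHom.convMul_apply (toConv (x.comp π₀)) (toConv (y.comp π₀)), ← AlgHom.comp_apply _ D, e2,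
      hx x, hx y, hadd]
    simp
  have haddR : ∀ {R : Type u} [CommRing R] [Algebra k R] (a b : R),
      toConv ((Polynomial.aeval a).comp π₀) * toConv ((Polynomial.aeval b).comp π₀) =
        toConv ((Polynomial.aeval (a + b)).comp π₀) := by
    intro R _ _ a b
    refine WithConv.ofConv_injective (AlgHom.ext fun c => ?_)
    show (toConv _ * toConv _ : WithConv (A →ₐ[k] R)) c = Polynomial.aeval (a + b) (π₀ c)
    rw [AlgHom.convMul_apply,
      show Algebra.TensorProduct.lift ((Polynomial.aeval a).comp π₀) ((Polynomial.aeval b).comp π₀)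
          (fun _ _ => Commute.all _ _) =
        (Algebra.TensorProduct.lift (Polynomial.aeval a) (Polynomial.aeval b) (fun _ _ => Commute.all _ _)).comp
          (Algebra.TensorProduct.map π₀ π₀) from Algebra.TensorProduct.ext' fun u v => by simp,
      AlgHom.comp_apply, hD, ← AlgHom.comp_apply,
      show (Algebra.TensorProduct.lift (Polynomial.aeval a) (Polynomial.aeval b) (fun _ _ => Commute.all _ _)).comp D =
        Polynomial.aeval (a + b) from Polynomial.algHom_ext (by simp [D])]
  haveI hi₀hom : IsMonHom i₀ := isMonHom_of_points _ fun T x y => by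
    rw [hi₀, hi₀, hi₀, ← ptHom_mul, haddR, c0_mul]
  let i : W ⟶ G := i₀ ≫ e.hom
  let π : G ⟶ Q := e.inv ≫ πB
  haveI hih : IsMonHom i := inferInstanceAs (IsMonHom (i₀ ≫ e.hom))
  haveI hπh : IsMonHom π := inferInstanceAs (IsMonHom (e.inv ≫ πB))
  have hker' : AlgGrp.IsKernel i π := by
    have hcomp : ∀ b : B, π₀ (b : A) = Polynomial.C (Coalgebra.counit (R := k) (b : A)) := fun b => hπB b b.2
    have hw : i₀ ≫ πB = 1 := by
      simp only [i₀, πB]
      rw [ptHom_comp_map, ← ptHom_one]
      congr 1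
      refine WithConv.ofConv_injective (AlgHom.ext fun b => ?_)
      show Polynomial.aeval u (π₀ (b : A)) = algebraMap k _ (Coalgebra.counit (R := k) (b : A))
      rw [hcomp, Polynomial.aeval_C]
    have w : i ≫ π = toUnit _ ≫ η[Q] := by
      rw [← Hom.one_def]
      simp only [i, π, Category.assoc, Iso.hom_inv_id_assoc]
      exact hw
    have hex : ∀ s : PullbackCone π η[Q], ∃ l : s.pt ⟶ W, l ≫ i = s.fst := by
      intro s
      obtain ⟨f, hf⟩ := ptHom_surjective (A := A) s.pt (s.fst ≫ e.inv)
      have h1 : ptHom s.pt f ≫ πB = 1 := by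
        rw [hf, Category.assoc]
        exact s.condition.trans (by rw [Hom.one_def]; congr 1; exact toUnit_unique _ _)
      simp only [πB] at h1
      rw [ptHom_comp_map, ← ptHom_one] at h1
      have h2 := congrArg WithConv.ofConv (ptHom_injective _ h1)
      have hle : RingHom.ker π₀ ≤ RingHom.ker f.ofConv := hker.trans (Ideal.map_le_iff_le_comap.2 fun b hb => by
        have hb' : Coalgebra.counit (R := k) (b : A) = 0 := hb
        show f.ofConv (b : A) = 0
        have := congr($h2 b)
        simp only [AlgHom.comp_apply] at this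
        refine this.trans ?_
        show algebraMap k _ (Coalgebra.counit (R := k) (b : A)) = 0
        rw [hb', map_zero])
      let φ : k[X] →ₐ[k] Γ(s.pt.left, ⊤) := (Ideal.Quotient.liftₐ (RingHom.ker π₀) f.ofConv hle).comp
        (Ideal.quotientKerAlgEquivOfSurjective hπ).symm.toAlgHom
      have hφ : φ.comp π₀ = f.ofConv := AlgHom.ext fun a => by
        show Ideal.Quotient.liftₐ _ f.ofConv hle ((Ideal.quotientKerAlgEquivOfSurjective hπ).symm
          (Ideal.quotientKerAlgEquivOfSurjective hπ (Ideal.Quotient.mk _ a))) = _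
        rw [AlgEquiv.symm_apply_apply]
        rfl
      refine ⟨ofVec (TruncatedWittVector.mk p fun _ => φ Polynomial.X), ?_⟩
      rw [← cancel_mono e.inv, ← hf]
      simp only [i, Category.assoc, Iso.hom_inv_id, Category.comp_id]
      rw [hi₀]
      congr 1
      refine WithConv.ofConv_injective ?_
      rw [ofConv_toConv, ← hφ]
      congr 1
      refine Polynomial.algHom_ext ?_
      rw [Polynomial.aeval_X, c0, vec_ofVec, TruncatedWittVector.coeff_mk]
    choose l hl using hex
    refine ⟨⟨w⟩, ⟨PullbackCone.IsLimit.mk w l hl (fun s => toUnit_unique _ _) fun s l' h' _ => ?_⟩⟩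
    have h3 : l' ≫ i₀ = l s ≫ i₀ := by
      rw [← cancel_mono e.hom, Category.assoc, Category.assoc]
      exact h'.trans (hl s).symm
    rw [hi₀, hi₀] at h3
    have h4 := congrArg WithConv.ofConv (ptHom_injective _ h3)
    obtain ⟨a, ha⟩ := hπ Polynomial.X
    have h5 := congr($h4 a)
    simp only [AlgHom.comp_apply, ha, Polynomial.aeval_X] at h5
    exact ext_c0 h5
  haveI : IsAffine Q.left := inferInstanceAs (IsAffine (Spec (CommRingCat.of B)))
  haveI hQint : IsIntegral Q.left := (affine_isIntegral_iff (CommRingCat.of B)).2 (inferInstanceAs (IsDomain B))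
  haveI hQlft : LocallyOfFiniteType Q.hom := by
    show LocallyOfFiniteType (Spec.map (CommRingCat.ofHom (algebraMap k B)))
    rw [HasRingHomProperty.Spec_iff (P := @LocallyOfFiniteType)]
    exact RingHom.finiteType_algebraMap.2 hBft
  haveI : IsSeparated Q.hom := inferInstance
  haveI : IsIso e.inv.left := inferInstanceAs (IsIso ((Over.forget _).map e.inv))
  have hflatB : Flat πB.left := by
    show Flat (Spec.map (CommRingCat.ofHom B.val.toRingHom))
    rw [HasRingHomProperty.Spec_iff (P := @Flat)]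
    show RingHom.Flat (algebraMap B A)
    exact RingHom.flat_algebraMap_iff.2 hff.toFlat
  have hsurjB : Surjective πB.left := by
    refine ⟨fun P => ?_⟩
    obtain ⟨P', hP'⟩ := PrimeSpectrum.comap_surjective_of_faithfullyFlat (A := B) (B := A) P
    exact ⟨P', hP'⟩
  have hπflat : Flat π.left := by
    haveI := hflatB
    show Flat (e.inv.left ≫ πB.left)
    infer_instance
  have hπsurj : Surjective π.left := by
    haveI := hsurjB
    show Surjective (e.inv.left ≫ πB.left)
    infer_instance
  have hQm : (𝟙 Q : Q ⟶ Q) ^ (p ^ (m + 1)) = 1 := (pow_id_eq_one_iff (A := B) _).2 fun b => Subtype.ext (by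
    rw [hpowB, (hkill _).2 hm]; rfl)
  haveI : Smooth Q.hom := GrpScheme.Smooth.smooth_of_perfectField Q
  refine ⟨Q, inferInstance, inferInstance, i, π, hih, hπh, isClosedImmersion_left_of_isKernel hker', hπflat,
    hπsurj, hker', ⟨inferInstance, hQlft, hQint, m + 1, hQm⟩, inferInstance, hQm, ?_, fun hnm => ?_⟩
  · have hQdim : topologicalKrullDim Q.left = ringKrullDim B :=
      PrimeSpectrum.topologicalKrullDim_eq_ringKrullDim B
    have h1 : ringKrullDim B + 1 ≤ (n : WithBot ℕ∞) := hdimB.trans hn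
    have h0 : (0 : WithBot ℕ∞) ≤ ringKrullDim B := ringKrullDim_nonneg_of_nontrivial
    obtain ⟨n', rfl⟩ : ∃ n', n = n' + 1 := by
      refine Nat.exists_eq_succ_of_ne_zero fun h => ?_
      subst h
      exact absurd (le_trans (add_le_add h0 (le_refl (1 : WithBot ℕ∞))) h1) (by simp)
    refine ⟨n', rfl, hQdim ▸ ?_⟩
    push_cast at h1
    generalize ringKrullDim B = d at h1 ⊢
    induction d with
    | bot => exact bot_le
    | coe e =>
      have h2 : e + 1 ≤ (n' : ℕ∞) + 1 := by exact_mod_cast h1
      have h3 : e ≤ (n' : ℕ∞) := (ENat.add_le_add_iff_right ENat.one_ne_top).1 h2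
      exact_mod_cast h3
  · refine (pow_id_eq_one_iff (A := B) _).2 fun b => Subtype.ext ?_
    rw [hpowB]
    have hmem : (b : A) - algebraMap k A (Coalgebra.counit (R := k) (b : A)) ∈ RingHom.ker π₀ := by
      rw [RingHom.mem_ker, map_sub, hπB _ b.2, AlgHom.commutes, Polynomial.algebraMap_eq, sub_self]
    rw [hkereq hnm, RingHom.mem_ker, map_sub, AlgHom.commutes, sub_eq_zero] at hmem
    exact hmem

end Groth.Agent.UnipLib
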