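import Groth.Agent.UnipLib.Chars
import Groth.Agent.HopfSub.Basic
import Mathlib.LinearAlgebra.FreeModule.PID
import Mathlib.LinearAlgebra.FreeModule.Finite.Basic
import Mathlib.RingTheory.MvPolynomial.Basic
import Mathlib.FieldTheory.IsAlgClosed.Basic
import Mathlib.GroupTheory.Finiteness

/-! A high `p`-power of a connected commutative affine group factors through a torus subgroup. -/

set_option autoImplicit false
set_option linter.style.haveILetI false
universe u
open scoped TensorProduct
open WithConv

namespace Groth.Agent.UnipLib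

variable {k : Type u} [Field k] [IsAlgClosed k] {A : Type u} [CommRing A] [HopfAlgebra k A]
  [Algebra.FiniteType k A] [IsDomain A] (p : ℕ) [Fact p.Prime] [CharP k p]

omit [Algebra.FiniteType k A] in
lemma eq_one_of_pow_eq_one {l : A} (hl : IsGroupLikeElem k l) {n : ℕ} (hn : n ≠ 0) (h : l ^ n = 1) : l = 1 := by
  open Polynomial in
  let f : k[X] := X ^ n - C 1
  have hf : f.Monic := monic_X_pow_sub_C 1 hn
  have e := (IsAlgClosed.splits f).eq_prod_roots_of_monic hf
  have h0 : aeval l f = 0 := by simp [f, h]
  rw [e, map_multiset_prod, Multiset.prod_eq_zero_iff, Multiset.map_map] at h0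
  obtain ⟨c, -, hc⟩ := Multiset.mem_map.1 h0
  simp only [Function.comp_apply, map_sub, aeval_X, aeval_C, sub_eq_zero] at hc
  have := hl.counit_eq_one
  rw [hc, Bialgebra.counit_algebraMap] at this
  rw [hc, this, map_one]

/-- A high `p`-power map factors as a surjection onto a Laurent algebra followed by an injection. -/
theorem exists_torus (hc : PtsComm k A) : ∃ (r m : ℕ) (ι : Multiplicative (Fin m → ℤ) →* A)
    (ψ : A →ₐ[k] MonoidAlgebra k (Multiplicative (Fin m → ℤ))), Function.Surjective ψ ∧
    (MonoidAlgebra.lift k A _ ι).comp ψ = powMap k (p ^ r) ∧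
    ∀ {R : Type u} [CommRing R] [Algebra k R] (a b : Multiplicative (Fin m → ℤ) →* R),
      toConv ((MonoidAlgebra.lift k R _ a).comp ψ) * toConv ((MonoidAlgebra.lift k R _ b).comp ψ) =
        toConv ((MonoidAlgebra.lift k R _ (a * b)).comp ψ) := by
  classical
  obtain ⟨s, hs⟩ := (inferInstance : Algebra.FiniteType k A).out
  obtain ⟨r, hr⟩ := exists_pow_mem_span (k := k) p hc s
  set P := p ^ r
  let L := {l : A | IsGroupLikeElem k l ∧ ∃ w, powMap k P w = l}
  choose T hT hTs using fun a : {a // a ∈ s} => Submodule.mem_span_finite_of_mem_span (hr a a.2)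
  let L0 : Finset A := s.attach.biUnion T
  have hL0 : ∀ l ∈ L0, l ∈ L := fun l hl => by
    obtain ⟨a, -, hla⟩ := Finset.mem_biUnion.1 hl
    exact hT a hla
  let Λ : Finset (GroupLike k A) := L0.attach.image fun l => ⟨l.1, (hL0 l.1 l.2).1⟩
  let M : Subgroup (GroupLike k A) := Subgroup.closure (Λ : Set (GroupLike k A))
  haveI hfg : Group.FG M := Group.closure_finset_fg Λ
  haveI : IsAddTorsionFree (Additive M) := by
    refine ⟨fun n hn x y hxy => ?_⟩
    have h1 : Additive.toMul x ^ n = Additive.toMul y ^ n := congrArg Additive.toMul hxy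
    have h2 : (Additive.toMul x * (Additive.toMul y)⁻¹) ^ n = 1 := by rw [mul_pow, inv_pow, h1, mul_inv_cancel]
    have h3 : ((Additive.toMul x * (Additive.toMul y)⁻¹ : M) : GroupLike k A).val ^ n = 1 := by
      have h := congrArg (fun q : M => ((q : GroupLike k A).val)) h2
      simpa using h
    have h4 : (Additive.toMul x * (Additive.toMul y)⁻¹ : M) = 1 :=
      Subtype.ext (GroupLike.ext (eq_one_of_pow_eq_one (Additive.toMul x * (Additive.toMul y)⁻¹ : M).1.2 hn h3))
    exact Additive.toMul.injective (mul_inv_eq_one.1 h4)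
  haveI : Module.Finite ℤ (Additive M) := Module.Finite.iff_addGroup_fg.2 inferInstance
  haveI : Module.Free ℤ (Additive M) := Module.free_of_finite_type_torsion_free'
  let m := Module.finrank ℤ (Additive M)
  let e : Additive M ≃ₗ[ℤ] (Fin m → ℤ) := (Module.finBasis ℤ (Additive M)).equivFun
  let ι : Multiplicative (Fin m → ℤ) →* A :=
    { toFun := fun z => ((Additive.toMul (e.symm (Multiplicative.toAdd z)) : M) : GroupLike k A).val
      map_one' := by simp
      map_mul' := fun a b => by simp }
  let ιh := MonoidAlgebra.lift k A _ ι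
  have hιgl : ∀ z, IsGroupLikeElem k (ι z) := fun z => ((Additive.toMul (e.symm _) : M) : GroupLike k A).2
  have hιinj : Function.Injective ι := fun a b h => by
    have h' := GroupLike.ext h
    exact Multiplicative.toAdd.injective (e.symm.injective (Additive.toMul.injective (Subtype.ext h')))
  have hinj : Function.Injective ιh := by
    have hli : LinearIndependent k (fun z => ι z) := by
      have := (linearIndep_groupLikeVal (R := k) (A := A)).comp
        (fun z : Multiplicative (Fin m → ℤ) => (⟨ι z, hιgl z⟩ : GroupLike k A))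
        (fun a b h => hιinj (congrArg GroupLike.val h))
      exact this
    intro a b h
    apply MonoidAlgebra.coeff_injective
    apply hli
    simpa only [ιh, Finsupp.linearCombination_apply, MonoidAlgebra.lift_apply] using h
  have hιM : ∀ g : M, (g : GroupLike k A).val = ιh (MonoidAlgebra.single (Multiplicative.ofAdd (e (Additive.ofMul g))) 1) := by
    intro g
    simp [ιh, ι]
  -- the range
  have hrange : ∀ a, powMap k P a ∈ ιh.range := by
    intro a
    have htop : (⊤ : Subalgebra k A) ≤ Subalgebra.comap (powMap k P) ιh.range := by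
      rw [← hs]
      refine Algebra.adjoin_le fun x hx => ?_
      show powMap k P x ∈ ιh.range
      have h1 : Submodule.span k (T ⟨x, hx⟩ : Set A) ≤ Subalgebra.toSubmodule ιh.range := by
        refine Submodule.span_le.2 fun l hl => ?_
        have hl0 : l ∈ L0 := Finset.mem_biUnion.2 ⟨⟨x, hx⟩, Finset.mem_attach _ _, hl⟩
        have hlM : (⟨l, (hL0 l hl0).1⟩ : GroupLike k A) ∈ M :=
          Subgroup.subset_closure (Finset.mem_coe.2 (Finset.mem_image.2 ⟨⟨l, hl0⟩, Finset.mem_attach _ _, rfl⟩))
        exact ⟨_, (hιM ⟨_, hlM⟩).symm⟩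
      exact h1 (hTs ⟨x, hx⟩)
    exact htop Algebra.mem_top
  let ψ : A →ₐ[k] MonoidAlgebra k (Multiplicative (Fin m → ℤ)) :=
    (AlgEquiv.ofInjective ιh hinj).symm.toAlgHom.comp ((powMap k P).codRestrict ιh.range hrange)
  have hψ : ∀ a, ιh (ψ a) = powMap k P a := fun a =>
    congrArg Subtype.val ((AlgEquiv.ofInjective ιh hinj).apply_symm_apply ⟨_, hrange a⟩)
  -- powMap commutes with the antipode
  have hS : ∀ a, powMap k P (HopfAlgebra.antipodeAlgHom k A a) = HopfAlgebra.antipodeAlgHom k A (powMap k P a) := by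
    intro a
    refine ext_pts (k := k) fun x => ?_
    rw [pt_powMap]
    show _ = (x.comp (HopfAlgebra.antipodeAlgHom k A)) (powMap k P a)
    rw [pt_powMap]
    show ((toConv x ^ P)⁻¹) a = ((toConv x)⁻¹ ^ P) a
    rw [inv_pow]
  refine ⟨r, m, ι, ψ, ?_, AlgHom.ext hψ, ?_⟩
  · have hmem : ∀ g : GroupLike k A, g ∈ M → ∃ w, powMap k P w = g.val := by
      intro g hg
      induction hg using Subgroup.closure_induction with
      | mem g hg =>
        obtain ⟨l, -, rfl⟩ := Finset.mem_image.1 (Finset.mem_coe.1 hg)
        exact (hL0 l.1 l.2).2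
      | one => exact ⟨1, map_one _⟩
      | mul a b _ _ ha hb =>
        obtain ⟨u, hu⟩ := ha; obtain ⟨v, hv⟩ := hb
        exact ⟨u * v, by rw [map_mul, hu, hv]; rfl⟩
      | inv a _ ha =>
        obtain ⟨u, hu⟩ := ha
        exact ⟨HopfAlgebra.antipodeAlgHom k A u, by rw [hS, hu]; rfl⟩
    intro z
    induction z using MonoidAlgebra.induction_linear with
    | zero => exact ⟨0, map_zero _⟩
    | add f g hf hg =>
      obtain ⟨u, rfl⟩ := hf; obtain ⟨v, rfl⟩ := hg
      exact ⟨u + v, map_add _ _ _⟩
    | single z c =>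
      obtain ⟨w, hw⟩ := hmem _ (Additive.toMul (e.symm (Multiplicative.toAdd z)) : M).2
      refine ⟨c • w, hinj ?_⟩
      rw [map_smul, map_smul, hψ, hw]
      simp [ιh, ι]
  · intro R _ _ a b
    let ga := MonoidAlgebra.lift k R _ a
    let gb := MonoidAlgebra.lift k R _ b
    let D : MonoidAlgebra k (Multiplicative (Fin m → ℤ)) →ₐ[k]
        MonoidAlgebra k (Multiplicative (Fin m → ℤ)) ⊗[k] MonoidAlgebra k (Multiplicative (Fin m → ℤ)) :=
      MonoidAlgebra.lift k _ _
        { toFun := fun z => MonoidAlgebra.single z 1 ⊗ₜ MonoidAlgebra.single z 1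
          map_one' := by rw [← MonoidAlgebra.one_def]; rfl
          map_mul' := fun x y => by
            rw [Algebra.TensorProduct.tmul_mul_tmul, MonoidAlgebra.single_mul_single, _root_.mul_one] }
    have hD : (Algebra.TensorProduct.map ιh ιh).comp D = (Bialgebra.comulAlgHom k A).comp ιh := by
      refine MonoidAlgebra.algHom_ext (fun z => ?_) ?_
      · simp only [AlgHom.comp_apply, D, ιh, MonoidAlgebra.lift_single, one_smul, MonoidHom.coe_mk, OneHom.coe_mk,
          Algebra.TensorProduct.map_tmul, Bialgebra.comulAlgHom_apply, (hιgl z).comul_eq_tmul_self]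
      · exact Algebra.ext_id _ _ _
    have hΦ : (Algebra.TensorProduct.lift ga gb (fun _ _ => Commute.all _ _)).comp D = MonoidAlgebra.lift k R _ (a * b) := by
      refine MonoidAlgebra.algHom_ext (fun z => ?_) ?_
      · simp [D, ga, gb]
      · exact Algebra.ext_id _ _ _
    refine WithConv.ofConv_injective (AlgHom.ext fun c => ?_)
    show (toConv (ga.comp ψ) * toConv (gb.comp ψ)) c = MonoidAlgebra.lift k R _ (a * b) (ψ c)
    have hψΔ : Algebra.TensorProduct.map ψ ψ (Coalgebra.comul (R := k) c) = D (ψ c) := by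
      refine HopfSub.map_injective ιh ιh hinj hinj ?_
      rw [← AlgHom.comp_apply, ← Algebra.TensorProduct.map_comp, ← AlgHom.comp_apply _ D, hD,
        AlgHom.comp_apply, show ιh.comp ψ = powMap k P from AlgHom.ext hψ, hψ]
      refine tensor_ext fun x y => ?_
      show Algebra.TensorProduct.lift x y _ (Algebra.TensorProduct.map (powMap k P : A →ₐ[k] A) (powMap k P : A →ₐ[k] A) _) =
        Algebra.TensorProduct.lift x y _ (Coalgebra.comul (R := k) (powMap k P c))
      rw [← AlgHom.comp_apply, show (Algebra.TensorProduct.lift x y (fun _ _ => Commute.all _ _)).comp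
        (Algebra.TensorProduct.map (powMap k P : A →ₐ[k] A) (powMap k P : A →ₐ[k] A)) =
        Algebra.TensorProduct.lift (x.comp (powMap k P)) (y.comp (powMap k P)) (fun _ _ => Commute.all _ _) from
          Algebra.TensorProduct.ext' fun u v => by simp]
      rw [← AlgHom.convMul_apply (toConv (x.comp _)) (toConv (y.comp _)), comp_powMap, comp_powMap,
        ← AlgHom.convMul_apply (toConv x) (toConv y), toConv_ofConv, toConv_ofConv]
      show _ = (toConv x * toConv y).ofConv (powMap k P c)
      rw [pt_powMap, toConv_ofConv, Commute.mul_pow (hc _ _)]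
    rw [← hΦ, AlgHom.comp_apply, ← hψΔ, AlgHom.convMul_apply, ← AlgHom.comp_apply]
    have e : (Algebra.TensorProduct.lift ga gb (fun _ _ => Commute.all _ _)).comp (Algebra.TensorProduct.map ψ ψ) =
        Algebra.TensorProduct.lift (ga.comp ψ) (gb.comp ψ) (fun _ _ => Commute.all _ _) :=
      Algebra.TensorProduct.ext' fun u v => by simp
    rw [e]

end Groth.Agent.UnipLib
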