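import Groth.Agent.UnipLib.Basic
import Mathlib.RingTheory.HopfAlgebra.Convolution
import Groth.Agent.HopfSub.Main
import Groth.Agent.WittExt.Amitsur

/-! Hopf subalgebras are cut out by their points. -/

set_option autoImplicit false
set_option linter.style.haveILetI false
universe u
open scoped TensorProduct
open WithConv

namespace Groth.Agent.UnipLib

variable {k : Type u} [Field k] {A : Type u} [CommRing A] [HopfAlgebra k A] {B : Subalgebra k A}

theorem faithfullyFlat (hB : SGA3.IsHopfSubalgebra k A B) : Module.FaithfullyFlat ↥B A := by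
  letI := HopfSub.hopfAlgebra hB
  exact HopfSub.faithfullyFlat (HopfSub.incl hB) (fun b => rfl) Subtype.val_injective

lemma mul_comp_antipode {R : Type u} [CommRing R] [Algebra k R] (x : A →ₐ[k] R) :
    toConv x * toConv (x.comp (HopfAlgebra.antipodeAlgHom k A)) = 1 := by
  have h : toConv (AlgHom.id k A) * toConv (HopfAlgebra.antipodeAlgHom k A) = 1 :=
    mul_eq_one_comm.1 AlgHom.antipode_id_cancel
  apply WithConv.ofConv_injective
  have e := congrArg (fun q => x.comp (WithConv.ofConv q)) h
  simp only [AlgHom.comp_convMul_distrib, ofConv_toConv, AlgHom.comp_id] at e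
  exact e.trans (AlgHom.ext fun a => x.commutes _)

/-- An element taking equal values at points equal on a Hopf subalgebra lies in it. -/
theorem mem_of_forall_pts (hB : SGA3.IsHopfSubalgebra k A B) {b : A}
    (h : ∀ (R : Type u) [CommRing R] [Algebra k R] (x y : A →ₐ[k] R), (∀ c ∈ B, x c = y c) → x b = y b) :
    b ∈ B := by
  haveI := faithfullyFlat hB
  let l : A →ₐ[k] A ⊗[↥B] A :=
    (Algebra.TensorProduct.includeLeft : A →ₐ[↥B] A ⊗[↥B] A).restrictScalars k
  let r : A →ₐ[k] A ⊗[↥B] A :=
    (Algebra.TensorProduct.includeRight : A →ₐ[↥B] A ⊗[↥B] A).restrictScalars k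
  obtain ⟨a, ha⟩ := WittExt.Amitsur.exists_of_invariant (A := ↥B) (B := A) (b := b)
    (h (A ⊗[↥B] A) l r fun c hc => by
      show (Algebra.TensorProduct.includeLeft : A →ₐ[↥B] A ⊗[↥B] A) (algebraMap ↥B A ⟨c, hc⟩) =
        (Algebra.TensorProduct.includeRight : A →ₐ[↥B] A ⊗[↥B] A) (algebraMap ↥B A ⟨c, hc⟩)
      rw [AlgHom.commutes, AlgHom.commutes])
  exact ha ▸ a.2

/-- Contraction of an ideal along a Hopf subalgebra. -/
theorem comap_map (hB : SGA3.IsHopfSubalgebra k A B) (I : Ideal ↥B) :
    (I.map (algebraMap ↥B A)).comap (algebraMap ↥B A) = I := by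
  haveI := faithfullyFlat hB
  exact Ideal.comap_map_eq_self_of_faithfullyFlat I

end Groth.Agent.UnipLib
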