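import Groth.Agent.UnipLib.Inverse
import Groth.Agent.GrpScheme.SubgroupObj
import Mathlib.AlgebraicGeometry.Sites.Fpqc

/-! Descent along covers of schemes over a field, and kernels as group objects. -/

set_option autoImplicit false
set_option linter.style.haveILetI false
universe u

open CategoryTheory CategoryTheory.Limits AlgebraicGeometry MonoidalCategory CartesianMonoidalCategory MonObj

namespace Groth.Agent.UnipLib

open Groth.Agent.WittLib.Basic

variable {k : Type u} [Field k]

local notation "Sk" => Spec (CommRingCat.of k)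

/-- A morphism that is flat, surjective and quasi-compact. -/
structure Cover {K L : Over (Spec (CommRingCat.of k))} (q : K ⟶ L) : Prop where
  flat : Flat q.left
  surj : Surjective q.left
  qc : QuasiCompact q.left

variable {K L X : Over (Spec (CommRingCat.of k))} {q : K ⟶ L}

lemma Cover.epi (h : Cover q) : Epi q := by
  haveI := h.flat; haveI := h.surj
  haveI : Epi q.left := Flat.epi_of_flat_of_surjective q.left
  exact Over.epi_of_epi_left q

lemma Cover.comp {M : Over (Spec (CommRingCat.of k))} {r : L ⟶ M} (h : Cover q) (h' : Cover r) :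
    Cover (q ≫ r) := by
  haveI := h.flat; haveI := h.surj; haveI := h.qc; haveI := h'.flat; haveI := h'.surj; haveI := h'.qc
  exact ⟨by rw [Over.comp_left]; infer_instance, by rw [Over.comp_left]; infer_instance,
    by rw [Over.comp_left]; infer_instance⟩

lemma Cover.exists_desc (h : Cover q) (f : K ⟶ X)
    (hf : ∀ {T : Over Sk} (a b : T ⟶ K), a ≫ q = b ≫ q → a ≫ f = b ≫ f) :
    ∃ g : L ⟶ X, q ≫ g = f := by
  haveI := h.flat; haveI := h.surj; haveI := h.qc
  have hcond : ∀ {T : Scheme.{u}} (a b : T ⟶ K.left), a ≫ q.left = b ≫ q.left → a ≫ f.left = b ≫ f.left := by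
    intro T a b e
    have eb : b ≫ K.hom = a ≫ K.hom := by rw [← Over.w q, ← Category.assoc, ← e, Category.assoc]
    exact congrArg CommaMorphism.left (hf (T := Over.mk (a ≫ K.hom)) (Over.homMk a rfl) (Over.homMk b eb)
      (Over.OverMorphism.ext e))
  let g₀ : L.left ⟶ X.left := EffectiveEpi.desc q.left f.left hcond
  have hg₀ : q.left ≫ g₀ = f.left := EffectiveEpi.fac q.left f.left hcond
  haveI : Epi q.left := Flat.epi_of_flat_of_surjective q.left
  exact ⟨Over.homMk g₀ (by rw [← cancel_epi q.left, ← Category.assoc, hg₀, Over.w, Over.w]),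
    Over.OverMorphism.ext hg₀⟩

lemma Cover.exists_cover (h : Cover q) {T : Over (Spec (CommRingCat.of k))} (x : T ⟶ L) :
    ∃ (T' : Over (Spec (CommRingCat.of k))) (r : T' ⟶ T) (y : T' ⟶ K), Cover r ∧ y ≫ q = r ≫ x := by
  haveI := h.flat; haveI := h.surj; haveI := h.qc
  have hsq := (IsPullback.of_hasPullback x q).map (Over.forget Sk)
  exact ⟨pullback x q, pullback.fst x q, pullback.snd x q,
    ⟨MorphismProperty.of_isPullback hsq.flip h.flat, MorphismProperty.of_isPullback hsq.flip h.surj,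
      MorphismProperty.of_isPullback hsq.flip h.qc⟩, pullback.condition.symm⟩

lemma Cover.isMonHom [GrpObj K] [GrpObj L] [GrpObj X] [IsMonHom q] (h : Cover q) (g : L ⟶ X)
    (hg : IsMonHom (q ≫ g)) : IsMonHom g := by
  refine isMonHom_of_points _ fun T x y => ?_
  obtain ⟨T₁, r₁, x', hr₁, hx'⟩ := h.exists_cover x
  obtain ⟨T₂, r₂, y', hr₂, hy'⟩ := h.exists_cover (r₁ ≫ y)
  haveI := (hr₂.comp hr₁).epi
  haveI := hg
  rw [← cancel_epi (r₂ ≫ r₁), MonObj.comp_mul]
  have e1 : (r₂ ≫ r₁) ≫ x = (r₂ ≫ x') ≫ q := by rw [Category.assoc, Category.assoc, hx']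
  have e2 : (r₂ ≫ r₁) ≫ y = y' ≫ q := by rw [Category.assoc, hy']
  rw [← Category.assoc, MonObj.comp_mul, ← Category.assoc (r₂ ≫ r₁) x g, ← Category.assoc (r₂ ≫ r₁) y g,
    e1, e2, ← MonObj.mul_comp _ _ q, Category.assoc, MonObj.mul_comp _ _ (q ≫ g)]
  simp only [Category.assoc]

/-- A monomorphism which is a cover is an isomorphism. -/
lemma Cover.isIso [Mono q] (h : Cover q) : IsIso q := by
  obtain ⟨g, hg⟩ := h.exists_desc (𝟙 K) (fun a b e => by
    rw [Category.comp_id, Category.comp_id]; exact (cancel_mono q).1 e)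
  haveI := h.epi
  exact ⟨g, hg, by rw [← cancel_epi q, ← Category.assoc, hg, Category.id_comp, Category.comp_id]⟩

/-- Kernels are closed subgroups. -/
theorem exists_kernel_grp {G H : Over (Spec (CommRingCat.of k))} [GrpObj G] [GrpObj H] [IsSeparated H.hom]
    (f : G ⟶ H) [IsMonHom f] :
    ∃ (N : Over Sk) (_ : GrpObj N) (i : N ⟶ G), IsMonHom i ∧ Mono i ∧ IsClosedImmersion i.left ∧ i ≫ f = 1 ∧
      ∀ {T : Over Sk} (x : T ⟶ G), x ≫ f = 1 → ∃ z, z ≫ i = x := by
  let N := pullback f η[H]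
  let i : N ⟶ G := pullback.fst f η[H]
  haveI : IsClosedImmersion η[H].left := by
    haveI : IsClosedImmersion (η[H].left ≫ H.hom) := by
      rw [Over.w]
      exact inferInstanceAs (IsClosedImmersion (𝟙 Sk))
    exact IsClosedImmersion.of_comp η[H].left H.hom
  haveI hi : IsClosedImmersion i.left :=
    MorphismProperty.of_isPullback ((IsPullback.of_hasPullback f η[H]).map (Over.forget Sk)).flip ‹_›
  haveI : Mono i.left := inferInstance
  haveI : Mono i := Over.mono_of_mono_left i
  have hw : i ≫ f = 1 := by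
    rw [Hom.one_def]
    exact pullback.condition.trans (congrArg (· ≫ η[H]) (toUnit_unique _ _))
  have hlift : ∀ {T : Over Sk} (x : T ⟶ G), x ≫ f = 1 → ∃ z, z ≫ i = x := fun {T} x hx =>
    ⟨pullback.lift x (toUnit T) (by rw [hx, Hom.one_def]), pullback.lift_fst _ _ _⟩
  obtain ⟨m, hm⟩ := hlift ((fst N N ≫ i) * (snd N N ≫ i))
    (by rw [MonObj.mul_comp, Category.assoc, Category.assoc, hw, MonObj.comp_one, MonObj.comp_one, _root_.mul_one])
  obtain ⟨o, ho⟩ := hlift (1 : 𝟙_ (Over Sk) ⟶ G) (MonObj.one_comp f)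
  obtain ⟨v, hv⟩ := hlift i⁻¹ (by rw [GrpObj.inv_comp, hw, inv_one])
  obtain ⟨g, hg⟩ := GrpScheme.SubgroupObj.exists_grpObj i
    ⟨m, hm.trans (by
      rw [Hom.mul_def]
      refine congrArg (· ≫ μ[G]) (CartesianMonoidalCategory.hom_ext _ _ ?_ ?_) <;> simp)⟩
    ⟨o, ho.trans (by rw [Hom.one_def, toUnit_unique (toUnit _) (𝟙 _), Category.id_comp])⟩
    ⟨v, hv.trans (Hom.inv_def i)⟩
  exact ⟨N, g, i, hg, inferInstance, hi, hw, hlift⟩

end Groth.Agent.UnipLib
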