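import Groth.Agent.UnipLib.Unipotent
import Groth.Agent.UnipLib.Descent
import Groth.Agent.WittExt.Base
import Groth.Agent.WittLib.AddPoly
import Mathlib.RingTheory.KrullDimension.Basic
import Mathlib.RingTheory.KrullDimension.Zero
import Mathlib.RingTheory.Jacobson.Artinian

/-! A one-dimensional connected group killed by `p` is the additive group. -/

set_option autoImplicit false
set_option linter.style.haveILetI false
universe u
open scoped TensorProduct Polynomial
open WithConv Polynomial

namespace Groth.Agent.UnipLib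

variable {k : Type u} [Field k] {A : Type u} [CommRing A] [HopfAlgebra k A] {p : ℕ}

lemma IsPrim.add {u v : A} (hu : IsPrim k u) (hv : IsPrim k v) : IsPrim k (u + v) := by
  rw [IsPrim, map_add, hu, hv, TensorProduct.add_tmul, TensorProduct.tmul_add]; abel

lemma IsPrim.sub {u v : A} (hu : IsPrim k u) (hv : IsPrim k v) : IsPrim k (u - v) := by
  rw [IsPrim, map_sub, hu, hv, TensorProduct.sub_tmul, TensorProduct.tmul_sub]; abel

lemma IsPrim.smul {v : A} (c : k) (hv : IsPrim k v) : IsPrim k (c • v) := by
  rw [IsPrim, map_smul, hv, smul_add, TensorProduct.smul_tmul', TensorProduct.tmul_smul]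

lemma IsPrim.pow [hp : Fact p.Prime] [CharP k p] {v : A} (hv : IsPrim k v) (i : ℕ) : IsPrim k (v ^ p ^ i) := by
  rcases subsingleton_or_nontrivial (A ⊗[k] A) with h | h
  · exact Subsingleton.elim _ _
  haveI : CharP (A ⊗[k] A) p := charP_of_injective_algebraMap (algebraMap k (A ⊗[k] A)).injective p
  rw [IsPrim, ← Bialgebra.comulAlgHom_apply, map_pow, Bialgebra.comulAlgHom_apply, hv, add_pow_char_pow,
    Algebra.TensorProduct.tmul_pow, Algebra.TensorProduct.tmul_pow, one_pow]

/-- Only monomials of degree a power of `p`. -/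
def IsAdd (p : ℕ) (P : k[X]) : Prop := ∀ i, P.coeff i ≠ 0 → ∃ j, i = p ^ j

lemma IsAdd.natDegree {P : k[X]} (h : IsAdd p P) (h0 : P ≠ 0) : ∃ m, P.natDegree = p ^ m :=
  h _ (leadingCoeff_ne_zero.2 h0)

lemma IsAdd.aeval_add [hp : Fact p.Prime] [CharP k p] {P : k[X]} (h : IsAdd p P) {R : Type u} [CommRing R]
    [Algebra k R] (x y : R) : aeval (x + y) P = aeval x P + aeval y P := by
  rcases subsingleton_or_nontrivial R with hR | hR
  · exact Subsingleton.elim _ _
  haveI : CharP R p := charP_of_injective_algebraMap (algebraMap k R).injective p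
  rw [aeval_eq_sum_range, aeval_eq_sum_range, aeval_eq_sum_range, ← Finset.sum_add_distrib]
  refine Finset.sum_congr rfl fun i _ => ?_
  rcases eq_or_ne (P.coeff i) 0 with h0 | h0
  · simp [h0]
  obtain ⟨j, rfl⟩ := h i h0
  rw [add_pow_char_pow, smul_add]

lemma IsAdd.comp {P : k[X]} [hp : Fact p.Prime] (h : IsAdd p P) (c : k) (e : ℕ) :
    IsAdd p (P.comp (C c * X ^ p ^ e)) := by
  intro i hi
  rw [Polynomial.comp, eval₂_eq_sum_range, finsetSum_coeff] at hi
  obtain ⟨j, -, hj⟩ := Finset.exists_ne_zero_of_sum_ne_zero hi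
  rw [mul_pow, ← C_pow, ← pow_mul, ← mul_assoc, ← C_mul, coeff_C_mul_X_pow] at hj
  split_ifs at hj with hij
  · obtain ⟨a, rfl⟩ := h j (left_ne_zero_of_mul hj)
    exact ⟨e + a, by rw [hij, pow_add]⟩
  · exact absurd rfl hj

variable [IsAlgClosed k] [IsDomain A]

lemma aeval_injective {v : A} (hv : IsPrim k v) (hv0 : v ≠ 0) : Function.Injective (aeval (R := k) v) := by
  rw [injective_iff_map_eq_zero]
  intro f hf
  by_contra hf0
  have e := (IsAlgClosed.splits f).eq_prod_roots
  rw [e, map_mul, aeval_C, map_multiset_prod, Multiset.map_map] at hf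
  rcases mul_eq_zero.1 hf with h | h
  · exact leadingCoeff_ne_zero.2 hf0 ((map_eq_zero_iff _ (algebraMap k A).injective).1 h)
  rw [Multiset.prod_eq_zero_iff] at h
  obtain ⟨c, -, hc⟩ := Multiset.mem_map.1 h
  simp only [Function.comp_apply, map_sub, aeval_X, aeval_C, sub_eq_zero] at hc
  apply hv0
  have := hv.counit_eq_zero
  rw [hc, Bialgebra.counit_algebraMap] at this
  rw [hc, this, map_zero]

omit [IsAlgClosed k] [IsDomain A] in
lemma isHopfSubalgebra_range {v : A} (hv : IsPrim k v) :
    SGA3.IsHopfSubalgebra k A (aeval (R := k) v).range := by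
  set B := (aeval (R := k) v).range
  refine ⟨?_, ?_⟩
  · rintro _ ⟨f, rfl⟩
    have hmem : Coalgebra.comul (R := k) v ∈ (Algebra.TensorProduct.map B.val B.val).range := by
      rw [hv]
      exact ⟨(⟨v, X, aeval_X v⟩ : B) ⊗ₜ 1 + 1 ⊗ₜ (⟨v, X, aeval_X v⟩ : B), by simp⟩
    have : Coalgebra.comul (R := k) (aeval v f) ∈ (Algebra.TensorProduct.map B.val B.val).range := by
      rw [← Bialgebra.comulAlgHom_apply, ← AlgHom.comp_apply,
        show (Bialgebra.comulAlgHom k A).comp (aeval v) = aeval (Coalgebra.comul (R := k) v) from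
          Polynomial.algHom_ext (by simp)]
      exact Algebra.adjoin_le (Set.singleton_subset_iff.2 hmem) (aeval_mem_adjoin_singleton _ _)
    obtain ⟨z, hz⟩ := this
    exact ⟨z, hz⟩
  · rintro _ ⟨f, rfl⟩
    show HopfAlgebra.antipodeAlgHom k A (aeval v f) ∈ B
    have hS : HopfAlgebra.antipodeAlgHom k A v = -v := by
      have h := congr($(AlgHom.antipode_id_cancel (R := k) (A := A)) v)
      rw [hv.pt, AlgHom.convOne_apply, hv.counit_eq_zero, map_zero] at h
      exact eq_neg_of_add_eq_zero_left h
    rw [← AlgHom.comp_apply, show (HopfAlgebra.antipodeAlgHom k A).comp (aeval v) =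
      (aeval (R := k) v).comp (aeval (-X)) from Polynomial.algHom_ext (by simp [hS])]
    exact ⟨_, rfl⟩

section Euclid

variable [hp : Fact p.Prime] [CharP k p]

/-- Two primitive elements with an additive relation are additive polynomials in a single one. -/
theorem exists_gen : ∀ (N : ℕ) (u v : A), IsPrim k u → IsPrim k v → ∀ (P Q : k[X]),
    P.natDegree + Q.natDegree ≤ N → IsAdd p P → IsAdd p Q → P ≠ 0 → Q ≠ 0 → aeval v P = aeval u Q →
    ∃ w, IsPrim k w ∧ u ∈ (aeval (R := k) w).range ∧ v ∈ (aeval (R := k) w).range := by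
  intro N
  induction N using Nat.strong_induction_on with
  | _ N ih =>
    intro u v hu hv P Q hN hP hQ hP0 hQ0 hrel
    obtain ⟨m, hm⟩ := hP.natDegree hP0
    obtain ⟨l, hl⟩ := hQ.natDegree hQ0
    wlog hle : l ≤ m generalizing u v P Q m l
    · obtain ⟨w, h1, h2, h3⟩ := this v u hv hu Q P (by omega) hQ hP hQ0 hP0 hrel.symm l hl m hm (by omega)
      exact ⟨w, h1, h3, h2⟩
    obtain ⟨c, hc⟩ := IsAlgClosed.exists_pow_nat_eq (P.leadingCoeff / Q.leadingCoeff) (pow_pos hp.out.pos l)
    let u' := u - c • v ^ p ^ (m - l)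
    have hu' : IsPrim k u' := hu.sub ((hv.pow _).smul c)
    let M := Q.comp (C c * X ^ p ^ (m - l))
    let P' := P - M
    have hP' : IsAdd p P' := by
      intro i hi
      rw [coeff_sub] at hi
      rcases eq_or_ne (P.coeff i) 0 with h0 | h0
      · rw [h0, zero_sub, neg_ne_zero] at hi
        exact (hQ.comp c _) i hi
      · exact hP i h0
    have hrel' : aeval v P' = aeval u' Q := by
      have e : aeval u Q = aeval u' Q + aeval (c • v ^ p ^ (m - l)) Q := by
        rw [← hQ.aeval_add, sub_add_cancel]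
      rw [map_sub, hrel, e, aeval_comp, map_mul, aeval_C, map_pow, aeval_X, ← Algebra.smul_def,
        add_sub_cancel_right]
    have hgen : ∀ w, IsPrim k w → u' ∈ (aeval (R := k) w).range → v ∈ (aeval (R := k) w).range →
        ∃ w, IsPrim k w ∧ u ∈ (aeval (R := k) w).range ∧ v ∈ (aeval (R := k) w).range := fun w h1 h2 h3 =>
      ⟨w, h1, by
        have : u = u' + c • v ^ p ^ (m - l) := (sub_add_cancel _ _).symm
        rw [this]
        exact add_mem h2 (Subalgebra.smul_mem _ (pow_mem h3 _) c), h3⟩
    by_cases hP'0 : P' = 0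
    · rw [hP'0, map_zero] at hrel'
      have hu'0 : u' = 0 := by
        by_contra h
        exact hQ0 (aeval_injective hu' h (hrel'.symm.trans (map_zero _).symm))
      exact hgen v hv (hu'0 ▸ zero_mem _) ⟨X, aeval_X v⟩
    have hc0 : c ≠ 0 := fun h => by
      rw [h, zero_pow (pow_ne_zero _ hp.out.ne_zero)] at hc
      exact (div_ne_zero (leadingCoeff_ne_zero.2 hP0) (leadingCoeff_ne_zero.2 hQ0)) hc.symm
    have hMdeg : M.natDegree = P.natDegree := by
      rw [natDegree_comp, natDegree_C_mul_X_pow _ _ hc0, hl, hm, ← pow_add, Nat.add_sub_cancel' hle]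
    have hMlead : M.leadingCoeff = P.leadingCoeff := by
      rw [leadingCoeff_comp (by rw [natDegree_C_mul_X_pow _ _ hc0]; exact pow_ne_zero _ hp.out.ne_zero),
        leadingCoeff_C_mul_X_pow, hl, hc, mul_div_cancel₀ _ (leadingCoeff_ne_zero.2 hQ0)]
    have hdeg : P'.natDegree < P.natDegree := by
      rcases Nat.lt_or_ge P'.natDegree P.natDegree with h | h
      · exact h
      exfalso
      have hle2 : P'.natDegree ≤ P.natDegree :=
        (natDegree_sub_le _ _).trans (max_le le_rfl hMdeg.le)
      apply leadingCoeff_ne_zero.2 hP'0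
      rw [leadingCoeff, le_antisymm hle2 h, coeff_sub, ← hMdeg]
      nth_rewrite 1 [hMdeg]
      show P.leadingCoeff - M.leadingCoeff = 0
      rw [hMlead, sub_self]
    obtain ⟨w, h1, h2, h3⟩ := ih (P'.natDegree + Q.natDegree) (by omega) u' v hu' hv P' Q le_rfl hP' hQ hP'0 hQ0 hrel'
    exact hgen w h1 h2 h3

end Euclid

variable [Algebra.FiniteType k A]

section Poly

variable {v : A} (hv : IsPrim k v) (hv0 : v ≠ 0)

include hv hv0 in
lemma poly_ext {f : k[X]} (h : ∀ x : A →ₐ[k] k, f.eval (x v) = 0) : f = 0 := by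
  refine aeval_injective hv hv0 ((eq_zero_of_forall (k := k) fun x => ?_).trans (map_zero _).symm)
  rw [← aeval_algHom_apply]
  exact h x

include hv hv0 in
lemma poly_ext2 {f : k[X][X]}
    (h : ∀ x y : A →ₐ[k] k, WittExt.Lazard.ev (RingHom.id k) (x v) (y v) f = 0) : f = 0 := by
  refine Polynomial.ext fun j => ?_
  rw [coeff_zero]
  refine poly_ext hv hv0 fun x => ?_
  have : f.map (evalRingHom (x v)) = 0 := poly_ext hv hv0 fun y => by
    rw [eval_map]
    exact h x y
  rw [← coe_evalRingHom, ← coeff_map, this, coeff_zero]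

include hv hv0 in
lemma poly_ext3 {f : k[X][X][X]} (h : ∀ x y z : A →ₐ[k] k,
    f.eval₂ (WittExt.Lazard.ev (RingHom.id k) (x v) (y v)) (z v) = 0) : f = 0 := by
  refine Polynomial.ext fun j => ?_
  rw [coeff_zero]
  refine poly_ext2 hv hv0 fun x y => ?_
  have : f.map (WittExt.Lazard.ev (RingHom.id k) (x v) (y v)) = 0 := poly_ext hv hv0 fun z => by
    rw [eval_map]
    exact h x y z
  rw [← coeff_map, this, coeff_zero]

end Poly

variable [hp : Fact p.Prime] [CharP k p]

omit [IsAlgClosed k] [IsDomain A] [Algebra.FiniteType k A] in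
/-- The sum of the Witt carries of `i + 1` for `i < p`. -/
lemma sum_omega : (∑ i ∈ Finset.range p, WittExt.Lazard.ev (RingHom.id k) (i : k) 1
    (WittExt.Lazard.omegaP p k)) = 1 := by
  let S : ℤ := ∑ i ∈ Finset.range p, ∑ j ∈ Finset.Ico 1 p, ((p.choose j / p : ℕ) : ℤ) * (i : ℤ) ^ j * 1 ^ (p - j)
  have hS : (p : ℤ) * S = (p : ℤ) * ((p : ℤ) ^ (p - 1) - 1) := by
    rw [Finset.mul_sum, Finset.sum_congr (s₁ := Finset.range p) rfl fun (i : ℕ) _ => WittExt.Base.sum_choose_div (p := p) (i : ℤ) 1]
    simp only [one_pow]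
    rw [Finset.sum_sub_distrib, show ∑ i ∈ Finset.range p, (((i : ℤ) + 1) ^ p - (i : ℤ) ^ p) = (p : ℤ) ^ p - 0 ^ p from
      by have := Finset.sum_range_sub (fun i : ℕ => ((i : ℤ)) ^ p) p; push_cast at this; exact this]
    rw [zero_pow hp.out.ne_zero, mul_sub, ← pow_succ', Nat.sub_add_cancel hp.out.one_lt.le]
    simp
  have hS' : S = (p : ℤ) ^ (p - 1) - 1 := mul_left_cancel₀ (Nat.cast_ne_zero.2 hp.out.ne_zero) hS
  have hk := congrArg (fun z : ℤ => (z : k)) hS'
  simp only [S, Int.cast_sum, Int.cast_mul, Int.cast_pow, Int.cast_natCast, Int.cast_one, Int.cast_sub,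
    CharP.cast_eq_zero, zero_pow (Nat.sub_ne_zero_of_lt hp.out.one_lt), zero_sub] at hk
  have : ∀ i : ℕ, WittExt.Lazard.ev (RingHom.id k) (i : k) 1 (WittExt.Lazard.omegaP p k) =
      -∑ j ∈ Finset.Ico 1 p, ((p.choose j / p : ℕ) : k) * (i : k) ^ j * 1 ^ (p - j) := fun i => by
    simp [WittExt.Lazard.omegaP, WittExt.Lazard.ev, eval_finsetSum]
  simp only [this, Finset.sum_neg_distrib]
  rw [hk, neg_neg]

/-- A function additive up to a Witt cocycle on a group killed by `p` is additive. -/
theorem isPrim_of_witt (hkill : ∀ a : A, powMap k p a = algebraMap k A (Coalgebra.counit a))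
    {w : A} (hw : IsPrim k w) (hw0 : w ≠ 0) (M : ℕ) (b : ℕ → k) {f : A}
    (hf : ∀ x y : WithConv (A →ₐ[k] k), (x * y) f = x f + y f +
      WittExt.Lazard.ev (RingHom.id k) (x w) (y w) (WittExt.Base.omegaLinP p M b)) : IsPrim k f := by
  have hev : ∀ s t : k, WittExt.Lazard.ev (RingHom.id k) s t (WittExt.Base.omegaLinP p M b) =
      ∑ i ∈ Finset.range M, b i * WittExt.Lazard.ev (RingHom.id k) s t (WittExt.Lazard.omegaP p k) ^ p ^ i := by
    intro s t
    rw [WittExt.Base.omegaLinP, map_sum]
    refine Finset.sum_congr rfl fun i _ => ?_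
    rw [map_mul, WittExt.Base.ev_hom, ← WittExt.Base.ev_omegaP_pow]
    rw [show (WittExt.Lazard.ev (RingHom.id k) s t).comp (C.comp C) = RingHom.id k from
      RingHom.ext fun r => by simp [WittExt.Lazard.ev], map_pow, map_pow, WittExt.Base.ev_CX, WittExt.Base.ev_X,
      WittExt.Base.ev_CC]
    rfl
  have hhom : ∀ s t : k, WittExt.Lazard.ev (RingHom.id k) (s * t) t (WittExt.Lazard.omegaP p k) =
      t ^ p * WittExt.Lazard.ev (RingHom.id k) s 1 (WittExt.Lazard.omegaP p k) := by
    intro s t
    simp only [WittExt.Lazard.omegaP, map_neg, map_sum, map_mul, map_pow, WittExt.Lazard.ev, coe_eval₂RingHom,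
      eval₂_C, eval₂_X, eval₂_mul, eval₂_pow, RingHom.id_apply, mul_neg, Finset.mul_sum]
    refine congrArg _ (Finset.sum_congr rfl fun i hi => ?_)
    have e : t ^ p = t ^ i * t ^ (p - i) := by
      rw [← pow_add, Nat.add_sub_cancel' (Finset.mem_Ico.1 hi).2.le]
    rw [e, one_pow, mul_pow]
    ring
  have h0 : ∀ t : k, WittExt.Lazard.ev (RingHom.id k) 0 t (WittExt.Lazard.omegaP p k) = 0 := by
    intro t
    simp only [WittExt.Lazard.omegaP, map_neg, map_sum, map_mul, map_pow, WittExt.Lazard.ev, coe_eval₂RingHom,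
      eval₂_C, eval₂_X, eval₂_mul, eval₂_pow, RingHom.id_apply, neg_eq_zero]
    refine Finset.sum_eq_zero fun i hi => ?_
    rw [zero_pow (by have := (Finset.mem_Ico.1 hi).1; omega), mul_zero, zero_mul]
  have hone : ((1 : WithConv (A →ₐ[k] k))) f = 0 := by
    have e := hf 1 1
    rw [_root_.mul_one, show (1 : WithConv (A →ₐ[k] k)) w = 0 by
      rw [AlgHom.convOne_apply, hw.counit_eq_zero, map_zero], hev, h0] at e
    simp only [zero_pow (pow_ne_zero _ hp.out.ne_zero), mul_zero, Finset.sum_const_zero, add_zero] at e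
    exact left_eq_add.1 e
  have hwpow : ∀ (x : WithConv (A →ₐ[k] k)) (n : ℕ), (x ^ n) w = n * x w := by
    intro x n
    induction n with
    | zero => rw [pow_zero, AlgHom.convOne_apply, hw.counit_eq_zero, map_zero, Nat.cast_zero, zero_mul]
    | succ n ih => rw [pow_succ, hw.pt, ih, Nat.cast_succ, add_mul, one_mul]
  have hfpow : ∀ (x : WithConv (A →ₐ[k] k)) (n : ℕ), (x ^ n) f = n * x f +
      ∑ j ∈ Finset.range n, WittExt.Lazard.ev (RingHom.id k) ((j : k) * x w) (x w) (WittExt.Base.omegaLinP p M b) := by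
    intro x n
    induction n with
    | zero => rw [pow_zero, hone, Finset.sum_range_zero, Nat.cast_zero, zero_mul, add_zero]
    | succ n ih => rw [pow_succ, hf, ih, hwpow, Finset.sum_range_succ, Nat.cast_succ]; ring
  let P : k[X] := ∑ i ∈ Finset.range M, C (b i) * X ^ (p * p ^ i)
  have hP : P = 0 := poly_ext hw hw0 fun x => by
    have h2 := hfpow (toConv x) p
    rw [← pt_powMap x p f, hkill, AlgHom.commutes, CharP.cast_eq_zero, zero_mul, zero_add] at h2
    have h3 : Coalgebra.counit (R := k) f = 0 := by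
      rw [AlgHom.convOne_apply] at hone; exact hone
    rw [h3, map_zero] at h2
    simp only [hev, hhom] at h2
    rw [Finset.sum_comm] at h2
    rw [h2]
    simp only [P, eval_finsetSum, eval_mul, eval_C, eval_pow, eval_X]
    refine Finset.sum_congr rfl fun i _ => ?_
    rw [← Finset.mul_sum, ← sum_pow_char_pow p i, ← Finset.mul_sum, sum_omega, mul_one, ← pow_mul]
  refine isPrim_of_forall fun x y => ?_
  rw [hf, hev]
  have hb : ∀ i ∈ Finset.range M, b i = 0 := by
    intro i hi
    have := congrArg (fun P : k[X] => P.coeff (p * p ^ i)) hP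
    simp only [P, finsetSum_coeff, coeff_C_mul, coeff_X_pow, coeff_zero, mul_ite, mul_one, mul_zero] at this
    rw [Finset.sum_eq_single i] at this
    · simpa using this
    · intro j _ hji
      rw [if_neg]
      intro he
      exact hji (Nat.pow_right_injective hp.out.two_le (Nat.eq_of_mul_eq_mul_left hp.out.pos he).symm)
    · exact fun h => absurd hi h
  rw [Finset.sum_eq_zero fun i hi => by rw [hb i hi, zero_mul], add_zero]

/-- An element of the tensor square of `k[w]` as a polynomial in two variables. -/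
lemma exists_poly2 (w : A) {t : A ⊗[k] A}
    (ht : t ∈ (Algebra.TensorProduct.map (aeval (R := k) w).range.val (aeval (R := k) w).range.val).range) :
    ∃ f : k[X][X], ∀ x y : A →ₐ[k] k,
      Algebra.TensorProduct.lift x y (fun _ _ => Commute.all _ _) t = WittExt.Lazard.ev (RingHom.id k) (x w) (y w) f := by
  obtain ⟨z, rfl⟩ := ht
  induction z with
  | zero => exact ⟨0, fun x y => by simp⟩
  | add a b ha hb =>
    obtain ⟨f, hf⟩ := ha; obtain ⟨g, hg⟩ := hb
    exact ⟨f + g, fun x y => by simp only [map_add]; rw [← hf, ← hg]⟩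
  | tmul a b =>
    obtain ⟨P, hP⟩ := a.2
    obtain ⟨Q, hQ⟩ := b.2
    refine ⟨C P * Q.map C, fun x y => ?_⟩
    show Algebra.TensorProduct.lift x y _ ((a : A) ⊗ₜ (b : A)) = _
    rw [Algebra.TensorProduct.lift_tmul, ← hP, ← hQ]
    show x (aeval w P) * y (aeval w Q) = _
    rw [← aeval_algHom_apply, ← aeval_algHom_apply, map_mul]
    simp [WittExt.Lazard.ev, aeval_def, eval₂_map]

/-- A one-dimensional group killed by `p` is isomorphic to the additive group. -/
theorem exists_coord (hc : PtsComm k A) (hkill : ∀ a : A, powMap k p a = algebraMap k A (Coalgebra.counit a))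
    (hdim : ringKrullDim A ≤ 1) (hne : (⊥ : Subalgebra k A) ≠ ⊤) :
    ∃ w : A, IsPrim k w ∧ Function.Bijective (aeval (R := k) w) := by
  classical
  have hu : Killed k p A := ⟨1, fun a => by rw [pow_one]; exact hkill a⟩
  -- a primitive element
  obtain ⟨f₀, hf₀, hfix₀⟩ := exists_fixed_mod hc hu (B := Subalgebra.toSubmodule (⊥ : Subalgebra k A))
    (fun h => hne (Algebra.toSubmodule_eq_top.1 h))
  let v := f₀ - algebraMap k A (Coalgebra.counit f₀)
  have hv : IsPrim k v := by
    refine isPrim_of_forall fun x y => ?_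
    obtain ⟨e, he⟩ := Algebra.mem_bot.1 (hfix₀ y.ofConv)
    have e1 : ∀ z : WithConv (A →ₐ[k] k), (z * y) f₀ - z f₀ = e := fun z => by
      have := congrArg z.ofConv he
      rw [AlgHom.commutes, map_sub, pt_rho_self] at this
      exact this.symm
    have h1 := e1 1
    rw [_root_.one_mul, AlgHom.convOne_apply] at h1
    have h2 := e1 x
    simp only [Algebra.algebraMap_self, RingHom.id_apply] at h1
    show (x * y).ofConv v = x.ofConv v + y.ofConv v
    simp only [v, map_sub, AlgHom.commutes, Algebra.algebraMap_self, RingHom.id_apply]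
    linear_combination h2 - h1
  have hv0 : v ≠ 0 := fun h => hf₀ (by
    rw [show f₀ = algebraMap k A (Coalgebra.counit f₀) from sub_eq_zero.1 h]
    exact Subalgebra.algebraMap_mem _ _)
  -- the finite fibre
  let J : Ideal A := Ideal.span {v}
  have hJtop : J ≠ ⊤ := fun h => by
    have hle : J ≤ RingHom.ker (Bialgebra.counitAlgHom k A) :=
      (Ideal.span_singleton_le_iff_mem _).2 hv.counit_eq_zero
    exact RingHom.ker_ne_top _ (top_le_iff.1 (h ▸ hle))
  haveI : IsNoetherianRing A := Algebra.FiniteType.isNoetherianRing k A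
  haveI : Ring.KrullDimLE 0 (A ⧸ J) := Ring.krullDimLE_zero_iff.2 fun P hP => by
    haveI := hP
    have hQ : (P.comap (Ideal.Quotient.mk J)).IsMaximal := by
      haveI : Ring.DimensionLEOne A := ⟨fun {Q} hQ0 hQ => by
        by_contra hmax
        obtain ⟨m, hm, hQm⟩ := Q.exists_le_maximal hQ.ne_top
        have h01 : (⊥ : Ideal A) < Q := bot_lt_iff_ne_bot.2 hQ0
        have h12 : Q < m := lt_of_le_of_ne hQm fun h => hmax (h ▸ hm)
        let l : LTSeries (PrimeSpectrum A) := LTSeries.mk 2
          ![⟨⊥, Ideal.isPrime_bot⟩, ⟨Q, hQ⟩, ⟨m, hm.isPrime⟩]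
          (Fin.strictMono_iff_lt_succ.2 fun i => by
            fin_cases i
            · exact h01
            · exact h12)
        have h2 : ((2 : ℕ) : WithBot ℕ∞) ≤ ((1 : ℕ) : WithBot ℕ∞) :=
          le_trans (Order.LTSeries.length_le_krullDim l) (by exact_mod_cast hdim)
        exact absurd (Nat.cast_le.1 h2) (by omega)⟩
      refine Ring.DimensionLEOne.maximalOfPrime (fun h => hv0 ?_) inferInstance
      rw [← Ideal.mem_bot, ← h, Ideal.mem_comap, Ideal.Quotient.eq_zero_iff_mem.2 (Ideal.mem_span_singleton_self v)]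
      exact zero_mem _
    rw [← Ideal.map_comap_of_surjective _ Ideal.Quotient.mk_surjective P]
    exact Ideal.IsMaximal.map_of_surjective_of_ker_le Ideal.Quotient.mk_surjective
      (Ideal.comap_mono bot_le)
  haveI : Algebra.FiniteType k (A ⧸ J) :=
    Algebra.FiniteType.of_surjective (Ideal.Quotient.mkₐ k J) Ideal.Quotient.mk_surjective
  haveI : IsArtinianRing (A ⧸ J) := isArtinianRing_iff_isNoetherianRing_krullDimLE_zero.2 ⟨inferInstance, inferInstance⟩
  haveI : Module.Finite k (A ⧸ J) := Module.finite_of_isArtinianRing k (A ⧸ J)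
  let d := Module.finrank k (A ⧸ J)
  -- degrees are bounded
  have hbound : ∀ (w : A) (φ : k[X]), IsPrim k w → aeval w φ = v → φ.natDegree ≤ d := by
    intro w φ hw hφ
    have hφ0 : φ ≠ 0 := fun h => hv0 (by rw [← hφ, h, map_zero])
    let g : k[X] →ₐ[k] A ⧸ J := (Ideal.Quotient.mkₐ k J).comp (aeval w)
    have hker : Polynomial.degreeLT k φ.natDegree ⊓ LinearMap.ker g.toLinearMap = ⊥ := by
      rw [eq_bot_iff]
      rintro q ⟨hq, hq'⟩
      rw [SetLike.mem_coe, LinearMap.mem_ker] at hq'
      rw [Submodule.mem_bot]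
      have hmem : aeval w q ∈ J := Ideal.Quotient.eq_zero_iff_mem.1 hq'
      let B := (aeval (R := k) w).range
      let vB : B := ⟨v, φ, hφ⟩
      let qB : B := ⟨aeval w q, q, rfl⟩
      have h1 : qB ∈ ((Ideal.span {vB}).map (algebraMap B A)).comap (algebraMap B A) := by
        rw [Ideal.mem_comap, Ideal.map_span, Set.image_singleton]
        exact hmem
      rw [comap_map (isHopfSubalgebra_range hw), Ideal.mem_span_singleton'] at h1
      obtain ⟨⟨_, r, rfl⟩, hr⟩ := h1
      have hw0 : w ≠ 0 := fun h => by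
        have : v = algebraMap k A (φ.coeff 0) := by rw [← hφ, h]; simp [aeval_def, eval₂_at_zero]
        apply hv0
        have hc0 := hv.counit_eq_zero
        rw [this, Bialgebra.counit_algebraMap] at hc0
        rw [this, hc0, map_zero]
      have hqr : r * φ = q := aeval_injective hw hw0 (by
        rw [map_mul, hφ]; exact congrArg Subtype.val hr)
      by_contra hq0
      have hlt : q.natDegree < φ.natDegree :=
        (natDegree_lt_iff_degree_lt hq0).2 (mem_degreeLT.1 hq)
      rw [← hqr, natDegree_mul (fun h => hq0 (by rw [← hqr, h, zero_mul])) hφ0] at hlt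
      omega
    have hinj : Function.Injective (g.toLinearMap.domRestrict (Polynomial.degreeLT k φ.natDegree)) :=
      LinearMap.injective_domRestrict_iff.2 (disjoint_iff.2 hker)
    have := LinearMap.finrank_le_finrank_of_injective hinj
    rwa [(Polynomial.degreeLTEquiv k φ.natDegree).finrank_eq, Module.finrank_fin_fun] at this
  -- a maximal generator
  let S : Set ℕ := {e | ∃ (w : A) (φ : k[X]), IsPrim k w ∧ aeval w φ = v ∧ φ.natDegree = e}
  have hSne : S.Nonempty := ⟨1, v, X, hv, aeval_X v, natDegree_X⟩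
  have hSbdd : BddAbove S := ⟨d, fun e ⟨w, φ, h1, h2, h3⟩ => h3 ▸ hbound w φ h1 h2⟩
  obtain ⟨w, φ, hw, hφ, hdeg⟩ := Nat.sSup_mem hSne hSbdd
  have hw0 : w ≠ 0 := fun h => by
    have : v = algebraMap k A (φ.coeff 0) := by rw [← hφ, h]; simp [aeval_def, eval₂_at_zero]
    apply hv0
    have hc0 := hv.counit_eq_zero
    rw [this, Bialgebra.counit_algebraMap] at hc0
    rw [this, hc0, map_zero]
  set B := (aeval (R := k) w).range with hBdef
  have hB := isHopfSubalgebra_range hw
  -- all primitive elements lie in `B`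
  have hall : ∀ u : A, IsPrim k u → u ∈ B := by
    intro u hu'
    by_cases hu0 : u = 0
    · rw [hu0]; exact zero_mem _
    -- dependence modulo `w`
    have hJ : J ≤ Ideal.span {w} := by
      rw [Ideal.span_singleton_le_iff_mem, Ideal.mem_span_singleton', ← hφ]
      refine ⟨aeval w φ.divX, ?_⟩
      have hc0 : φ.coeff 0 = 0 := by
        have := hv.counit_eq_zero
        rw [← hφ, show Coalgebra.counit (R := k) (aeval w φ) = Bialgebra.counitAlgHom k A (aeval w φ) from rfl,
          ← aeval_algHom_apply, Bialgebra.counitAlgHom_apply, hw.counit_eq_zero] at this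
        rwa [aeval_def, eval₂_at_zero, Algebra.algebraMap_self, RingHom.id_apply] at this
      conv_rhs => rw [← divX_mul_X_add φ, hc0, map_zero, add_zero, map_mul, aeval_X]
    haveI : Module.Finite k (A ⧸ Ideal.span {w}) :=
      Module.Finite.of_surjective (Ideal.Quotient.factorₐ k hJ).toLinearMap (Ideal.Quotient.factor_surjective hJ)
    obtain ⟨c, hcsum, j₀, hj₀⟩ : ∃ c : Fin (Module.finrank k (A ⧸ Ideal.span {w}) + 1) → k,
        ∑ j, c j • Ideal.Quotient.mkₐ k (Ideal.span {w}) (u ^ p ^ (j : ℕ)) = 0 ∧ ∃ j, c j ≠ 0 := by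
      have h := Fintype.not_linearIndependent_iff.1 (fun h : LinearIndependent k
        (fun j : Fin (Module.finrank k (A ⧸ Ideal.span {w}) + 1) =>
          Ideal.Quotient.mkₐ k (Ideal.span {w}) (u ^ p ^ (j : ℕ))) => by
          have := h.fintype_card_le_finrank
          rw [Fintype.card_fin] at this
          omega)
      exact h
    let Q : k[X] := ∑ j, C (c j) * X ^ p ^ (j : ℕ)
    have hQadd : IsAdd p Q := by
      intro i hi
      rw [finsetSum_coeff] at hi
      obtain ⟨j, -, hj⟩ := Finset.exists_ne_zero_of_sum_ne_zero hi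
      rw [coeff_C_mul_X_pow] at hj
      split_ifs at hj with h
      · exact ⟨j, h⟩
      · exact absurd rfl hj
    have hQ0 : Q ≠ 0 := fun h => by
      have := congrArg (fun P : k[X] => P.coeff (p ^ (j₀ : ℕ))) h
      simp only [Q, finsetSum_coeff, coeff_C_mul_X_pow, coeff_zero] at this
      rw [Finset.sum_eq_single j₀] at this
      · exact hj₀ (by simpa using this)
      · intro j _ hne'
        rw [if_neg fun he => hne' (Fin.ext (Nat.pow_right_injective hp.out.two_le he).symm)]
      · simp
    have hq : IsPrim k (aeval u Q) := by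
      simp only [Q, map_sum, map_mul, aeval_C, map_pow, aeval_X, ← Algebra.smul_def]
      refine Finset.sum_induction _ (IsPrim k) (fun a b => IsPrim.add) (by simp [IsPrim]) fun j _ =>
        (hu'.pow _).smul _
    have hqmem : aeval u Q ∈ Ideal.span {w} := by
      rw [← Ideal.Quotient.eq_zero_iff_mem, ← hcsum]
      simp only [Q, map_sum, map_mul, aeval_C, map_pow, aeval_X, ← Algebra.smul_def, ← Ideal.Quotient.mkₐ_eq_mk k,
        map_smul]
    have hqB : aeval u Q ∈ B := by
      refine mem_of_forall_pts hB fun R _ _ x y hxy => ?_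
      let z := toConv (x.comp (HopfAlgebra.antipodeAlgHom k A)) * toConv y
      have hyz : toConv y = toConv x * z := by
        rw [← _root_.mul_assoc, mul_comp_antipode, _root_.one_mul]
      have hz : z w = 0 := by
        have := congrArg (fun q : WithConv (A →ₐ[k] R) => q w) hyz
        simp only [hw.pt] at this
        have hxw : x w = y w := hxy w ⟨X, aeval_X w⟩
        change y w = x w + z w at this
        rw [← hxw] at this
        exact left_eq_add.1 this
      have hzq : z (aeval u Q) = 0 := by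
        obtain ⟨r, hr⟩ := Ideal.mem_span_singleton'.1 hqmem
        show z.ofConv _ = 0
        rw [← hr, map_mul, show z.ofConv w = 0 from hz, mul_zero]
      have := congrArg (fun q : WithConv (A →ₐ[k] R) => q (aeval u Q)) hyz
      simp only [hq.pt, hzq, add_zero] at this
      exact this.symm
    obtain ⟨P, hP⟩ := hqB
    have hP' : aeval w P = aeval u Q := hP
    have hPadd : IsAdd p P := by
      intro i hi
      refine (WittLib.AddPoly.eq_zero_or_isPow (p := p) P ?_ i).resolve_left hi
      refine sub_eq_zero.1 (poly_ext2 hw hw0 fun x y => ?_)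
      rw [map_sub, map_add, hom_eval₂, hom_eval₂, hom_eval₂, map_add,
        show (WittExt.Lazard.ev (RingHom.id k) (x w) (y w)).comp (C.comp C) = RingHom.id k from
          RingHom.ext fun r => by simp [WittExt.Lazard.ev],
        WittExt.Base.ev_CX, WittExt.Base.ev_X, sub_eq_zero]
      have hxy := hq.pt (toConv x) (toConv y)
      rw [← hP'] at hxy
      change (toConv x * toConv y).ofConv (aeval w P) = x (aeval w P) + y (aeval w P) at hxy
      rw [← aeval_algHom_apply, ← aeval_algHom_apply, ← aeval_algHom_apply,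
        show (toConv x * toConv y).ofConv w = x w + y w from hw.pt _ _] at hxy
      simpa [aeval_def] using hxy
    have hP0 : P ≠ 0 := fun h => by
      rw [h, map_zero] at hP'
      exact hQ0 (aeval_injective hu' hu0 (hP'.symm.trans (map_zero _).symm))
    obtain ⟨w', hw', ⟨χu, hχu⟩, ⟨χ, hχ⟩⟩ := exists_gen _ u w hu' hw P Q le_rfl hPadd hQadd hP0 hQ0 hP'
    have hχ' : aeval w' χ = w := hχ
    have hv' : aeval w' (φ.comp χ) = v := by rw [aeval_comp, hχ', hφ]
    have hle' : (φ.comp χ).natDegree ≤ sSup S := le_csSup hSbdd ⟨w', _, hw', hv', rfl⟩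
    rw [natDegree_comp, ← hdeg] at hle'
    have hφd : 0 < φ.natDegree := by
      rcases Nat.eq_zero_or_pos φ.natDegree with h | h
      · exfalso
        apply hv0
        have hc0 := hv.counit_eq_zero
        rw [← hφ, eq_C_of_natDegree_eq_zero h, aeval_C] at hc0 ⊢
        rw [Bialgebra.counit_algebraMap] at hc0
        rw [hc0, map_zero]
      · exact h
    have hχ1 : χ.natDegree ≤ 1 := by nlinarith
    obtain ⟨a, b, hab⟩ := exists_eq_X_add_C_of_natDegree_le_one hχ1
    have hwab : w = a • w' + algebraMap k A b := by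
      rw [← hχ', hab]; simp [Algebra.smul_def]
    have ha0 : a ≠ 0 := fun h => by
      apply hw0
      have hc0 := hw.counit_eq_zero
      rw [hwab, h, zero_smul, zero_add] at hc0 ⊢
      rw [Bialgebra.counit_algebraMap] at hc0
      rw [hc0, map_zero]
    have hw'B : w' ∈ B := by
      have : w' = a⁻¹ • (w - algebraMap k A b) := by
        rw [hwab, add_sub_cancel_right, smul_smul, inv_mul_cancel₀ ha0, one_smul]
      rw [this]
      exact Subalgebra.smul_mem _ (sub_mem (show w ∈ B from ⟨X, aeval_X w⟩) (Subalgebra.algebraMap_mem _ _)) _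
    rw [← hχu]
    show aeval w' χu ∈ B
    exact Algebra.adjoin_le (Set.singleton_subset_iff.2 hw'B) (aeval_mem_adjoin_singleton _ _)
  refine ⟨w, hw, aeval_injective hw hw0, ?_⟩
  by_contra hsurj
  have hBne : Subalgebra.toSubmodule B ≠ ⊤ := fun h => hsurj fun a => by
    have : a ∈ Subalgebra.toSubmodule B := h ▸ Submodule.mem_top
    exact this
  obtain ⟨f, hfB, hfix⟩ := exists_fixed_mod hc hu hBne
  let t := Coalgebra.comul (R := k) f - f ⊗ₜ 1 - 1 ⊗ₜ f
  have ht : t ∈ (Algebra.TensorProduct.map B.val B.val).range := by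
    refine mem_range_of_slices B (fun y => ?_) (fun x => ?_)
    · simp only [t, map_sub, Algebra.TensorProduct.lift_tmul, map_one, _root_.mul_one, _root_.one_mul,
        AlgHom.id_apply]
      refine sub_mem ?_ (Subalgebra.algebraMap_mem _ _)
      have e : Algebra.TensorProduct.lift (AlgHom.id k A) ((Algebra.ofId k A).comp y) (fun _ _ => Commute.all _ _)
          (Coalgebra.comul (R := k) f) = rho y f := (AlgHom.convMul_apply _ _ f).symm
      rw [e]
      exact hfix y
    · simp only [t, map_sub, Algebra.TensorProduct.lift_tmul, map_one, _root_.mul_one, _root_.one_mul,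
        AlgHom.id_apply]
      rw [sub_right_comm]
      refine sub_mem ?_ (Subalgebra.algebraMap_mem _ _)
      have e : Algebra.TensorProduct.lift ((Algebra.ofId k A).comp x) (AlgHom.id k A) (fun _ _ => Commute.all _ _)
          (Coalgebra.comul (R := k) f) = rho x f := by
        refine ext_pts (k := k) fun z => ?_
        rw [pt_rho_self, hc, AlgHom.convMul_apply, ← AlgHom.comp_apply,
          show z.comp (Algebra.TensorProduct.lift ((Algebra.ofId k A).comp x) (AlgHom.id k A) (fun _ _ => Commute.all _ _)) =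
            Algebra.TensorProduct.lift (toConv x).ofConv (toConv z).ofConv (fun _ _ => Commute.all _ _) from
          Algebra.TensorProduct.ext' fun a b => by simp]
      rw [e]
      exact hfix x
  obtain ⟨c, hcv⟩ := exists_poly2 w ht
  have hfc : ∀ x y : WithConv (A →ₐ[k] k), (x * y) f =
      x f + y f + WittExt.Lazard.ev (RingHom.id k) (x w) (y w) c := by
    intro x y
    rw [← hcv x.ofConv y.ofConv]
    simp only [t, map_sub, Algebra.TensorProduct.lift_tmul, map_one, _root_.mul_one, _root_.one_mul,
      ← AlgHom.convMul_apply]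
    ring
  have hgood : WittExt.Base.Good c := by
    constructor
    · refine sub_eq_zero.1 (poly_ext2 hw hw0 fun x y => ?_)
      rw [map_sub, WittExt.Base.ev_hom, WittExt.Base.ev_X, WittExt.Base.ev_CX,
        show (WittExt.Lazard.ev (RingHom.id k) (x w) (y w)).comp (C.comp C) = RingHom.id k from
          RingHom.ext fun r => by simp [WittExt.Lazard.ev]]
      have h1 := hfc (toConv x) (toConv y)
      rw [hc, hfc] at h1
      change y f + x f + WittExt.Lazard.ev (RingHom.id k) (y w) (x w) c =
        x f + y f + WittExt.Lazard.ev (RingHom.id k) (x w) (y w) c at h1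
      linear_combination h1
    · refine sub_eq_zero.1 (poly_ext3 hw hw0 fun x y z => ?_)
      rw [← coe_eval₂RingHom, map_sub, map_add, map_add]
      have key : ∀ a b : k[X][X][X],
          eval₂RingHom (WittExt.Lazard.ev (RingHom.id k) (x w) (y w)) (z w)
            (WittExt.Lazard.ev (C.comp (C.comp C)) a b c) =
          WittExt.Lazard.ev (RingHom.id k)
            (eval₂RingHom (WittExt.Lazard.ev (RingHom.id k) (x w) (y w)) (z w) a)
            (eval₂RingHom (WittExt.Lazard.ev (RingHom.id k) (x w) (y w)) (z w) b) c := by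
        intro a b
        clear hcv hfc
        induction c using WittExt.Lazard.induction_mono with
        | hadd f g hf hg => simp only [map_add, hf, hg]
        | hmono i j r =>
          rw [WittExt.Lazard.ev_monomial, WittExt.Lazard.ev_monomial, map_mul, map_mul, map_pow, map_pow]
          simp [WittExt.Lazard.ev]
      simp only [key]
      have h1 := hfc (toConv x * toConv y) (toConv z)
      have h2 := hfc (toConv x) (toConv y * toConv z)
      rw [_root_.mul_assoc, hfc (toConv x) (toConv y)] at h1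
      rw [hfc (toConv y) (toConv z)] at h2
      simp only [hw.pt] at h1 h2
      simp only [coe_eval₂RingHom, eval₂_add, eval₂_C, eval₂_X, WittExt.Lazard.ev, RingHom.id_apply] at h1 h2 ⊢
      change _ = x f + y f + _ + z f + _ at h1
      linear_combination h2 - h1
  obtain ⟨g, M, b, hd⟩ := WittExt.Lazard.exists_decomposition (p := p) c
    (WittExt.Lazard.isCoc_cf c hgood.1 hgood.2) fun g M b => by
    have h := (hgood.sub (WittExt.Base.good_dP g)).sub (WittExt.Base.good_of_rep
      ((WittExt.Cocycle.isCoc_std (p := p) (S := AlgebraicGeometry.Spec (CommRingCat.of k)) (Nat.le_succ 1)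
        (Nat.le_succ 1) (rfl : 1 + 1 = 2)).comp (WittLib.Endo.lin p 1 M b)) (WittExt.Base.rep_omega_lin M b))
    exact WittExt.Lazard.isCoc_cf _ h.1 h.2
  have hd' : c = WittExt.Lazard.dP g + WittExt.Base.omegaLinP p M b := hd
  let f' := f + aeval w g
  have hf' : IsPrim k f' := by
    refine isPrim_of_witt hkill hw hw0 M b fun x y => ?_
    show (x * y).ofConv f' = x.ofConv f' + y.ofConv f' + _
    simp only [f', map_add, ← aeval_algHom_apply]
    rw [show (x * y).ofConv w = x w + y w from hw.pt x y, show (x * y).ofConv f = _ from hfc x y, hd',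
      map_add, WittExt.Base.ev_dP]
    simp only [aeval_def, Algebra.algebraMap_self]
    ring
  apply hfB
  have : f = f' - aeval w g := (add_sub_cancel_right _ _).symm
  rw [this]
  exact sub_mem (hall f' hf') ⟨g, rfl⟩

end Groth.Agent.UnipLib
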