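import Groth.Agent.UnipLib.WittEndo
import Groth.Agent.GrpScheme.Basic
import Groth.Agent.GrpScheme.RatDense
import Groth.Agent.GrpScheme.Component
import Groth.Agent.WittLib.Subgroup

/-! Finite products of Witt groups. -/

set_option autoImplicit false
set_option linter.style.haveILetI false
universe u

open CategoryTheory CategoryTheory.Limits AlgebraicGeometry MonoidalCategory CartesianMonoidalCategory MonObj

namespace Groth.Agent.UnipLib

open Groth.Agent.WittLib.Basic

variable {p : ℕ} [hp : Fact p.Prime] {k : Type u} [Field k]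

local notation "Sk" => Spec (CommRingCat.of k)

lemma Good.tensor {A B C D : Over Sk} [GrpObj A] [GrpObj B] [GrpObj C] [GrpObj D] {f : A ⟶ B} {g : C ⟶ D}
    (hf : Good f) (hg : Good g) : Good (f ⊗ₘ g) := by
  haveI := hf.hom; haveI := hg.hom
  refine ⟨isMonHom_of_points _ fun T x y => ?_, ?_, ?_⟩
  · refine CartesianMonoidalCategory.hom_ext _ _ ?_ ?_
    · simp only [MonObj.mul_comp _ _ (fst B D), Category.assoc, tensorHom_fst]
      rw [← Category.assoc, MonObj.mul_comp _ _ (fst A C), MonObj.mul_comp _ _ f, Category.assoc, Category.assoc]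
    · simp only [MonObj.mul_comp _ _ (snd B D), Category.assoc, tensorHom_snd]
      rw [← Category.assoc, MonObj.mul_comp _ _ (snd A C), MonObj.mul_comp _ _ g, Category.assoc, Category.assoc]
  · haveI : IsFinite (f ▷ C).left := GrpScheme.Basic.whiskerRight_mem @IsFinite f C hf.fin
    haveI : IsFinite (B ◁ g).left := GrpScheme.Basic.whiskerLeft_mem @IsFinite g B hg.fin
    rw [MonoidalCategory.tensorHom_def, Over.comp_left]; infer_instance
  · haveI : Surjective (f ▷ C).left := GrpScheme.Basic.whiskerRight_mem @Surjective f C hf.surj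
    haveI : Surjective (B ◁ g).left := GrpScheme.Basic.whiskerLeft_mem @Surjective g B hg.surj
    rw [MonoidalCategory.tensorHom_def, Over.comp_left]; infer_instance

variable (p) in
/-- `P` with `proj` is a product of Witt groups. -/
structure IsWProd {r : ℕ} (nn : Fin r → ℕ) (P : Over (Spec (CommRingCat.of k))) [GrpObj P]
    (proj : ∀ j : Fin r, P ⟶ WittGrp.W p (nn j) (Spec (CommRingCat.of k))) : Prop where
  hom : ∀ j, IsMonHom (proj j)
  lim : Nonempty (IsLimit (Fan.mk P proj))

section API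

variable {r : ℕ} {nn : Fin r → ℕ} {P : Over (Spec (CommRingCat.of k))} [GrpObj P]
  {proj : ∀ j : Fin r, P ⟶ WittGrp.W p (nn j) (Spec (CommRingCat.of k))}

lemma IsWProd.ext (h : IsWProd p nn P proj) {T : Over Sk} {x y : T ⟶ P} (e : ∀ j, x ≫ proj j = y ≫ proj j) :
    x = y := by
  obtain ⟨hl⟩ := h.lim
  exact Fan.IsLimit.hom_ext hl x y e

lemma IsWProd.exists_lift (h : IsWProd p nn P proj) {T : Over Sk} (x : ∀ j, T ⟶ WittGrp.W p (nn j) Sk) :
    ∃ y : T ⟶ P, ∀ j, y ≫ proj j = x j := by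
  obtain ⟨hl⟩ := h.lim
  exact ⟨Fan.IsLimit.desc hl x, fun j => Fan.IsLimit.fac hl x j⟩

lemma IsWProd.isMonHom (h : IsWProd p nn P proj) {G : Over Sk} [GrpObj G] (f : G ⟶ P)
    (hf : ∀ j, IsMonHom (f ≫ proj j)) : IsMonHom f := by
  refine isMonHom_of_points _ fun T x y => h.ext fun j => ?_
  haveI := h.hom j
  haveI := hf j
  rw [MonObj.mul_comp (x ≫ f) (y ≫ f) (proj j), Category.assoc, Category.assoc, Category.assoc, MonObj.mul_comp _ _ (f ≫ proj j)]

lemma IsWProd.isCommMonObj (h : IsWProd p nn P proj) : IsCommMonObj P := by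
  have hc : fst P P * snd P P = snd P P * fst P P := h.ext fun j => by
    haveI := h.hom j
    rw [MonObj.mul_comp, MonObj.mul_comp, _root_.mul_comm]
  refine ⟨?_⟩
  have e : (β_ P P).hom ≫ (fst P P * snd P P) = fst P P * snd P P := by
    rw [MonObj.comp_mul, braiding_hom_fst, braiding_hom_snd, hc]
  have m : μ[P] = fst P P * snd P P := by rw [Hom.mul_def, lift_fst_snd, Category.id_comp]
  rw [m]; exact e

end API

variable [CharP k p] [IsAlgClosed k]

omit hp [CharP k p] in
lemma irreducibleSpace_tensor (A B : Over Sk) [IrreducibleSpace A.left] [IrreducibleSpace B.left]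
    [LocallyOfFiniteType A.hom] [LocallyOfFiniteType B.hom] : IrreducibleSpace (A ⊗ B).left := by
  haveI : GeometricallyIrreducible A.hom := FBase.BC.geometricallyIrreducible_of_isSepClosed A.hom
  exact inferInstanceAs (IrreducibleSpace ↥(pullback A.hom B.hom))

omit hp [CharP k p] [IsAlgClosed k] in
lemma irreducibleSpace_of_iso {A B : Over Sk} (e : A ≅ B) [IrreducibleSpace A.left] : IrreducibleSpace B.left := by
  let h : A.left ≃ₜ B.left := TopCat.homeoOfIso (Scheme.forgetToTop.mapIso ((Over.forget _).mapIso e))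
  refine { toNonempty := ⟨h (Classical.arbitrary _)⟩, isPreirreducible_univ := ?_ }
  have := (PreirreducibleSpace.isPreirreducible_univ (X := A.left)).image h h.continuous.continuousOn
  rwa [Set.image_univ, h.surjective.range_eq] at this

omit hp [CharP k p] [IsAlgClosed k] in
lemma irreducibleSpace_unit : IrreducibleSpace (𝟙_ (Over Sk)).left :=
  inferInstanceAs (IrreducibleSpace (PrimeSpectrum k))

omit [CharP k p] in
lemma irreducibleSpace_W : ∀ n : ℕ, IrreducibleSpace (WittGrp.W p n Sk).left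
  | 0 => by
    haveI := irreducibleSpace_unit (k := k)
    exact irreducibleSpace_of_iso (A := 𝟙_ (Over Sk))
      ⟨ofVec 0, toUnit _, toUnit_unique _ _, WittLib.Endo.eq_W_zero _ _⟩
  | n + 1 => by
    haveI := irreducibleSpace_W n
    haveI : IrreducibleSpace (WittGrp.W p n Sk ⊗ WittGrp.W p 1 Sk).left := irreducibleSpace_tensor _ _
    exact irreducibleSpace_of_iso (combine p Sk n 1)

set_option backward.isDefEq.respectTransparency.types false in
variable (p k) in
/-- Products exist, with their properties. -/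
theorem exists_prod : ∀ (r : ℕ) (nn : Fin r → ℕ), ∃ (P : Over (Spec (CommRingCat.of k))) (_ : GrpObj P)
    (proj : ∀ j : Fin r, P ⟶ WittGrp.W p (nn j) (Spec (CommRingCat.of k))),
    IsWProd p nn P proj ∧ IsAffine P.left ∧ Smooth P.hom ∧
      (∀ φ : ∀ j : Fin r, WittGrp.W p (nn j) Sk ⟶ WittGrp.W p (nn j) Sk, (∀ j, Good (φ j)) →
        ∃ Φ : P ⟶ P, Good Φ ∧ ∀ j, Φ ≫ proj j = proj j ≫ φ j) ∧ IrreducibleSpace P.left
  | 0, nn => by
    let hT : IsTerminal (𝟙_ (Over Sk)) := isTerminalTensorUnit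
    refine ⟨𝟙_ (Over Sk), inferInstance, fun j => Fin.elim0 j, ⟨fun j => Fin.elim0 j,
      ⟨mkFanLimit _ (fun s => hT.from s.pt) (fun s j => Fin.elim0 j) (fun s m _ => hT.hom_ext _ _)⟩⟩,
      ?_, ?_, fun φ _ => ⟨𝟙 _, good_id, fun j => Fin.elim0 j⟩, irreducibleSpace_unit⟩
    · show IsAffine Sk
      infer_instance
    · show Smooth (𝟙 Sk)
      infer_instance
  | r + 1, nn => by
    obtain ⟨P, hP, proj, h, haff, hsm, hφ, hirr⟩ := exists_prod r (fun j => nn j.succ)
    let W := WittGrp.W p (nn 0) Sk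
    let pr : ∀ j : Fin (r + 1), W ⊗ P ⟶ WittGrp.W p (nn j) Sk :=
      Fin.cases (fst W P) (fun j => snd W P ≫ proj j)
    have hlift : ∀ (T : Over Sk) (x : ∀ j, T ⟶ WittGrp.W p (nn j) Sk), ∃ y : T ⟶ W ⊗ P, ∀ j, y ≫ pr j = x j := by
      intro T x
      obtain ⟨y, hy⟩ := h.exists_lift (fun j => x j.succ)
      refine ⟨lift (x 0) y, fun j => Fin.cases ?_ (fun i => ?_) j⟩
      · exact lift_fst _ _
      · show lift (x 0) y ≫ snd W P ≫ proj i = _
        rw [lift_snd_assoc, hy]
    have hext : ∀ (T : Over Sk) (x y : T ⟶ W ⊗ P), (∀ j, x ≫ pr j = y ≫ pr j) → x = y := by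
      intro T x y e
      refine CartesianMonoidalCategory.hom_ext _ _ (e 0) (h.ext fun j => ?_)
      exact (Category.assoc _ _ _).trans ((e j.succ).trans (Category.assoc _ _ _).symm)
    have hhom : ∀ j, IsMonHom (pr j) := fun j => Fin.cases
      (isMonHom_of_points _ fun T x y => MonObj.mul_comp x y (fst W P))
      (fun i => isMonHom_of_points _ fun T x y => by
        haveI := h.hom i
        exact MonObj.mul_comp x y (snd W P ≫ proj i)) j
    choose l hl using fun (s : Fan fun j => WittGrp.W p (nn j) Sk) => hlift s.pt s.proj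
    refine ⟨W ⊗ P, inferInstance, pr, ⟨hhom,
      ⟨mkFanLimit _ l (fun s j => hl s j) (fun s m hm => hext _ _ _ fun j => (hm j).trans (hl s j).symm)⟩⟩,
      ?_, ?_, fun φ hg => ?_, ?_⟩
    · haveI := haff
      haveI := isAffine_W' (p := p) (k := k) (nn 0)
      show IsAffine (pullback W.hom P.hom)
      infer_instance
    · haveI := hsm
      show Smooth (pullback.fst W.hom P.hom ≫ W.hom)
      infer_instance
    · obtain ⟨Φ, hΦ, hΦp⟩ := hφ (fun j => φ j.succ) (fun j => hg j.succ)
      refine ⟨φ 0 ⊗ₘ Φ, (hg 0).tensor hΦ, fun j => Fin.cases ?_ (fun i => ?_) j⟩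
      · exact tensorHom_fst _ _
      · show (φ 0 ⊗ₘ Φ) ≫ snd W P ≫ proj i = (snd W P ≫ proj i) ≫ φ i.succ
        rw [tensorHom_snd_assoc, hΦp, Category.assoc]
    · haveI := hirr; haveI := hsm
      haveI := irreducibleSpace_W (p := p) (k := k) (nn 0)
      exact irreducibleSpace_tensor W P
where
  isAffine_W' {p : ℕ} [Fact p.Prime] {k : Type u} [Field k] (n : ℕ) : IsAffine (WittGrp.W p n Sk).left :=
    isAffine_of_isAffineHom (WittGrp.W p n Sk).hom

section Transfer

variable {r : ℕ} {nn : Fin r → ℕ} {P : Over (Spec (CommRingCat.of k))} [GrpObj P]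
  {proj : ∀ j : Fin r, P ⟶ WittGrp.W p (nn j) (Spec (CommRingCat.of k))}

lemma IsWProd.exists_iso (h : IsWProd p nn P proj) {P' : Over Sk} [GrpObj P']
    {proj' : ∀ j : Fin r, P' ⟶ WittGrp.W p (nn j) Sk} (h' : IsWProd p nn P' proj') :
    ∃ e : P ≅ P', IsMonHom e.hom ∧ IsMonHom e.inv ∧ ∀ j, e.hom ≫ proj' j = proj j := by
  obtain ⟨a, ha⟩ := h'.exists_lift proj
  obtain ⟨b, hb⟩ := h.exists_lift proj'
  refine ⟨⟨a, b, h.ext fun j => ?_, h'.ext fun j => ?_⟩, h'.isMonHom _ fun j => ?_, h.isMonHom _ fun j => ?_, ha⟩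
  · rw [Category.assoc, hb, ha, Category.id_comp]
  · rw [Category.assoc, ha, hb, Category.id_comp]
  · rw [ha]; exact h.hom j
  · rw [hb]; exact h'.hom j

lemma IsWProd.good_props (h : IsWProd p nn P proj) :
    IsAffine P.left ∧ Smooth P.hom ∧ IsReduced P.left ∧
      ∀ φ : ∀ j : Fin r, WittGrp.W p (nn j) Sk ⟶ WittGrp.W p (nn j) Sk, (∀ j, Good (φ j)) →
        ∃ Φ : P ⟶ P, Good Φ ∧ ∀ j, Φ ≫ proj j = proj j ≫ φ j := by
  obtain ⟨P', hP', proj', h', haff, hsm, hφ, -⟩ := exists_prod p k r nn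
  haveI := haff; haveI := hsm
  obtain ⟨e, he, he', hp'⟩ := h.exists_iso h'
  haveI : IsIso e.hom.left := inferInstanceAs (IsIso ((Over.forget _).map e.hom))
  haveI : IsIso e.inv.left := inferInstanceAs (IsIso ((Over.forget _).map e.inv))
  haveI : Smooth P.hom := by rw [← Over.w e.hom]; infer_instance
  refine ⟨IsAffine.of_isIso e.hom.left, inferInstance, GrpScheme.HomFlat.isReduced_of_smooth P.hom, fun φ hg => ?_⟩
  obtain ⟨Φ, hΦ, hΦp⟩ := hφ φ hg
  have g1 : Good e.hom := ⟨he, inferInstance, inferInstance⟩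
  have g2 : Good e.inv := ⟨he', inferInstance, inferInstance⟩
  refine ⟨e.hom ≫ Φ ≫ e.inv, g1.comp (hΦ.comp g2), fun j => ?_⟩
  have hb : e.inv ≫ proj j = proj' j := by rw [← hp' j, Iso.inv_hom_id_assoc]
  rw [Category.assoc, Category.assoc, hb, hΦp, ← Category.assoc, hp']

end Transfer

end Groth.Agent.UnipLib
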