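import Groth.Agent.UnipLib.Points
import Groth.Agent.WittLib.Isogeny

/-! A group of maximal period receives a finite surjection from a Witt group. -/

set_option autoImplicit false
set_option linter.style.haveILetI false
universe u

open CategoryTheory CategoryTheory.Limits AlgebraicGeometry MonoidalCategory CartesianMonoidalCategory MonObj

namespace Groth.Agent.UnipLib

open Groth.Agent.WittLib.Basic Groth.Agent.WittLib.Factor Groth.Agent.WittLib.Endo
  Groth.Agent.WittLib.Killed Groth.Agent.WittExt.Cocycle Groth.Agent.WittExt.Classify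
  Groth.Agent.WittExt.Base Groth.Agent.WittLib.Isogeny

variable {p : ℕ} [hp : Fact p.Prime] {k : Type u} [Field k]

local notation "Sk" => Spec (CommRingCat.of k)

/-- Change a map so that its defect is a given cohomologous cocycle. -/
lemma exists_map_coh {Q' E : Over Sk} [GrpObj Q'] [GrpObj E] [IsCommMonObj E] {A : Over Sk} [GrpObj A]
    [IsCommMonObj A] (i : A ⟶ E) [IsMonHom i] (s : Q' ⟶ E) {c c' : Q' ⊗ Q' ⟶ A} (h : Coh c c')
    (hv : ∀ (T : Over Sk) (x y : T ⟶ Q'), (x ≫ s) * (y ≫ s) = ((x * y) ≫ s) * (ev2 c x y ≫ i)) :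
    ∃ g : Q' ⟶ A, ∀ (T : Over Sk) (x y : T ⟶ Q'),
      (x ≫ (s * (g ≫ i)⁻¹)) * (y ≫ (s * (g ≫ i)⁻¹)) = ((x * y) ≫ (s * (g ≫ i)⁻¹)) * (ev2 c' x y ≫ i) := by
  obtain ⟨g, hg⟩ := h
  refine ⟨g, fun T x y => ?_⟩
  simp only [MonObj.comp_mul, GrpObj.comp_inv, ← Category.assoc]
  have hc' : ev2 c' x y = ev2 c x y * ((x * y) ≫ g) * ((x ≫ g) * (y ≫ g))⁻¹ := by
    rw [hg, mul_inv_cancel_right]
  rw [hc', MonObj.mul_comp _ _ i, MonObj.mul_comp _ _ i, GrpObj.inv_comp _ i, MonObj.mul_comp _ _ i,
    _root_.mul_mul_mul_comm, hv, ← mul_inv]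
  calc ((x * y) ≫ s) * (ev2 c x y ≫ i) * (((x ≫ g) ≫ i) * ((y ≫ g) ≫ i))⁻¹
      = ((x * y) ≫ s) * (ev2 c x y ≫ i) * (((x ≫ g) ≫ i) * ((y ≫ g) ≫ i))⁻¹ *
          ((((x * y) ≫ g) ≫ i)⁻¹ * (((x * y) ≫ g) ≫ i)) := by rw [inv_mul_cancel, _root_.mul_one]
    _ = _ := by ac_rfl

variable [CharP k p] [IsAlgClosed k]

lemma isAffine_W (n : ℕ) : IsAffine (WittGrp.W p n Sk).left :=
  isAffine_of_isAffineHom (WittGrp.W p n Sk).hom

section Step

variable {G Q : Over (Spec (CommRingCat.of k))} [GrpObj G] [IsCommMonObj G] [GrpObj Q] [IsCommMonObj Q]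
  [IsAffine G.left] [IsAffine Q.left] [LocallyOfFiniteType G.hom] [IsReduced G.left]
  [LocallyOfFiniteType Q.hom]
  (i : WittGrp.W p 1 (Spec (CommRingCat.of k)) ⟶ G) [IsMonHom i] [IsClosedImmersion i.left]
  (π : G ⟶ Q) [IsMonHom π] [Surjective π.left] [Flat π.left]

set_option backward.isDefEq.respectTransparency.types false in
/-- The inductive step. -/
theorem exists_step (hker : AlgGrp.IsKernel i π) {m : ℕ} (hm : 1 ≤ m)
    (f : WittGrp.W p m Sk ⟶ Q) [IsMonHom f] [IsFinite f.left] [Surjective f.left]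
    (hno : (𝟙 G : G ⟶ G) ^ (p ^ m) ≠ 1) :
    ∃ g : WittGrp.W p (m + 1) Sk ⟶ G, IsMonHom g ∧ IsFinite g.left ∧ Surjective g.left ∧
      g ≫ π = WittGrp.R p Sk (Nat.le_add_right m 1) ≫ f := by
  have hS : (p : Γ(Sk, ⊤)) = 0 := natCast_eq_zero_spec k
  haveI := WittExt.Main.mono_i i
  obtain ⟨s, hs⟩ := WittExt.Section.exists_section π i hker
  obtain ⟨c, hc, hv⟩ := WittExt.Main.exists_cocycle i π hker s hs
  obtain ⟨M, a, hcoh⟩ := exists_coh_top hm (pull f c) (hc.pull f)
  obtain ⟨g₀, hg₀⟩ := exists_map_coh i (f ≫ s) hcoh (fun T x y => by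
    rw [← Category.assoc, ← Category.assoc, ← Category.assoc, hv, ev2_pull, MonObj.mul_comp _ _ f])
  set s' := (f ≫ s) * (g₀ ≫ i)⁻¹ with hs'
  have hl : m ≤ m + 1 := Nat.le_add_right m 1
  have hv1 : 1 ≤ m + 1 := Nat.le_add_left 1 m
  have hw := WittExt.Main.comp_eq_one i π hker
  have hs'π : s' ≫ π = f := by
    rw [hs', MonObj.mul_comp, GrpObj.inv_comp, Category.assoc, Category.assoc, hw, hs, MonObj.comp_one,
      inv_one, _root_.mul_one, Category.comp_id]
  have hone : (1 : 𝟙_ (Over Sk) ⟶ WittGrp.W p m Sk) ≫ s' = 1 := by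
    have := hg₀ _ (1 : 𝟙_ (Over Sk) ⟶ WittGrp.W p m Sk) 1
    rw [_root_.mul_one, ev2_comp, std_one hl hv1 rfl, MonObj.one_comp (lin p 1 M a), MonObj.one_comp i,
      _root_.mul_one] at this
    exact mul_eq_left.1 this
  have hlift : ∀ x : 𝟙_ (Over Sk) ⟶ G, ∃ (y : 𝟙_ (Over Sk) ⟶ WittGrp.W p m Sk) (z : 𝟙_ (Over Sk) ⟶ WittGrp.W p 1 Sk),
      (y ≫ s') * (z ≫ i) = x := by
    intro x
    obtain ⟨y, hy⟩ := exists_lift_point f (x ≫ π)
    obtain ⟨z, hz⟩ := WittExt.Main.exists_lift_kernel i π hker ((y ≫ s')⁻¹ * x)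
      (by rw [MonObj.mul_comp, GrpObj.inv_comp, Category.assoc, hs'π, hy, inv_mul_cancel])
    exact ⟨y, z, by rw [hz, mul_inv_cancel_left]⟩
  have hlin : lin p 1 M a ≠ (1 : WittGrp.W p 1 Sk ⟶ _) := by
    intro hl1
    haveI : IsMonHom s' := isMonHom_of_points _ fun T x y => by
      have := hg₀ T x y
      rw [ev2_comp, hl1, MonObj.comp_one, MonObj.one_comp i, _root_.mul_one] at this
      exact this.symm
    refine hno (ext_points fun x => ?_)
    obtain ⟨y, z, rfl⟩ := hlift x
    rw [MonObj.comp_one, MonObj.comp_pow, Category.comp_id, mul_pow, ← MonObj.pow_comp, ← MonObj.pow_comp]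
    have h1 : z ^ (p ^ m) = 1 := by
      obtain ⟨m', rfl⟩ : ∃ m', m = m' + 1 := ⟨m - 1, by omega⟩
      rw [pow_succ', pow_mul, pow_p_eq_one_of_W_one hS, one_pow]
    have h2 : y ^ (p ^ m) = 1 := by
      have := congrArg (fun q => y ≫ q) (pow_p_pow_eq_one (p := p) (n := m) hS (𝟙 (WittGrp.W p m Sk)))
      simpa [MonObj.comp_pow, MonObj.comp_one] using this
    rw [h1, h2, MonObj.one_comp, MonObj.one_comp, _root_.mul_one]
  let g : WittGrp.W p (m + 1) Sk ⟶ G :=
    (WittGrp.R p Sk hl ≫ s') * (hi Sk (rfl : m + 1 = m + 1) ≫ lin p 1 M a ≫ i)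
  haveI hg : IsMonHom g := isMonHom_of_points _ fun T z w => by
    simp only [g, MonObj.comp_mul, ← Category.assoc, MonObj.mul_comp _ _ (WittGrp.R p Sk hl)]
    rw [mul_hi hl hv1 rfl, MonObj.mul_comp _ _ (lin p 1 M a), MonObj.mul_comp _ _ (lin p 1 M a),
      MonObj.mul_comp _ _ i, MonObj.mul_comp _ _ i, _root_.mul_mul_mul_comm (_ ≫ s'), hg₀, ev2_comp]
    ac_rfl
  have hgπ : g ≫ π = WittGrp.R p Sk hl ≫ f := by
    simp only [g, MonObj.mul_comp, Category.assoc, hs'π, hw, MonObj.comp_one, _root_.mul_one]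
  have hVg : WittGrp.V p Sk hv1 ≫ g = lin p 1 M a ≫ i := by
    refine hom_ext fun T x => ?_
    have e1 : (x ≫ WittGrp.V p Sk hv1) ≫ WittGrp.R p Sk hl = toUnit T ≫ 1 := by
      rw [Category.assoc, V_comp_R hl hv1 rfl, MonObj.comp_one, MonObj.comp_one]
    have e2 : (x ≫ WittGrp.V p Sk hv1) ≫ hi Sk (rfl : m + 1 = m + 1) = x := by
      have := pad_mul_V_hi hl hv1 rfl (1 : T ⟶ WittGrp.W p m Sk) x
      rwa [comp_pad_one, _root_.one_mul] at this
    rw [← Category.assoc, MonObj.comp_mul, ← Category.assoc, e1, ← Category.assoc, e2, Category.assoc,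
      hone, MonObj.comp_one, _root_.one_mul]
  obtain ⟨i₀, hi₀, ha₀⟩ := exists_ne_zero hlin
  set P := poly p M a with hP
  have hPdeg : P.natDegree ≠ 0 := natDegree_poly_ne_zero hi₀ ha₀
  have hP0 : P ≠ 0 := fun h => hPdeg (by rw [h, Polynomial.natDegree_zero])
  haveI := isAffine_W (p := p) (k := k) (m + 1)
  have hfinite : IsFinite g.left := by
    let W := WittGrp.W p (m + 1) Sk
    have hcomp : ∀ c, g.left.appTop (str G c) = str W c := fun c => str_comp g c
    obtain ⟨r, hr⟩ := WittExt.Main.exists_lift_kernel i π hker (𝟙 G * (π ≫ s)⁻¹)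
      (by rw [MonObj.mul_comp, GrpObj.inv_comp, Category.assoc, hs, Category.comp_id, Category.id_comp, mul_inv_cancel])
    have hgr : g ≫ r = (WittGrp.R p Sk hl ≫ g₀)⁻¹ * (hi Sk (rfl : m + 1 = m + 1) ≫ lin p 1 M a) := by
      rw [← cancel_mono i, Category.assoc, hr, MonObj.comp_mul, GrpObj.comp_inv, Category.comp_id,
        ← Category.assoc g π, hgπ, MonObj.mul_comp, GrpObj.inv_comp]
      simp only [g, hs', MonObj.comp_mul, GrpObj.comp_inv, Category.assoc]
      ac_nf
      simp [_root_.mul_comm, _root_.mul_left_comm]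
    let sub : Γ((WittGrp.W p m Sk).left, ⊤) → Prop := fun ga =>
      (WittExt.Section.gl g).IsIntegralElem (WittExt.Section.gl (WittGrp.R p Sk hl) ga)
    have hsub : ∀ ga, sub ga := by
      intro ga
      have hfi : (WittExt.Section.gl f).IsIntegral := by
        haveI := isAffine_W (p := p) (k := k) m
        exact RingHom.Finite.to_isIntegral ((HasAffineProperty.iff_of_isAffine (P := @IsFinite) (f := f.left)).1 inferInstance).2
      obtain ⟨q, hq, hq0⟩ := hfi ga
      refine ⟨q.map (WittExt.Section.gl π), hq.map _, ?_⟩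
      have hc' : (WittExt.Section.gl g).comp (WittExt.Section.gl π) =
          (WittExt.Section.gl (WittGrp.R p Sk hl)).comp (WittExt.Section.gl f) := by
        refine RingHom.ext fun c => ?_
        exact congrArg (fun q => q.left.appTop c) hgπ
      rw [Polynomial.eval₂_map, hc', ← Polynomial.hom_eval₂, hq0, map_zero]
    have hcoord : ∀ j, (WittExt.Section.gl g).IsIntegralElem ((vec (𝟙 W)).coeff j) := by
      intro j
      by_cases hj : j.val < m
      · have e : (vec (𝟙 W)).coeff j = WittExt.Section.gl (WittGrp.R p Sk hl)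
            ((vec (𝟙 (WittGrp.W p m Sk))).coeff ⟨j.val, hj⟩) := by
          rw [← coeff_vec_comp, Category.comp_id, ← Category.id_comp (WittGrp.R p Sk _), vec_R,
            TruncatedWittVector.coeff_truncate]
          rfl
        rw [e]; exact hsub _
      · obtain rfl : j = Fin.last m := Fin.ext (by simp only [Fin.val_last]; omega)
        set x := (vec (𝟙 W)).coeff (Fin.last m)
        have hPint : (WittExt.Section.gl g).IsIntegralElem (P.eval₂ (str W) x) := by
          have e : P.eval₂ (str W) x = c0 (g ≫ r) + c0 (WittGrp.R p Sk hl ≫ g₀) := by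
            rw [← c0_mul, hgr, _root_.mul_comm, mul_inv_cancel_left, c0, coeff_lin_one]
            have hx : (vec (hi Sk (rfl : m + 1 = m + 1))).coeff (0 : Fin 1) = x := by
              rw [← Category.id_comp (hi Sk (rfl : m + 1 = m + 1)), coeff_comp_hi]
              simp only [Fin.val_zero, Nat.zero_add]
              rfl
            rw [hx]
          rw [e]
          refine RingHom.IsIntegralElem.add (WittExt.Section.gl g) ?_ ?_
          · rw [c0, coeff_vec_comp]; exact RingHom.isIntegralElem_map _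
          · rw [c0, coeff_vec_comp]; exact hsub _
        letI : Algebra Γ(G.left, ⊤) Γ(W.left, ⊤) := (WittExt.Section.gl g).toAlgebra
        let l := P.leadingCoeff⁻¹
        have hmon : (P * Polynomial.C l).Monic := Polynomial.monic_mul_leadingCoeff_inv hP0
        haveI : Nontrivial Γ(W.left, ⊤) := by
          refine ⟨0, 1, fun h01 => ?_⟩
          have := congrArg (WittExt.Section.gl (1 : 𝟙_ (Over Sk) ⟶ W)) h01
          rw [map_zero, map_one] at this
          have h2 := congrArg (Scheme.ΓSpecIso (CommRingCat.of k)).hom this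
          simp at h2
        have hdeg : ((P * Polynomial.C l).map (str W)).natDegree ≠ 0 := by
          rw [hmon.natDegree_map, Polynomial.natDegree_mul_C (inv_ne_zero
            (Polynomial.leadingCoeff_ne_zero.2 hP0))]
          exact hPdeg
        refine IsIntegral.of_aeval_monic (R := Γ(G.left, ⊤)) (p := (P * Polynomial.C l).map (str G))
          (hmon.map _) ?_ ?_
        · intro h0
          apply hdeg
          rw [hmon.natDegree_map]
          haveI : Nontrivial Γ(G.left, ⊤) := (WittExt.Section.gl g).domain_nontrivial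
          rwa [hmon.natDegree_map] at h0
        change (WittExt.Section.gl g).IsIntegralElem _
        rw [Polynomial.aeval_def, Polynomial.eval₂_map, RingHom.algebraMap_toAlgebra,
          show (WittExt.Section.gl g).comp (str G) = str W from RingHom.ext hcomp, Polynomial.eval₂_mul,
          Polynomial.eval₂_C]
        exact RingHom.IsIntegralElem.mul (WittExt.Section.gl g) hPint (hcomp l ▸ RingHom.isIntegralElem_map _)
    have hint : (WittExt.Section.gl g).IsIntegral := by
      intro ga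
      obtain ⟨Pm, hPm⟩ := exists_mvPoly (m + 1) ga
      have hga : ga = MvPolynomial.eval₂ (str W) (fun j => (vec (𝟙 W)).coeff j.down) Pm := by
        rw [← hPm (𝟙 W)]
        simp [W]
      rw [hga]; clear hga hPm
      induction Pm using MvPolynomial.induction_on with
      | C c => rw [MvPolynomial.eval₂_C, ← hcomp c]; exact RingHom.isIntegralElem_map _
      | add s t hs ht =>
        rw [MvPolynomial.eval₂_add]
        exact RingHom.IsIntegralElem.add (WittExt.Section.gl g) hs ht
      | mul_X s i hs =>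
        rw [MvPolynomial.eval₂_mul, MvPolynomial.eval₂_X]
        exact RingHom.IsIntegralElem.mul (WittExt.Section.gl g) hs (hcoord _)
    rw [HasAffineProperty.iff_of_isAffine (P := @IsFinite)]
    refine ⟨inferInstance, RingHom.IsIntegral.to_finite hint ?_⟩
    have hlft : LocallyOfFiniteType g.left := by
      haveI : LocallyOfFiniteType (g.left ≫ G.hom) := by rw [Over.w]; infer_instance
      exact locallyOfFiniteType_of_comp g.left G.hom
    exact (HasRingHomProperty.iff_of_isAffine (P := @LocallyOfFiniteType)).1 hlft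
  refine ⟨g, hg, hfinite, ?_, hgπ⟩
  haveI := hfinite
  refine surjective_of_points g fun x => ?_
  obtain ⟨y, hy⟩ := exists_lift_point f (x ≫ π)
  obtain ⟨z, hz⟩ := WittExt.Main.exists_lift_kernel i π hker (((y ≫ pad Sk hl) ≫ g)⁻¹ * x)
    (by rw [MonObj.mul_comp, GrpObj.inv_comp, Category.assoc, hgπ, Category.assoc, ← Category.assoc (pad Sk hl),
      pad_R, Category.id_comp, hy, inv_mul_cancel])
  let e := (Scheme.ΓSpecIso (CommRingCat.of k)).commRingCatIsoToRingEquiv
  obtain ⟨w, hw'⟩ : ∃ w : 𝟙_ (Over Sk) ⟶ WittGrp.W p 1 Sk, w ≫ lin p 1 M a = z := by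
    have hd : (P.map (e.toRingHom.comp (str (𝟙_ (Over Sk)))) - Polynomial.C (e (c0 z))).degree ≠ 0 := by
      intro h
      have := Polynomial.natDegree_eq_of_degree_eq_some h
      rw [Polynomial.natDegree_sub_C, Polynomial.natDegree_map] at this
      exact hPdeg this
    obtain ⟨r, hr⟩ := IsAlgClosed.exists_root _ hd
    refine ⟨ofVec (TruncatedWittVector.mk p fun _ => e.symm r), ext_c0 ?_⟩
    rw [c0, coeff_lin_one, vec_ofVec, TruncatedWittVector.coeff_mk]
    apply e.injective
    rw [show e (P.eval₂ (str (𝟙_ (Over Sk))) (e.symm r)) = (P.map (e.toRingHom.comp (str (𝟙_ (Over Sk))))).eval r by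
      rw [Polynomial.eval_map, ← RingEquiv.coe_toRingHom, Polynomial.hom_eval₂]; simp]
    simpa [Polynomial.IsRoot, sub_eq_zero] using hr
  refine ⟨(y ≫ pad Sk hl) * (w ≫ WittGrp.V p Sk hv1), ?_⟩
  rw [MonObj.mul_comp, Category.assoc w, hVg, ← Category.assoc w, hw', hz, mul_inv_cancel_left]

end Step

/-- A group of maximal period receives a finite surjection from the Witt group. -/
theorem exists_witt_map : ∀ {n : ℕ} (G : Over (Spec (CommRingCat.of k))) [GrpObj G] [IsCommMonObj G],
    Unip p G → topologicalKrullDim G.left ≤ n → (𝟙 G : G ⟶ G) ^ (p ^ n) = 1 →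
    (∀ m, m < n → (𝟙 G : G ⟶ G) ^ (p ^ m) ≠ 1) →
    ∃ f : WittGrp.W p n Sk ⟶ G, IsMonHom f ∧ IsFinite f.left ∧ Surjective f.left := by
  intro n
  induction n with
  | zero =>
    intro G _ _ hG _ h1 _
    rw [pow_zero, pow_one] at h1
    haveI := hG.lft; haveI := hG.affine; haveI := hG.integral
    haveI : IsIso (1 : WittGrp.W p 0 Sk ⟶ G) :=
      ⟨1, eq_W_zero _ _, eq_one_of_pow_zero h1 _ |>.trans (eq_one_of_pow_zero h1 _).symm⟩
    haveI : IsIso (1 : WittGrp.W p 0 Sk ⟶ G).left :=
      inferInstanceAs (IsIso ((Over.forget _).map (1 : WittGrp.W p 0 Sk ⟶ G)))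
    exact ⟨1, isMonHom_of_points _ (fun T x y => by simp [MonObj.comp_one]), inferInstance, inferInstance⟩
  | succ m ih =>
    intro G _ _ hG hdim hm hlt
    have hS : (p : Γ(Sk, ⊤)) = 0 := natCast_eq_zero_spec k
    obtain ⟨Q, _, _, i, π, hi, hπ, hci, hfl, hsu, hker, hQ, -, -, ⟨n', hn', hQdim⟩, hQm⟩ :=
      exists_split p G hG hdim hm (hlt m (Nat.lt_succ_self m))
    obtain rfl : n' = m := by omega
    haveI := hG.lft; haveI := hG.affine; haveI := hG.integral; haveI := hQ.affine; haveI := hQ.lft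
    haveI := hi; haveI := hπ; haveI := hci; haveI := hfl; haveI := hsu
    haveI := WittExt.Main.mono_i i
    rcases Nat.eq_zero_or_pos n' with h0 | h0
    · subst h0
      have h1 := hQm rfl
      rw [pow_zero, pow_one] at h1
      obtain ⟨j, hj⟩ := WittExt.Main.exists_lift_kernel i π hker (𝟙 G) (eq_one_of_pow_zero h1 _)
      haveI : IsIso i := ⟨j, by rw [← cancel_mono i, Category.assoc, hj]; simp, hj⟩
      haveI : IsIso i.left := inferInstanceAs (IsIso ((Over.forget _).map i))
      exact ⟨i, hi, inferInstance, inferInstance⟩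
    · have hlt' : ∀ j, j < n' → (𝟙 Q : Q ⟶ Q) ^ (p ^ j) ≠ 1 := by
        intro j hj h
        obtain ⟨z, hz⟩ := WittExt.Main.exists_lift_kernel i π hker ((𝟙 G : G ⟶ G) ^ (p ^ j)) (by
          rw [MonObj.pow_comp, Category.id_comp, ← Category.comp_id π, ← MonObj.comp_pow, h, MonObj.comp_one])
        refine hlt (j + 1) (by omega) ?_
        rw [pow_succ, pow_mul, ← hz, ← MonObj.pow_comp, pow_p_eq_one_of_W_one hS, MonObj.one_comp]
      obtain ⟨f, hf, hff, hfs⟩ := ih Q hQ hQdim (hQm rfl) hlt'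
      haveI := hf; haveI := hff; haveI := hfs
      obtain ⟨g, hg, hgf, hgs, -⟩ := exists_step i π hker h0 f (hlt n' (Nat.lt_succ_self _))
      exact ⟨g, hg, hgf, hgs⟩

end Groth.Agent.UnipLib
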