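import Groth.Agent.UnipLib.Prod
import Groth.Agent.UnipLib.WittMap
import Mathlib.AlgebraicGeometry.Sites.Fpqc
import Mathlib.RingTheory.RingHom.FaithfullyFlat

/-! An isogeny from a product of Witt groups has an isogeny in the other direction. -/

set_option autoImplicit false
set_option linter.style.haveILetI false
universe u

open CategoryTheory CategoryTheory.Limits AlgebraicGeometry MonoidalCategory CartesianMonoidalCategory MonObj

namespace Groth.Agent.UnipLib

open Groth.Agent.WittLib.Basic Groth.Agent.WittLib.Endo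

variable {p : ℕ} [hp : Fact p.Prime] {k : Type u} [Field k] [IsAlgClosed k]

local notation "Sk" => Spec (CommRingCat.of k)
local notation "pt₀" => IsLocalRing.closedPoint k

omit [IsAlgClosed k] in
lemma exists_kernel {G H : Over Sk} [GrpObj H] (f : G ⟶ H) :
    ∃ (N : Over Sk) (i : N ⟶ G), AlgGrp.IsKernel i f := by
  refine ⟨pullback f η[H], pullback.fst _ _, ?_⟩
  show IsPullback _ (toUnit _) f η[H]
  rw [show toUnit (pullback f η[H]) = pullback.snd f η[H] from toUnit_unique _ _]
  exact IsPullback.of_hasPullback _ _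

lemma finite_points {N : Over Sk} [IsFinite N.hom] : Finite (𝟙_ (Over Sk) ⟶ N) := by
  haveI : Subsingleton ↥(Spec (CommRingCat.of k)) := inferInstanceAs (Subsingleton (PrimeSpectrum k))
  haveI : Finite N.left := by
    rw [← Set.finite_univ_iff]
    refine (Scheme.Hom.finite_preimage_singleton N.hom pt₀).subset fun x _ => ?_
    exact Subsingleton.elim _ _
  exact Finite.of_injective (fun P => P.left.base pt₀) fun P Q h => WittLib.Subgroup.point_ext h

/-- Epimorphy for homomorphisms. -/
lemma eq_of_surjective_comp {P G H : Over Sk} [IsReduced G.left] [LocallyOfFiniteType G.hom]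
    [LocallyOfFiniteType P.hom] [IsSeparated H.hom] (f : P ⟶ G) [Surjective f.left] {a b : G ⟶ H}
    (e : f ≫ a = f ≫ b) : a = b :=
  ext_points fun x => by
    obtain ⟨y, rfl⟩ := exists_lift_point f x
    rw [Category.assoc, e, ← Category.assoc]

variable [CharP k p]

set_option backward.isDefEq.respectTransparency.types false in
/-- The inverse isogeny. -/
theorem exists_inverse {r : ℕ} {nn : Fin r → ℕ} {P : Over (Spec (CommRingCat.of k))} [GrpObj P]
    {proj : ∀ j : Fin r, P ⟶ WittGrp.W p (nn j) (Spec (CommRingCat.of k))} (hP : IsWProd p nn P proj)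
    {G : Over (Spec (CommRingCat.of k))} [GrpObj G] [IsCommMonObj G] [IsAffine G.left]
    [LocallyOfFiniteType G.hom] [IsReduced G.left]
    (f : P ⟶ G) [IsMonHom f] (hf : SGA7.IsIsogenyOver f) :
    ∃ u : G ⟶ P, Good u ∧ IsFinite f.left := by
  haveI := hP.isCommMonObj
  obtain ⟨haff, hsm, hred, hΦ⟩ := hP.good_props
  haveI := haff; haveI := hsm; haveI := hred
  haveI := hf.1
  haveI : Flat f.left := GrpScheme.HomFlat.flat_of_surjective f
  obtain ⟨N, i, hi⟩ := exists_kernel f
  haveI := hf.2 N i hi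
  haveI := finite_points (N := N)
  have hφ : ∀ j, ∃ φ : WittGrp.W p (nn j) Sk ⟶ WittGrp.W p (nn j) Sk, Good φ ∧ (i ≫ proj j) ≫ φ = 1 := by
    intro j
    obtain ⟨φ₀, hφ₀, hk⟩ := exists_good_kill_finite
      (Set.finite_range (fun Q : 𝟙_ (Over Sk) ⟶ N => Q ≫ i ≫ proj j))
    obtain ⟨φ₁, hφ₁, hw⟩ := exists_good_nilp ((i ≫ proj j) ≫ φ₀)
      (fun Q => by
        have := hk _ ⟨Q, rfl⟩
        simpa only [Category.assoc] using this)
    exact ⟨φ₀ ≫ φ₁, hφ₀.comp hφ₁, by simpa only [Category.assoc] using hw⟩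
  choose φ hφg hφk using hφ
  obtain ⟨Φ, hΦg, hΦp⟩ := hΦ φ hφg
  haveI := hΦg.hom
  have hiΦ : i ≫ Φ = 1 := hP.ext fun j => by
    haveI := hP.hom j
    rw [Category.assoc, hΦp, ← Category.assoc, hφk, MonObj.one_comp]
  have hdesc : ∀ {T : Over Sk} (x y : T ⟶ P), x ≫ f = y ≫ f → x ≫ Φ = y ≫ Φ := by
    intro T x y e
    have h1 : (x * y⁻¹) ≫ f = 1 := by rw [MonObj.mul_comp, GrpObj.inv_comp, e, mul_inv_cancel]
    let z : T ⟶ N := hi.lift (x * y⁻¹) (toUnit T) (by rw [h1, Hom.one_def])
    have hz : z ≫ i = x * y⁻¹ := hi.lift_fst _ _ _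
    have h2 := congrArg (fun q => q ≫ Φ) hz
    simp only [Category.assoc, hiΦ, MonObj.comp_one, MonObj.mul_comp, GrpObj.inv_comp] at h2
    exact mul_inv_eq_one.1 h2.symm
  have hcond : ∀ {T : Scheme.{u}} (a b : T ⟶ P.left), a ≫ f.left = b ≫ f.left → a ≫ Φ.left = b ≫ Φ.left := by
    intro T a b e
    have eb : b ≫ P.hom = a ≫ P.hom := by rw [← Over.w f, ← Category.assoc, ← e, Category.assoc]
    exact congrArg CommaMorphism.left (hdesc (T := Over.mk (a ≫ P.hom)) (Over.homMk a rfl) (Over.homMk b eb)
      (Over.OverMorphism.ext e))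
  haveI : QuasiCompact f.left := inferInstance
  let u₀ : G.left ⟶ P.left := EffectiveEpi.desc f.left Φ.left hcond
  have hu₀ : f.left ≫ u₀ = Φ.left := EffectiveEpi.fac f.left Φ.left hcond
  let u : G ⟶ P := Over.homMk u₀ (by
    rw [← cancel_epi f.left, ← Category.assoc, hu₀, Over.w, Over.w])
  have hfu : f ≫ u = Φ := Over.OverMorphism.ext hu₀
  haveI : Smooth G.hom := GrpScheme.Smooth.smooth_of_perfectField G
  haveI : Smooth (G ⊗ G).hom := by
    show Smooth (pullback.fst G.hom G.hom ≫ G.hom)
    infer_instance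
  haveI : IsReduced (G ⊗ G).left := GrpScheme.HomFlat.isReduced_of_smooth (G ⊗ G).hom
  have hkey : (fst G G * snd G G) ≫ u = (fst G G ≫ u) * (snd G G ≫ u) := by
    refine ext_points fun Q => ?_
    obtain ⟨a, ha⟩ := exists_lift_point f (Q ≫ fst G G)
    obtain ⟨b, hb⟩ := exists_lift_point f (Q ≫ snd G G)
    rw [← Category.assoc, MonObj.comp_mul, MonObj.comp_mul, ← Category.assoc, ← Category.assoc, ← ha, ← hb,
      ← MonObj.mul_comp, Category.assoc, Category.assoc, Category.assoc, hfu, MonObj.mul_comp]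
  have hum : IsMonHom u := isMonHom_of_points _ fun T x y => by
    have := congrArg (fun q => lift x y ≫ q) hkey
    simpa only [← Category.assoc, MonObj.comp_mul, lift_fst, lift_snd] using this
  haveI := hΦg.surj
  have hus : Surjective u.left := by
    haveI : Surjective (f.left ≫ u.left) := by rw [← Over.comp_left, hfu]; infer_instance
    exact Surjective.of_comp f.left u.left
  have hinj : Function.Injective (WittExt.Section.gl f) := (WittExt.Section.faithfullyFlat f).injective
  have hΦint : (WittExt.Section.gl Φ).IsIntegral :=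
    RingHom.Finite.to_isIntegral ((HasAffineProperty.iff_of_isAffine (P := @IsFinite) (f := Φ.left)).1 hΦg.fin).2
  have hgl : WittExt.Section.gl Φ = (WittExt.Section.gl f).comp (WittExt.Section.gl u) := by
    rw [← hfu, WittExt.Section.gl_comp]
  have huint : (WittExt.Section.gl u).IsIntegral := by
    intro v
    obtain ⟨q, hq, hq0⟩ := hΦint (WittExt.Section.gl f v)
    refine ⟨q, hq, hinj ?_⟩
    rw [Polynomial.hom_eval₂, map_zero, ← hgl]
    exact hq0
  have hfint : (WittExt.Section.gl f).IsIntegral := by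
    intro v
    obtain ⟨q, hq, hq0⟩ := hΦint v
    refine ⟨q.map (WittExt.Section.gl u), hq.map _, ?_⟩
    rw [Polynomial.eval₂_map, ← hgl]
    exact hq0
  haveI : LocallyOfFiniteType u.left := by
    haveI : LocallyOfFiniteType (u.left ≫ P.hom) := by rw [Over.w]; infer_instance
    exact locallyOfFiniteType_of_comp u.left P.hom
  haveI : LocallyOfFiniteType f.left := by
    haveI : LocallyOfFiniteType (f.left ≫ G.hom) := by rw [Over.w]; infer_instance
    exact locallyOfFiniteType_of_comp f.left G.hom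
  refine ⟨u, ⟨hum, ?_, hus⟩, ?_⟩
  · rw [HasAffineProperty.iff_of_isAffine (P := @IsFinite)]
    exact ⟨inferInstance, RingHom.IsIntegral.to_finite huint
      ((HasRingHomProperty.iff_of_isAffine (P := @LocallyOfFiniteType)).1 inferInstance)⟩
  · rw [HasAffineProperty.iff_of_isAffine (P := @IsFinite)]
    exact ⟨inferInstance, RingHom.IsIntegral.to_finite hfint
      ((HasRingHomProperty.iff_of_isAffine (P := @LocallyOfFiniteType)).1 inferInstance)⟩

end Groth.Agent.UnipLib
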