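import Mathlib.RingTheory.HopfAlgebra.Basic
import Mathlib.RingTheory.Bialgebra.Convolution
import Mathlib.RingTheory.Nullstellensatz
import Mathlib.RingTheory.Jacobson.Ring
import Mathlib.RingTheory.FiniteType
import Mathlib.LinearAlgebra.TensorProduct.Basis
import Mathlib.FieldTheory.IsAlgClosed.Basic
import Mathlib.RingTheory.TensorProduct.Basic

/-! Rational points, translation operators and separation for reduced Hopf algebras of finite type over an
algebraically closed field. -/

set_option autoImplicit false
set_option linter.style.haveILetI false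
universe u
open scoped TensorProduct
open WithConv

namespace Groth.Agent.UnipLib

variable {k : Type u} [Field k]

section Sep

variable [IsAlgClosed k] {A : Type u} [CommRing A] [Algebra k A] [Algebra.FiniteType k A]

/-- Every maximal ideal is the kernel of a rational point. -/
lemma exists_pt_ker (m : Ideal A) [m.IsMaximal] : ∃ g : A →ₐ[k] k, ∀ a, g a = 0 ↔ a ∈ m := by
  letI := Ideal.Quotient.field m
  haveI : Module.Finite k (A ⧸ m) := by
    haveI : Algebra.FiniteType k (A ⧸ m) :=
      Algebra.FiniteType.of_surjective (Ideal.Quotient.mkₐ k m) Ideal.Quotient.mk_surjective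
    exact finite_of_finite_type_of_isJacobsonRing k (A ⧸ m)
  let e : k ≃ₐ[k] A ⧸ m :=
    AlgEquiv.ofBijective (Algebra.ofId k (A ⧸ m))
      (IsAlgClosed.algebraMap_bijective_of_isIntegral (k := k) (K := A ⧸ m))
  refine ⟨e.symm.toAlgHom.comp (Ideal.Quotient.mkₐ k m), fun a => ?_⟩
  change e.symm (Ideal.Quotient.mk m a) = 0 ↔ a ∈ m
  rw [← Ideal.Quotient.eq_zero_iff_mem]
  exact map_eq_zero_iff _ e.symm.injective

/-- A function vanishing at all rational points is zero. -/
lemma eq_zero_of_forall [IsReduced A] {a : A} (h : ∀ g : A →ₐ[k] k, g a = 0) : a = 0 := by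
  haveI : IsJacobsonRing A := isJacobsonRing_of_finiteType (A := k)
  have h' : a ∈ (⊥ : Ideal A).radical := by
    rw [Ideal.radical_eq_jacobson, Ideal.jacobson, Ideal.mem_sInf]
    rintro m ⟨-, hm⟩
    obtain ⟨g, hg⟩ := exists_pt_ker (k := k) m
    exact (hg a).1 (h g)
  obtain ⟨n, hn⟩ := Ideal.mem_radical_iff.1 h'
  exact IsReduced.eq_zero a ⟨n, Ideal.mem_bot.1 hn⟩

lemma ext_pts [IsReduced A] {a b : A} (h : ∀ g : A →ₐ[k] k, g a = g b) : a = b :=
  sub_eq_zero.1 (eq_zero_of_forall (k := k) fun g => by rw [map_sub, h g, sub_self])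

/-- Elements of a tensor product are separated by pairs of points. -/
lemma tensor_ext [IsReduced A] {B : Type u} [CommRing B] [Algebra k B] [Algebra.FiniteType k B] [IsReduced B]
    {s t : A ⊗[k] B}
    (h : ∀ (x : A →ₐ[k] k) (y : B →ₐ[k] k),
      Algebra.TensorProduct.lift x y (fun _ _ => Commute.all _ _) s =
        Algebra.TensorProduct.lift x y (fun _ _ => Commute.all _ _) t) : s = t := by
  classical
  let b := Module.Free.chooseBasis k B
  refine (TensorProduct.equivFinsuppOfBasisRight b).injective (Finsupp.ext fun i => ext_pts (k := k) fun x => ?_)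
  have key : ∀ u : A ⊗[k] B, ∀ y : B →ₐ[k] k,
      y (((TensorProduct.equivFinsuppOfBasisRight b u).mapRange x (map_zero x)).sum fun j c => c • b j) =
        Algebra.TensorProduct.lift x y (fun _ _ => Commute.all _ _) u := by
    intro u y
    induction u with
    | zero => simp
    | add u v hu hv =>
      rw [map_add, map_add, Finsupp.mapRange_add (map_add x), Finsupp.sum_add_index' (h := fun j c => c • b j)
        (fun j => zero_smul k (b j)) (fun j c d => add_smul c d (b j)), map_add, hu, hv]
    | tmul a c =>
      rw [Algebra.TensorProduct.lift_tmul, TensorProduct.equivFinsuppOfBasisRight_apply_tmul]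
      conv_rhs => rw [← b.linearCombination_repr c]
      rw [Finsupp.linearCombination_apply, map_finsuppSum, map_finsuppSum, Finsupp.sum_mapRange_index (by simp),
        Finsupp.sum_mapRange_index (by simp), Finsupp.mul_sum]
      refine Finsupp.sum_congr fun j _ => ?_
      rw [map_smul, map_smul, map_smul, smul_eq_mul, smul_eq_mul, smul_eq_mul]
      ring
  have e : ((TensorProduct.equivFinsuppOfBasisRight b s).mapRange x (map_zero x)) =
      ((TensorProduct.equivFinsuppOfBasisRight b t).mapRange x (map_zero x)) := by
    apply b.repr.symm.injective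
    rw [Module.Basis.repr_symm_apply, Module.Basis.repr_symm_apply, Finsupp.linearCombination_apply,
      Finsupp.linearCombination_apply]
    exact ext_pts fun y => by rw [key, key]; exact h x y
  exact congr($e i)

end Sep

variable {A : Type u} [CommRing A] [HopfAlgebra k A]

/-- The translation operator attached to a rational point. -/
noncomputable def rho (g : A →ₐ[k] k) : A →ₐ[k] A :=
  (toConv (AlgHom.id k A) * toConv ((Algebra.ofId k A).comp g)).ofConv

lemma pt_rho {R : Type u} [CommRing R] [Algebra k R] (x : A →ₐ[k] R) (g : A →ₐ[k] k) (a : A) :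
    x (rho g a) = (toConv x * toConv ((Algebra.ofId k R).comp g)) a := by
  rw [rho, ← AlgHom.comp_apply, AlgHom.comp_convMul_distrib, ofConv_toConv, ofConv_toConv, AlgHom.comp_id]
  have e : x.comp ((Algebra.ofId k A).comp g) = (Algebra.ofId k R).comp g := AlgHom.ext fun b => x.commutes _
  rw [e]

lemma pt_rho_self (x g : A →ₐ[k] k) (a : A) : x (rho g a) = (toConv x * toConv g) a := by
  rw [pt_rho]
  have e : (Algebra.ofId k k).comp g = g := AlgHom.ext fun b => rfl
  rw [e]

/-- A finite-dimensional stable space containing given elements. -/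
lemma exists_stable (S : Finset A) : ∃ V : Submodule k A, Module.Finite k V ∧ (S : Set A) ⊆ V ∧
    ∀ g, ∀ v ∈ V, rho (k := k) g v ∈ V := by
  classical
  choose T hT using fun a : A => TensorProduct.exists_finset (Coalgebra.comul (R := k) a)
  let U : Submodule k A := Submodule.span k ((S.biUnion fun a => (T a).image Prod.fst : Finset A) : Set A)
  let V : Submodule k A := Submodule.span k {b | ∃ g, ∃ a ∈ S, b = rho (k := k) g a}
  have hg : ∀ g, ∀ a ∈ S, rho (k := k) g a ∈ U := by
    intro g a ha
    rw [rho, AlgHom.convMul_apply, hT a, map_sum]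
    refine U.sum_mem fun ij hij => ?_
    rw [Algebra.TensorProduct.lift_tmul, ofConv_toConv, ofConv_toConv, AlgHom.id_apply, AlgHom.comp_apply,
      Algebra.ofId_apply, _root_.mul_comm, ← Algebra.smul_def]
    exact U.smul_mem _ (Submodule.subset_span (Finset.mem_biUnion.2 ⟨a, ha, Finset.mem_image_of_mem _ hij⟩))
  have hVU : V ≤ U := Submodule.span_le.2 fun b ⟨g, a, ha, hb⟩ => hb ▸ hg g a ha
  haveI : Module.Finite k U := Module.Finite.span_of_finite k (Finset.finite_toSet _)
  have hone : ∀ a, rho (k := k) (Bialgebra.counitAlgHom k A) a = a := by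
    intro a
    have : (1 : WithConv (A →ₐ[k] A)) = toConv ((Algebra.ofId k A).comp (Bialgebra.counitAlgHom k A)) := rfl
    rw [rho, ← this, _root_.mul_one]
    rfl
  refine ⟨V, Submodule.finiteDimensional_of_le hVU, fun a ha => Submodule.subset_span
    ⟨Bialgebra.counitAlgHom k A, a, ha, (hone a).symm⟩, fun g v hv => ?_⟩
  induction hv using Submodule.span_induction with
  | zero => rw [map_zero]; exact zero_mem _
  | add a b _ _ ha hb => rw [map_add]; exact add_mem ha hb
  | smul c a _ ha => rw [map_smul]; exact V.smul_mem _ ha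
  | mem b hb =>
    obtain ⟨h, a, ha, rfl⟩ := hb
    refine Submodule.subset_span ⟨(toConv g * toConv h).ofConv, a, ha, ?_⟩
    have e : ((Algebra.ofId k A).comp (toConv g * toConv h).ofConv) =
        (toConv ((Algebra.ofId k A).comp g) * toConv ((Algebra.ofId k A).comp h)).ofConv :=
      AlgHom.comp_convMul_distrib _ _ _
    conv_rhs => rw [rho, e, toConv_ofConv, ← _root_.mul_assoc]
    rw [pt_rho (rho g) h a]
    rfl

end Groth.Agent.UnipLib
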