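import Groth.Agent.UnipLib.Torus
import Mathlib.RingTheory.KrullDimension.Basic
import Mathlib.Topology.KrullDimension
import Mathlib.RingTheory.Spectrum.Prime.Topology

/-! If some power of `p` kills a connected group of dimension `n`, then so does `p ^ n`. -/

set_option autoImplicit false
set_option linter.style.haveILetI false
universe u
open WithConv

namespace Groth.Agent.UnipLib

variable {k : Type u} [Field k] {A : Type u} [CommRing A] [HopfAlgebra k A] [IsDomain A]

theorem powMap_dim (p : ℕ) {r : ℕ} (hr : ∀ a : A, powMap k (p ^ r) a = algebraMap k A (Coalgebra.counit a))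
    {n : ℕ} (hn : ringKrullDim A ≤ n) (a : A) :
    powMap k (p ^ n) a = algebraMap k A (Coalgebra.counit a) := by
  let I : ℕ → Ideal A := fun i => RingHom.ker (powMap k (A := A) (p ^ i))
  have hstep : ∀ i (b : A), b ∈ I (i + 1) ↔ powMap k p b ∈ I i := by
    intro i b
    simp only [I, RingHom.mem_ker, powMap_powMap, pow_succ]
  have hmono : ∀ i, I i ≤ I (i + 1) := by
    intro i b hb
    simp only [I, RingHom.mem_ker] at hb ⊢
    rw [pow_succ, mul_comm, ← powMap_powMap, hb, map_zero]
  have hstab : ∀ i, I i = I (i + 1) → ∀ j, i ≤ j → I j = I i := by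
    intro i hi
    have key : ∀ d, I (i + d) = I i ∧ I (i + d + 1) = I i := by
      intro d
      induction d with
      | zero => exact ⟨rfl, hi.symm⟩
      | succ d ih =>
        refine ⟨ih.2, Ideal.ext fun b => ?_⟩
        rw [hstep (i + (d + 1)) b, show i + (d + 1) = i + d + 1 from rfl, ih.2, ← ih.1, ← hstep (i + d) b, ih.2, ← ih.1]
    intro j hj
    obtain ⟨d, rfl⟩ := Nat.exists_eq_add_of_le hj
    exact (key d).1
  obtain ⟨i, hi, hi'⟩ : ∃ i ≤ n, I i = I (i + 1) := by
    by_contra hcon
    push Not at hcon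
    have hlt : ∀ i : Fin (n + 1), I i < I (i + 1) := fun i =>
      lt_of_le_of_ne (hmono i) (hcon i (Nat.lt_succ_iff.1 i.2))
    let l : LTSeries (PrimeSpectrum A) := LTSeries.mk (n + 1)
      (fun j : Fin (n + 2) => ⟨I j, RingHom.ker_isPrime _⟩)
      (Fin.strictMono_iff_lt_succ.2 fun j => by exact hlt j)
    have h1 := Order.LTSeries.length_le_krullDim l
    have h2 : ((n + 1 : ℕ) : WithBot ℕ∞) ≤ (n : WithBot ℕ∞) := le_trans h1 hn
    exact absurd (Nat.cast_le.1 h2) (by omega)
  have heq : I n = I (max n r) := by rw [hstab i hi' n hi, hstab i hi' (max n r) (hi.trans (le_max_left n r))]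
  have hmax : ∀ b : A, powMap k (p ^ max n r) b = algebraMap k A (Coalgebra.counit b) := by
    intro b
    obtain ⟨d, hd⟩ := Nat.exists_eq_add_of_le (le_max_right n r)
    rw [hd, pow_add, mul_comm, ← powMap_powMap, hr, AlgHom.commutes]
  have hmem : a - algebraMap k A (Coalgebra.counit a) ∈ I n := by
    rw [heq, RingHom.mem_ker, map_sub, hmax, AlgHom.commutes, sub_self]
  rw [RingHom.mem_ker, map_sub, AlgHom.commutes, sub_eq_zero] at hmem
  exact hmem

end Groth.Agent.UnipLib
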