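import Groth.Agent.UnipLib.Unipotent
import Groth.Agent.UnipLib.Descent
import Groth.Agent.UnipLib.Period
import Mathlib.LinearAlgebra.Matrix.Adjugate
import Mathlib.LinearAlgebra.Basis.VectorSpace
import Mathlib.RingTheory.Ideal.KrullsHeightTheorem
import Mathlib.RingTheory.Flat.FaithfullyFlat.Algebra
import Mathlib.Algebra.CharP.Lemmas
import Mathlib.RingTheory.Ideal.GoingDown

/-! The quotient of a commutative affine group by an additive subgroup. -/

set_option autoImplicit false
set_option linter.style.haveILetI false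
universe u
open scoped TensorProduct Polynomial Matrix
open WithConv Polynomial

namespace Groth.Agent.UnipLib

variable {k : Type u} [Field k] {A : Type u} [CommRing A] [HopfAlgebra k A]

/-- The function attached to an element and a linear functional on the left slot. -/
noncomputable def coef (l : A →ₗ[k] k) : A →ₗ[k] A :=
  (TensorProduct.lid k A).toLinearMap ∘ₗ l.rTensor A ∘ₗ Coalgebra.comul

lemma pt_coef (l : A →ₗ[k] k) (x : A →ₐ[k] k) (a : A) : x (coef l a) = l (rho x a) := by
  rw [coef, rho, AlgHom.convMul_apply]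
  simp only [LinearMap.comp_apply, LinearEquiv.coe_coe, ofConv_toConv]
  generalize Coalgebra.comul (R := k) a = t
  induction t with
  | zero => simp
  | add u v hu hv => simp only [map_add, hu, hv]
  | tmul u v =>
    rw [LinearMap.rTensor_tmul, TensorProduct.lid_tmul, map_smul, Algebra.TensorProduct.lift_tmul,
      AlgHom.id_apply, AlgHom.comp_apply, Algebra.ofId_apply, _root_.mul_comm u, ← Algebra.smul_def, map_smul,
      smul_eq_mul, smul_eq_mul, _root_.mul_comm]

lemma coef_counit (a : A) : coef (Coalgebra.counit (R := k) (A := A)) a = a := by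
  simp only [coef, LinearMap.comp_apply, LinearEquiv.coe_coe, Coalgebra.rTensor_counit_comul,
    TensorProduct.lid_tmul, one_smul]

variable [IsAlgClosed k] [IsDomain A] [Algebra.FiniteType k A]

/-- The quotient by an additive subgroup, as a Hopf subalgebra. -/
theorem exists_quotient (hc : PtsComm k A) {p : ℕ} [Fact p.Prime] [CharP k p] (π : A →ₐ[k] k[X])
    (hπ : Function.Surjective π)
    (hadd : ∀ a b : k, toConv ((aeval a).comp π) * toConv ((aeval b).comp π) = toConv ((aeval (a + b)).comp π)) :
    ∃ B : Subalgebra k A, SGA3.IsHopfSubalgebra k A B ∧ B.FG ∧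
      (∀ g, ∀ b ∈ B, rho (k := k) g b ∈ B) ∧
      (∀ b ∈ B, π b = C (Coalgebra.counit (R := k) b)) ∧
      RingHom.ker π ≤ Ideal.map (algebraMap B A) (RingHom.ker ((Bialgebra.counitAlgHom k A).comp B.val)) := by
  classical
  let nh : k → (A →ₐ[k] k) := fun a => (aeval a).comp π
  have hn0 : nh 0 = Bialgebra.counitAlgHom k A := by
    have h : toConv (nh 0) * toConv (nh 0) = toConv (nh 0) := by
      show toConv ((aeval (0 : k)).comp π) * _ = _
      rw [hadd, add_zero]
    have h2 := mul_eq_left.1 h
    exact congrArg WithConv.ofConv h2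
  have hnpow : ∀ (t : k) (i : ℕ), toConv (nh t) ^ i = toConv (nh (i * t)) := by
    intro t i
    induction i with
    | zero => rw [pow_zero, Nat.cast_zero, zero_mul, hn0]; rfl
    | succ i ih =>
      rw [pow_succ, ih, show toConv (nh (↑i * t)) * toConv (nh t) = toConv (nh (↑i * t + t)) from hadd _ _,
        Nat.cast_succ, add_mul, one_mul]
  have hnp : ∀ t, toConv (nh t) ^ p = 1 := fun t => by
    rw [hnpow, CharP.cast_eq_zero, zero_mul, hn0]; rfl
  -- the invariants
  let I0 : Subalgebra k A := ⨅ t : k, AlgHom.equalizer (rho (nh t)) (AlgHom.id k A)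
  have hI0 : ∀ a, a ∈ I0 ↔ ∀ t, rho (nh t) a = a := fun a => by simp [I0, Algebra.mem_iInf, AlgHom.mem_equalizer]
  have hcommρ : ∀ g h a, rho (k := k) g (rho h a) = rho (A := A) h (rho g a) := fun g h a => by
    rw [rho_mul, rho_mul, hc]
  have hI0st : ∀ g, ∀ a ∈ I0, rho (k := k) g a ∈ I0 := fun g a ha => (hI0 _).2 fun t => by
    rw [hcommρ, (hI0 a).1 ha t]
  -- generators of the ideal
  haveI : IsNoetherianRing A := Algebra.FiniteType.isNoetherianRing k A
  obtain ⟨s, hs⟩ := (IsNoetherian.noetherian (RingHom.ker π) : Submodule.FG (RingHom.ker π))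
  obtain ⟨V, hVfin, hsV, hVst⟩ := exists_stable (k := k) s
  let W : Submodule k A := V ⊓ (RingHom.ker π).restrictScalars k
  haveI : Module.Finite k W := Submodule.finiteDimensional_of_le inf_le_left
  have hWst : ∀ t, ∀ w ∈ W, rho (nh t) w ∈ W := by
    rintro t w ⟨hwV, hwI⟩
    refine ⟨hVst _ w hwV, ?_⟩
    show π (rho (nh t) w) = 0
    refine Polynomial.funext fun a => ?_
    have h1 : (nh a) (rho (nh t) w) = (nh (a + t)) w := by
      rw [pt_rho_self]
      exact congrArg (fun q : WithConv (A →ₐ[k] k) => q w) (hadd a t)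
    have h2 : π w = 0 := hwI
    simp only [nh, AlgHom.comp_apply, h2, map_zero, coe_aeval_eq_eval] at h1
    rw [eval_zero]
    exact h1
  let bW := Module.finBasis k W
  let e : Fin (Module.finrank k W) → A := fun l => (bW l : A)
  have heπ : ∀ l, π (e l) = 0 := fun l => (bW l).2.2
  have heε : ∀ l, Coalgebra.counit (R := k) (e l) = 0 := fun l => by
    show Bialgebra.counitAlgHom k A (e l) = 0
    rw [← hn0]
    show aeval 0 (π (e l)) = 0
    rw [heπ, map_zero]
  obtain ⟨R, hR⟩ := W.subtype.exists_leftInverse_of_injective (LinearMap.ker_eq_bot.2 Subtype.val_injective)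
  let lam : Fin (Module.finrank k W) → (A →ₗ[k] k) := fun i => bW.coord i ∘ₗ R
  let P : (Fin (Module.finrank k W) → (A →ₗ[k] k)) → A := fun L =>
    (Matrix.of fun i l => coef (L i) (e l)).det
  -- translation matrices
  let N : k → Matrix (Fin (Module.finrank k W)) (Fin (Module.finrank k W)) k :=
    fun t => Matrix.of fun i l => bW.repr ⟨rho (nh t) (e l), hWst t _ (bW l).2⟩ i
  have hN : ∀ t l, rho (nh t) (e l) = ∑ i, N t i l • e i := by
    intro t l
    have := congrArg Subtype.val (bW.sum_repr ⟨rho (nh t) (e l), hWst t _ (bW l).2⟩)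
    rw [Submodule.coe_sum] at this
    exact this.symm
  have hMN : ∀ (t : k) (L : Fin (Module.finrank k W) → (A →ₗ[k] k)) (x : A →ₐ[k] k),
      (Matrix.of fun i l => (toConv x * toConv (nh t)).ofConv (coef (L i) (e l))) =
        (Matrix.of fun i l => x (coef (L i) (e l))) * N t := by
    intro t L x
    ext i l
    rw [Matrix.of_apply, pt_coef, ← rho_mul, hN, map_sum, map_sum, Matrix.mul_apply]
    refine Finset.sum_congr rfl fun j _ => ?_
    rw [map_smul, map_smul, smul_eq_mul, _root_.mul_comm, Matrix.of_apply, pt_coef]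
  have hPdet : ∀ L (x : A →ₐ[k] k), x (P L) = (Matrix.of fun i l => x (coef (L i) (e l))).det := fun L x => by
    simp only [P]
    rw [AlgHom.map_det]
    rfl
  have hlam1 : (Matrix.of fun i l => (Bialgebra.counitAlgHom k A) (coef (lam i) (e l))) = 1 := by
    ext i l
    rw [Matrix.of_apply, pt_coef]
    have : rho (Bialgebra.counitAlgHom k A) (e l) = e l := ext_pts (k := k) fun x => by
      rw [pt_rho_self, show toConv (Bialgebra.counitAlgHom k A) = (1 : WithConv (A →ₐ[k] k)) from
        WithConv.ofConv_injective (AlgHom.ext fun b => rfl), _root_.mul_one]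
    rw [this]
    show bW.repr (R (W.subtype (bW l))) i = _
    rw [← LinearMap.comp_apply R, hR, LinearMap.id_apply, Module.Basis.repr_self, Finsupp.single_apply, Matrix.one_apply]
    simp only [eq_comm]
  have hdetN : ∀ t, (N t).det = 1 := by
    intro t
    have hmul : ∀ a b, N (a + b) = N a * N b := fun a b => by
      have h1 := hMN b lam (nh a)
      have h2 := hMN a lam (Bialgebra.counitAlgHom k A)
      have h3 := hMN (a + b) lam (Bialgebra.counitAlgHom k A)
      rw [show toConv (Bialgebra.counitAlgHom k A) = (1 : WithConv (A →ₐ[k] k)) from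
        WithConv.ofConv_injective (AlgHom.ext fun b => rfl), _root_.one_mul, hlam1, _root_.one_mul] at h2 h3
      simp only [ofConv_toConv] at h2 h3
      rw [h2] at h1
      rw [← h1, ← h3]
      simp only [nh, hadd, ofConv_toConv]
    have hone : N 0 = 1 := by
      have h2 := hMN 0 lam (Bialgebra.counitAlgHom k A)
      rw [show toConv (Bialgebra.counitAlgHom k A) = (1 : WithConv (A →ₐ[k] k)) from
        WithConv.ofConv_injective (AlgHom.ext fun b => rfl), _root_.one_mul, hlam1, _root_.one_mul] at h2
      simp only [ofConv_toConv, hn0] at h2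
      rw [hlam1] at h2
      exact h2.symm
    have hpow : ∀ i : ℕ, N (i * t) = N t ^ i := by
      intro i
      induction i with
      | zero => rw [Nat.cast_zero, zero_mul, pow_zero, hone]
      | succ i ih => rw [Nat.cast_succ, add_mul, one_mul, hmul, ih, pow_succ]
    have h := congrArg Matrix.det (hpow p)
    rw [CharP.cast_eq_zero, zero_mul, hone, Matrix.det_one, Matrix.det_pow] at h
    have h' : frobenius k p (N t).det = frobenius k p 1 := by rw [frobenius_def, frobenius_def, one_pow, ← h]
    exact frobenius_inj k p h'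
  have hPinv : ∀ L, P L ∈ I0 := fun L => (hI0 _).2 fun t => ext_pts (k := k) fun x => by
    rw [pt_rho_self]
    show (toConv x * toConv (nh t)).ofConv (P L) = x (P L)
    rw [hPdet, hMN, Matrix.det_mul, hdetN, _root_.mul_one, hPdet]
  -- the subalgebra
  let PS : Finset A := insert (P lam) (Finset.univ.image fun i => P (Function.update lam i Coalgebra.counit))
  have hPS : (PS : Set A) ⊆ I0 := fun a ha => by
    rcases Finset.mem_insert.1 ha with rfl | ha
    · exact hPinv _
    · obtain ⟨i, -, rfl⟩ := Finset.mem_image.1 ha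
      exact hPinv _
  obtain ⟨V₀, hV₀fin, hPV₀, hV₀st⟩ := exists_stable (k := k) PS
  let V' : Submodule k A := V₀ ⊓ Subalgebra.toSubmodule I0
  haveI : Module.Finite k V' := Submodule.finiteDimensional_of_le inf_le_left
  have hV'st : ∀ g, ∀ a ∈ V', rho (k := k) g a ∈ V' := fun g a ha => ⟨hV₀st g a ha.1, hI0st g a ha.2⟩
  let Sa := HopfAlgebra.antipodeAlgHom k A
  have hrhoS : ∀ g a, rho (k := k) g (Sa a) = Sa (rho (k := k) (g.comp Sa) a) := by
    intro g a
    refine ext_pts (k := k) fun x => ?_
    rw [pt_rho_self]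
    show ((toConv x * toConv g).ofConv.comp Sa) a = (x.comp Sa) (rho (g.comp Sa) a)
    rw [pt_rho_self]
    show ((toConv x * toConv g)⁻¹) a = ((toConv x)⁻¹ * (toConv g)⁻¹) a
    rw [mul_inv_rev, hc]
  have hSI0 : ∀ a ∈ I0, Sa a ∈ I0 := fun a ha => (hI0 _).2 fun t => by
    rw [hrhoS]
    have : (nh t).comp Sa = nh (-t) := by
      have h1 : toConv (nh t) * toConv (nh (-t)) = 1 := by
        show toConv ((aeval t).comp π) * _ = _
        rw [hadd, add_neg_cancel]
        exact congrArg toConv hn0
      exact congrArg WithConv.ofConv (show (toConv (nh t))⁻¹ = toConv (nh (-t)) from inv_eq_of_mul_eq_one_right h1)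
    rw [this, (hI0 a).1 ha]
  let bV := Module.finBasis k V'
  let Gen : Finset A := (Finset.univ.image fun i => (bV i : A)) ∪ (Finset.univ.image fun i => Sa (bV i : A))
  let B := Algebra.adjoin k (Gen : Set A)
  have hV'B : ∀ a ∈ V', a ∈ B ∧ Sa a ∈ B := by
    intro a ha
    have h := congrArg Subtype.val (bV.sum_repr ⟨a, ha⟩)
    rw [Submodule.coe_sum] at h
    change _ = a at h
    rw [← h, map_sum]
    refine ⟨B.sum_mem fun i _ => ?_, B.sum_mem fun i _ => ?_⟩
    · exact B.smul_mem (Algebra.subset_adjoin (Finset.mem_coe.2 (Finset.mem_union_left _ (Finset.mem_image_of_mem _ (Finset.mem_univ i))))) _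
    · rw [Submodule.coe_smul, map_smul]
      exact B.smul_mem (Algebra.subset_adjoin (Finset.mem_coe.2 (Finset.mem_union_right _ (Finset.mem_image_of_mem _ (Finset.mem_univ i))))) _
  have hgen : ∀ {q : A → Prop}, (∀ a ∈ V', q a) → (∀ a ∈ V', q (Sa a)) → ∀ z ∈ Gen, q z := by
    intro q h1 h2 z hz
    rcases Finset.mem_union.1 hz with hz | hz <;> obtain ⟨i, -, rfl⟩ := Finset.mem_image.1 hz
    · exact h1 _ (bV i).2
    · exact h2 _ (bV i).2
  have hBI0 : B ≤ I0 := Algebra.adjoin_le fun z hz =>
    hgen (q := fun z => z ∈ I0) (fun a ha => ha.2) (fun a ha => hSI0 a ha.2) z hz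
  have hBst : ∀ g, ∀ b ∈ B, rho (k := k) g b ∈ B := fun g b hb => by
    have hle : B ≤ B.comap (rho g) := Algebra.adjoin_le fun z hz =>
      hgen (q := fun z => rho g z ∈ B) (fun a ha => (hV'B _ (hV'st g a ha)).1)
        (fun a ha => by rw [hrhoS]; exact (hV'B _ (hV'st _ a ha)).2) z hz
    exact hle hb
  have hBhopf : SGA3.IsHopfSubalgebra k A B := by
    refine ⟨fun b hb => ?_, fun b hb => ?_⟩
    · have hy : ∀ y : A →ₐ[k] k, Algebra.TensorProduct.lift (AlgHom.id k A) ((Algebra.ofId k A).comp y)
          (fun _ _ => Commute.all _ _) (Coalgebra.comul (R := k) b) = rho y b := fun y =>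
        (AlgHom.convMul_apply _ _ b).symm
      have hx : ∀ x : A →ₐ[k] k, Algebra.TensorProduct.lift ((Algebra.ofId k A).comp x) (AlgHom.id k A)
          (fun _ _ => Commute.all _ _) (Coalgebra.comul (R := k) b) = rho x b := fun x => by
        refine ext_pts (k := k) fun z => ?_
        rw [pt_rho_self, hc, AlgHom.convMul_apply, ← AlgHom.comp_apply,
          show z.comp (Algebra.TensorProduct.lift ((Algebra.ofId k A).comp x) (AlgHom.id k A) (fun _ _ => Commute.all _ _)) =
            Algebra.TensorProduct.lift (toConv x).ofConv (toConv z).ofConv (fun _ _ => Commute.all _ _) from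
          Algebra.TensorProduct.ext' fun a b => by simp]
      obtain ⟨z, hz⟩ := mem_range_of_slices B (fun y => by rw [hy]; exact hBst y b hb)
        (fun x => by rw [hx]; exact hBst x b hb)
      exact ⟨z, hz⟩
    · show Sa b ∈ B
      have hle : B ≤ B.comap Sa := Algebra.adjoin_le fun z hz =>
        hgen (q := fun z => Sa z ∈ B) (fun a ha => (hV'B a ha).2) (fun a ha => by
          have : Sa (Sa a) = a := ext_pts (k := k) fun x => by
            show (((toConv x)⁻¹)⁻¹).ofConv a = x a
            rw [inv_inv]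
          rw [this]; exact (hV'B a ha).1) z hz
      exact hle hb
  have hπB : ∀ b ∈ B, π b = C (Coalgebra.counit (R := k) b) := fun b hb => Polynomial.funext fun t => by
    have h := congrArg (Bialgebra.counitAlgHom k A) ((hI0 b).1 (hBI0 hb) t)
    rw [pt_rho_self, show toConv (Bialgebra.counitAlgHom k A) = (1 : WithConv (A →ₐ[k] k)) from
      WithConv.ofConv_injective (AlgHom.ext fun b => rfl), _root_.one_mul, ofConv_toConv] at h
    rw [eval_C]
    simpa [nh] using h
  refine ⟨B, hBhopf, ⟨Gen, rfl⟩, hBst, hπB, ?_⟩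
  set J := Ideal.map (algebraMap B A) (RingHom.ker ((Bialgebra.counitAlgHom k A).comp B.val))
  let q := Ideal.Quotient.mkₐ k J
  have hqB : ∀ b ∈ B, q b = algebraMap k (A ⧸ J) (Coalgebra.counit b) := fun b hb => by
    rw [← q.commutes, ← sub_eq_zero, ← map_sub]
    refine Ideal.Quotient.eq_zero_iff_mem.2 ?_
    have : (⟨b, hb⟩ - algebraMap k B (Coalgebra.counit b) : B) ∈ RingHom.ker ((Bialgebra.counitAlgHom k A).comp B.val) := by
      rw [RingHom.mem_ker, map_sub, AlgHom.commutes, Algebra.algebraMap_self, RingHom.id_apply]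
      exact sub_self _
    exact Ideal.mem_map_of_mem (algebraMap B A) this
  have hPB : ∀ a ∈ PS, a ∈ B := fun a ha =>
    (hV'B a ⟨hPV₀ (Finset.mem_coe.2 ha), hPS (Finset.mem_coe.2 ha)⟩).1
  let T : Matrix (Fin (Module.finrank k W)) (Fin (Module.finrank k W)) (A ⧸ J) :=
    Matrix.of fun i l => q (coef (lam i) (e l))
  let r : Fin (Module.finrank k W) → A ⧸ J := fun l => q (e l)
  have hT : T.det = 1 := by
    have h := hqB _ (hPB _ (Finset.mem_insert_self _ _))
    rw [show Coalgebra.counit (R := k) (P lam) = Bialgebra.counitAlgHom k A (P lam) from rfl, hPdet, hlam1,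
      Matrix.det_one, map_one] at h
    rw [← h]
    simp only [P]
    rw [AlgHom.map_det]
    rfl
  have hrow : ∀ i, (T.updateRow i r).det = 0 := by
    intro i
    have h := hqB _ (hPB _ (Finset.mem_insert_of_mem (Finset.mem_image_of_mem _ (Finset.mem_univ i))))
    rw [show Coalgebra.counit (R := k) (P (Function.update lam i Coalgebra.counit)) =
      Bialgebra.counitAlgHom k A (P (Function.update lam i Coalgebra.counit)) from rfl, hPdet] at h
    rw [Matrix.det_eq_zero_of_row_eq_zero i fun l => by
      rw [Matrix.of_apply, Function.update_self, coef_counit]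
      exact heε l, map_zero] at h
    rw [← h]
    simp only [P]
    rw [AlgHom.map_det]
    congr 1
    ext a l
    rcases eq_or_ne a i with rfl | hai
    · simp [r, Matrix.updateRow_self, coef_counit]
    · simp [T, Matrix.updateRow_ne hai, Function.update_of_ne hai]
  have hr : r = 0 := by
    have h1 : Matrix.cramer Tᵀ r = 0 := funext fun i => by rw [Matrix.cramer_transpose_apply, hrow]; rfl
    have h2 := Matrix.mulVec_cramer Tᵀ r
    rw [h1, Matrix.mulVec_zero, Matrix.det_transpose, hT, one_smul] at h2
    exact h2.symm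
  rw [show RingHom.ker π = Submodule.span A (s : Set A) from hs.symm]
  refine Submodule.span_le.2 fun a ha => ?_
  have haW : a ∈ W := ⟨hsV ha, by
    show π a = 0
    exact RingHom.mem_ker.1 (hs ▸ Submodule.subset_span ha)⟩
  have h := congrArg Subtype.val (bW.sum_repr ⟨a, haW⟩)
  rw [Submodule.coe_sum] at h
  change _ = a at h
  show a ∈ J
  rw [← h]
  refine J.sum_mem fun l _ => ?_
  rw [Submodule.coe_smul, Algebra.smul_def]
  exact J.mul_mem_left _ (Ideal.Quotient.eq_zero_iff_mem.1 (congrFun hr l))

/-- The quotient has smaller dimension. -/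
theorem ringKrullDim_quot_add_one_le {π : A →ₐ[k] k[X]} (hπ : Function.Surjective π) {B : Subalgebra k A}
    (hB : SGA3.IsHopfSubalgebra k A B) (hfg : B.FG) (hst : ∀ g, ∀ b ∈ B, rho (k := k) g b ∈ B)
    (hπB : ∀ b ∈ B, π b = C (Coalgebra.counit (R := k) b))
    (hker : RingHom.ker π ≤ Ideal.map (algebraMap B A) (RingHom.ker ((Bialgebra.counitAlgHom k A).comp B.val))) :
    ringKrullDim B + 1 ≤ ringKrullDim A := by
  haveI : IsNoetherianRing A := Algebra.FiniteType.isNoetherianRing k A
  haveI : Algebra.FiniteType k B := (B.fg_iff_finiteType).1 hfg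
  haveI hff := faithfullyFlat hB
  haveI : IsNoetherianRing B := Algebra.FiniteType.isNoetherianRing k B
  let ε := Bialgebra.counitAlgHom k A
  let p₀ : Ideal B := RingHom.ker (ε.comp B.val)
  let P : Ideal A := RingHom.ker ((aeval (0 : k)).comp π)
  haveI : p₀.IsPrime := RingHom.ker_isPrime _
  haveI hPmax : P.IsMaximal := RingHom.ker_isMaximal_of_surjective _ (fun c => ⟨algebraMap k A c, by simp⟩)
  haveI : P.LiesOver p₀ := ⟨by
    ext b
    simp only [p₀, P, Ideal.under_def, Ideal.mem_comap, RingHom.mem_ker, AlgHom.comp_apply]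
    rw [show π (algebraMap B A b) = C (Coalgebra.counit (R := k) (b : A)) from hπB _ b.2, aeval_C]
    rfl⟩
  have hJ : p₀.map (algebraMap B A) = RingHom.ker π := by
    refine le_antisymm (Ideal.map_le_iff_le_comap.2 fun b hb => ?_) hker
    show π (algebraMap B A b) = 0
    rw [show π (algebraMap B A b) = C (Coalgebra.counit (R := k) (b : A)) from hπB _ b.2]
    have : ε (b : A) = 0 := hb
    rw [show Coalgebra.counit (R := k) (b : A) = ε (b : A) from rfl, this, map_zero]
  have hht := Ideal.height_eq_height_add_of_liesOver_of_hasGoingDown p₀ P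
  have h1 : 1 ≤ (P.map (Ideal.Quotient.mk (p₀.map (algebraMap B A)))).height := by
    obtain ⟨a, ha⟩ := hπ X
    have hker' : RingHom.ker (Ideal.Quotient.mk (p₀.map (algebraMap B A))) ≤ P := by
      rw [Ideal.mk_ker, hJ]
      intro z hz
      show aeval (0 : k) (π z) = 0
      rw [RingHom.mem_ker.1 hz, map_zero]
    haveI : (P.map (Ideal.Quotient.mk (p₀.map (algebraMap B A)))).IsPrime :=
      Ideal.map_isPrime_of_surjective Ideal.Quotient.mk_surjective hker'
    rw [Order.one_le_iff_ne_zero, Ne, Ideal.height_eq_zero_iff]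
    intro hmin
    haveI : (RingHom.ker π).IsPrime := RingHom.ker_isPrime _
    haveI : IsDomain (A ⧸ p₀.map (algebraMap B A)) := by
      rw [hJ]; infer_instance
    rw [IsDomain.minimalPrimes_eq_singleton_bot, Set.mem_singleton_iff, Ideal.map_eq_bot_iff_le_ker, Ideal.mk_ker, hJ] at hmin
    have hmem : a ∈ P := by show aeval (0 : k) (π a) = 0; rw [ha]; simp
    exact X_ne_zero (ha ▸ RingHom.mem_ker.1 (hmin hmem))
  have hp₀ : ringKrullDim B ≤ (p₀.height : WithBot ℕ∞) := by
    rw [ringKrullDim_le_iff_isMaximal_height_le]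
    intro m hm
    obtain ⟨y, hy⟩ := exists_pt_ker (k := k) m
    obtain ⟨M, hM, hMm⟩ : ∃ M : Ideal A, M.IsMaximal ∧ M.comap (algebraMap B A) = m := by
      have hne : m.map (algebraMap B A) ≠ ⊤ := fun h => hm.ne_top (by
        rw [← comap_map hB m, h, Ideal.comap_top])
      obtain ⟨M, hM, hle⟩ := Ideal.exists_le_maximal _ hne
      exact ⟨M, hM, (hm.eq_of_le (Ideal.comap_ne_top _ hM.ne_top) (Ideal.map_le_iff_le_comap.1 hle)).symm⟩
    haveI := hM
    obtain ⟨x, hx⟩ := exists_pt_ker (k := k) M
    let τ : B →+* B := (((rho x).comp B.val).codRestrict B fun b => hst x b b.2).toRingHom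
    have hτ : p₀.comap τ = m := by
      ext b
      show ε (rho x (b : A)) = 0 ↔ b ∈ m
      rw [pt_rho_self, show toConv ε = (1 : WithConv (A →ₐ[k] k)) from WithConv.ofConv_injective (AlgHom.ext fun _ => rfl),
        _root_.one_mul, ofConv_toConv, hx, ← hMm]
      rfl
    have hτbij : Function.Bijective τ := by
      let x' := (toConv x)⁻¹.ofConv
      let τ' : B → B := fun b => ⟨rho x' (b : A), hst x' b b.2⟩
      have e1 : ∀ b : A, rho (k := k) (1 : WithConv (A →ₐ[k] k)).ofConv b = b := fun b => ext_pts (k := k) fun z => by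
        rw [pt_rho_self, toConv_ofConv, _root_.mul_one]
      refine Function.bijective_iff_has_inverse.2 ⟨τ', fun b => Subtype.ext ?_, fun b => Subtype.ext ?_⟩
      · show rho x' (rho x (b : A)) = b
        rw [rho_mul, toConv_ofConv, inv_mul_cancel, e1]
      · show rho x (rho x' (b : A)) = b
        rw [rho_mul, toConv_ofConv, mul_inv_cancel, e1]
    have hle : m.height ≤ p₀.height := by
      rw [← hτ]
      exact (RingEquiv.height_comap (RingEquiv.ofBijective τ hτbij) p₀).le
    exact WithBot.coe_le_coe.2 hle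
  have hP : (P.height : WithBot ℕ∞) ≤ ringKrullDim A :=
    Ideal.height_le_ringKrullDim_of_ne_top hPmax.ne_top
  calc ringKrullDim B + 1 ≤ (p₀.height : WithBot ℕ∞) + 1 := by gcongr
    _ ≤ (P.height : WithBot ℕ∞) := by
        rw [hht, WithBot.coe_add]
        gcongr
        exact WithBot.coe_le_coe.2 h1
    _ ≤ _ := hP

end Groth.Agent.UnipLib
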