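import Groth.Agent.UnipLib.OneDim
import Groth.Agent.UnipLib.Quot
import Mathlib.RingTheory.HopfAlgebra.Quotient
import Mathlib.RingTheory.Ideal.MinimalPrime.Basic

/-! Additive subgroups of connected commutative groups killed by a power of `p`. -/

set_option autoImplicit false
set_option linter.style.haveILetI false
universe u
open scoped TensorProduct Polynomial
open WithConv Polynomial

namespace Groth.Agent.UnipLib

variable {k : Type u} [Field k] [IsAlgClosed k]

/-- A product of two nonzero functions on a product of two varieties is nonzero. -/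
theorem tensor_mul_ne_zero {C D : Type u} [CommRing C] [Algebra k C] [Algebra.FiniteType k C] [IsDomain C]
    [CommRing D] [Algebra k D] [Algebra.FiniteType k D] [IsDomain D] {s t : C ⊗[k] D} (hs : s ≠ 0) (ht : t ≠ 0) :
    s * t ≠ 0 := by
  intro hst
  let sl : (D →ₐ[k] k) → (C ⊗[k] D →ₐ[k] C) := fun y =>
    Algebra.TensorProduct.lift (AlgHom.id k C) ((Algebra.ofId k C).comp y) (fun _ _ => Commute.all _ _)
  let sr : (C →ₐ[k] k) → (C ⊗[k] D →ₐ[k] D) := fun x =>
    Algebra.TensorProduct.lift ((Algebra.ofId k D).comp x) (AlgHom.id k D) (fun _ _ => Commute.all _ _)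
  have hl : ∀ (x : C →ₐ[k] k) (y : D →ₐ[k] k),
      x.comp (sl y) = Algebra.TensorProduct.lift x y (fun _ _ => Commute.all _ _) := fun x y =>
    Algebra.TensorProduct.ext' fun a b => by simp [sl]
  have hr : ∀ (x : C →ₐ[k] k) (y : D →ₐ[k] k),
      y.comp (sr x) = Algebra.TensorProduct.lift x y (fun _ _ => Commute.all _ _) := fun x y =>
    Algebra.TensorProduct.ext' fun a b => by simp [sr]
  have hex : ∀ u : C ⊗[k] D, u ≠ 0 → ∃ x, sr x u ≠ 0 := by
    intro u hu
    by_contra hcon
    push Not at hcon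
    refine hu (tensor_ext fun x y => ?_)
    rw [map_zero, ← hr, AlgHom.comp_apply, hcon, map_zero]
  obtain ⟨x₀, hx₀⟩ := hex s hs
  obtain ⟨x₁, hx₁⟩ := hex t ht
  obtain ⟨y, hy⟩ : ∃ y : D →ₐ[k] k, y (sr x₀ s * sr x₁ t) ≠ 0 := by
    by_contra hcon
    push Not at hcon
    exact mul_ne_zero hx₀ hx₁ (eq_zero_of_forall (k := k) hcon)
  rw [map_mul, ← AlgHom.comp_apply, hr, ← hl, ← AlgHom.comp_apply, hr, ← hl] at hy
  have h1 : sl y s ≠ 0 := fun h => hy (by rw [AlgHom.comp_apply, h, map_zero, zero_mul])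
  have h2 : sl y t ≠ 0 := fun h => hy (by rw [AlgHom.comp_apply x₁, h, map_zero, mul_zero])
  exact mul_ne_zero h1 h2 (by rw [← map_mul, hst, map_zero])

variable {A : Type u} [CommRing A] [HopfAlgebra k A] [IsDomain A] [Algebra.FiniteType k A]

/-- A prime ideal stable under the group operations is a Hopf ideal. -/
theorem isHopfIdeal {P : Ideal A} [P.IsPrime] (h1 : ∀ a ∈ P, Coalgebra.counit (R := k) a = 0)
    (h2 : ∀ x y : WithConv (A →ₐ[k] k), (∀ a ∈ P, x a = 0) → (∀ a ∈ P, y a = 0) → ∀ a ∈ P, (x * y) a = 0)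
    (h3 : ∀ a ∈ P, HopfAlgebra.antipode (R := k) a ∈ P) : P.IsHopfIdeal k := by
  refine { counit_eq_zero := fun a ha => h1 a ha, map_mkQ_comul_eq_zero := fun a ha => ?_, antipode_mem := fun a ha => h3 a ha }
  have key : Algebra.TensorProduct.map (Ideal.Quotient.mkₐ k P) (Ideal.Quotient.mkₐ k P) (Coalgebra.comul (R := k) a) = 0 := by
    refine tensor_ext fun x y => ?_
    rw [map_zero, ← AlgHom.comp_apply,
      show (Algebra.TensorProduct.lift x y (fun _ _ => Commute.all _ _)).comp
        (Algebra.TensorProduct.map (Ideal.Quotient.mkₐ k P) (Ideal.Quotient.mkₐ k P)) =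
        Algebra.TensorProduct.lift (x.comp (Ideal.Quotient.mkₐ k P)) (y.comp (Ideal.Quotient.mkₐ k P))
          (fun _ _ => Commute.all _ _) from Algebra.TensorProduct.ext' fun u v => by simp,
      ← AlgHom.convMul_apply (toConv (x.comp _)) (toConv (y.comp _))]
    exact h2 _ _ (fun b hb => by
        show x (Ideal.Quotient.mk P b) = 0
        rw [Ideal.Quotient.eq_zero_iff_mem.2 hb, map_zero])
      (fun b hb => by
        show y (Ideal.Quotient.mk P b) = 0
        rw [Ideal.Quotient.eq_zero_iff_mem.2 hb, map_zero]) a ha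
  let e : (A ⧸ P) →ₗ[k] A ⧸ (P.restrictScalars k) := (Submodule.Quotient.restrictScalarsEquiv k P).symm.toLinearMap
  have he : ∀ b, e (Ideal.Quotient.mkₐ k P b) = Submodule.mkQ (P.restrictScalars k) b := fun b => rfl
  have h := congrArg (TensorProduct.map e e) key
  rw [map_zero] at h
  rw [← h]
  generalize Coalgebra.comul (R := k) a = t
  induction t with
  | zero => simp
  | add u v hu hv => simp only [map_add, hu, hv]
  | tmul u v =>
    rw [TensorProduct.map_tmul, Algebra.TensorProduct.map_tmul, TensorProduct.map_tmul, he, he]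

section Quotient

variable {P : Ideal A} [P.IsHopfIdeal k]

/-- The projection to a quotient by a Hopf ideal. -/
noncomputable def mkQ' (P : Ideal A) [P.IsHopfIdeal k] : A →ₐc[k] A ⧸ P := Bialgebra.Quotient.mkBialgHom P

lemma mul_mk {R : Type u} [CommRing R] [Algebra k R] (x y : WithConv ((A ⧸ P) →ₐ[k] R)) :
    toConv ((x * y).ofConv.comp (Ideal.Quotient.mkₐ k P)) =
      toConv (x.ofConv.comp (Ideal.Quotient.mkₐ k P)) * toConv (y.ofConv.comp (Ideal.Quotient.mkₐ k P)) :=
  WithConv.ofConv_injective (AlgHom.convMul_comp_bialgHom_distrib x y (mkQ' (k := k) P))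

lemma one_mk {R : Type u} [CommRing R] [Algebra k R] :
    toConv ((1 : WithConv ((A ⧸ P) →ₐ[k] R)).ofConv.comp (Ideal.Quotient.mkₐ k P)) = 1 :=
  WithConv.ofConv_injective (AlgHom.ext fun a => rfl)

lemma pow_mk {R : Type u} [CommRing R] [Algebra k R] (x : (A ⧸ P) →ₐ[k] R) (N : ℕ) :
    toConv ((toConv x ^ N).ofConv.comp (Ideal.Quotient.mkₐ k P)) = toConv (x.comp (Ideal.Quotient.mkₐ k P)) ^ N := by
  induction N with
  | zero => rw [pow_zero, pow_zero, one_mk]
  | succ N ih => rw [pow_succ, pow_succ, mul_mk, ih, ofConv_toConv]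

lemma ptsComm_quot (hc : PtsComm k A) : PtsComm k (A ⧸ P) := fun x y => by
  refine WithConv.ofConv_injective (Ideal.Quotient.algHom_ext k ?_)
  exact congrArg WithConv.ofConv (show toConv ((x * y).ofConv.comp _) = toConv ((y * x).ofConv.comp _) by
    rw [mul_mk, mul_mk, hc])

lemma powMap_mk (N : ℕ) (a : A) :
    powMap k N (Ideal.Quotient.mk P a) = Ideal.Quotient.mk P (powMap k N a) := by
  have h := congr($(pow_mk (P := P) (AlgHom.id k (A ⧸ P)) N) a)
  rw [AlgHom.id_comp] at h
  change powMap k N (Ideal.Quotient.mk P a) = _ at h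
  rw [h, ← pt_powMap]
  rfl

end Quotient

lemma exists_prim_ne_zero (hc : PtsComm k A) {p : ℕ} [Fact p.Prime] [CharP k p] (hu : Killed k p A)
    (hne : (⊥ : Subalgebra k A) ≠ ⊤) : ∃ v : A, IsPrim k v ∧ v ≠ 0 := by
  obtain ⟨f₀, hf₀, hfix₀⟩ := exists_fixed_mod hc hu (B := Subalgebra.toSubmodule (⊥ : Subalgebra k A))
    (fun h => hne (Algebra.toSubmodule_eq_top.1 h))
  let v := f₀ - algebraMap k A (Coalgebra.counit f₀)
  refine ⟨v, isPrim_of_forall fun x y => ?_, fun h => hf₀ (by
    rw [show f₀ = algebraMap k A (Coalgebra.counit f₀) from sub_eq_zero.1 h]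
    exact Subalgebra.algebraMap_mem _ _)⟩
  obtain ⟨e, he⟩ := Algebra.mem_bot.1 (hfix₀ y.ofConv)
  have e1 : ∀ z : WithConv (A →ₐ[k] k), (z * y) f₀ - z f₀ = e := fun z => by
    have := congrArg z.ofConv he
    rw [AlgHom.commutes, map_sub, pt_rho_self] at this
    exact this.symm
  have h1 := e1 1
  rw [_root_.one_mul, AlgHom.convOne_apply] at h1
  have h2 := e1 x
  simp only [Algebra.algebraMap_self, RingHom.id_apply] at h1
  show (x * y).ofConv v = x.ofConv v + y.ofConv v
  simp only [v, map_sub, AlgHom.commutes, Algebra.algebraMap_self, RingHom.id_apply]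
  linear_combination h2 - h1

theorem ringKrullDim_le_height_counit :
    ringKrullDim A ≤ ((RingHom.ker (Bialgebra.counitAlgHom k A)).height : WithBot ℕ∞) := by
  rw [ringKrullDim_le_iff_isMaximal_height_le]
  intro m hm
  haveI := hm
  obtain ⟨x, hx⟩ := exists_pt_ker (k := k) m
  have hτ : (RingHom.ker (Bialgebra.counitAlgHom k A)).comap (rho x).toRingHom = m := by
    ext b
    show Bialgebra.counitAlgHom k A (rho x b) = 0 ↔ b ∈ m
    rw [pt_rho_self, show toConv (Bialgebra.counitAlgHom k A) = (1 : WithConv (A →ₐ[k] k)) from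
      WithConv.ofConv_injective (AlgHom.ext fun _ => rfl), _root_.one_mul, ofConv_toConv, hx]
  have e1 : ∀ b : A, rho (k := k) (1 : WithConv (A →ₐ[k] k)).ofConv b = b := fun b => ext_pts (k := k) fun z => by
    rw [pt_rho_self, toConv_ofConv, _root_.mul_one]
  have hbij : Function.Bijective (rho x).toRingHom := by
    refine Function.bijective_iff_has_inverse.2 ⟨rho (toConv x)⁻¹.ofConv, fun b => ?_, fun b => ?_⟩
    · show rho (toConv x)⁻¹.ofConv (rho x b) = b
      rw [rho_mul, toConv_ofConv, inv_mul_cancel, e1]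
    · show rho x (rho (toConv x)⁻¹.ofConv b) = b
      rw [rho_mul, toConv_ofConv, mul_inv_cancel, e1]
  rw [← hτ]
  exact WithBot.coe_le_coe.2 (RingEquiv.height_comap (RingEquiv.ofBijective _ hbij) _).le

lemma ringKrullDim_quotPrime_le {P : Ideal A} (hP : P ≠ ⊥) [P.IsPrime] {n : ℕ}
    (hdim : ringKrullDim A ≤ (n + 1 : ℕ)) : ringKrullDim (A ⧸ P) ≤ (n : ℕ) := by
  rw [ringKrullDim, Order.krullDim, iSup_le_iff]
  intro l
  let l' : LTSeries (PrimeSpectrum A) := l.map (PrimeSpectrum.comap (Ideal.Quotient.mk P))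
    (RingHom.strictMono_comap_of_surjective Ideal.Quotient.mk_surjective)
  have hlt : (⟨⊥, Ideal.isPrime_bot⟩ : PrimeSpectrum A) < l'.head := by
    refine lt_of_lt_of_le (b := (⟨P, ‹P.IsPrime›⟩ : PrimeSpectrum A))
      (show (⊥ : Ideal A) < P from bot_lt_iff_ne_bot.2 hP) ?_
    intro z hz
    simp only [l', LTSeries.head_map, PrimeSpectrum.comap_asIdeal, Ideal.mem_comap]
    rw [Ideal.Quotient.eq_zero_iff_mem.2 hz]
    exact zero_mem _
  have h := le_trans (Order.LTSeries.length_le_krullDim (l'.cons _ hlt)) hdim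
  have h' : l.length + 1 ≤ n + 1 := by
    have : ((l'.cons _ hlt).length : WithBot ℕ∞) ≤ ((n + 1 : ℕ) : WithBot ℕ∞) := h
    rw [Nat.cast_le] at this
    simpa [l'] using this
  exact_mod_cast Nat.le_of_succ_le_succ h'

omit [IsDomain A] [IsAlgClosed k] [Algebra.FiniteType k A] in
lemma bot_ne_top_of_maximal_ne {P : Ideal A} [P.IsPrime] (h : ∃ a, Coalgebra.counit (R := k) a = 0 ∧ a ∉ P)
    (hP : ∀ a ∈ P, Coalgebra.counit (R := k) a = 0) : (⊥ : Subalgebra k (A ⧸ P)) ≠ ⊤ := by
  intro hb
  obtain ⟨a, ha0, haP⟩ := h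
  obtain ⟨c, hc⟩ := Algebra.mem_bot.1 (hb ▸ Algebra.mem_top : Ideal.Quotient.mk P a ∈ (⊥ : Subalgebra k (A ⧸ P)))
  have hmem : algebraMap k A c - a ∈ P := by
    rw [← Ideal.Quotient.eq_zero_iff_mem, map_sub, Ideal.Quotient.mk_algebraMap, hc, sub_self]
  have := hP _ hmem
  rw [map_sub, Bialgebra.counit_algebraMap, ha0, sub_zero] at this
  rw [this, map_zero, zero_sub, neg_mem_iff] at hmem
  exact haP hmem

/-- Connected groups killed by `p` contain an additive subgroup. -/
theorem exists_additive_of_killed {p : ℕ} [Fact p.Prime] [CharP k p] : ∀ (n : ℕ) {A : Type u} [CommRing A]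
    [HopfAlgebra k A] [IsDomain A] [Algebra.FiniteType k A], PtsComm k A →
    (∀ a : A, powMap k p a = algebraMap k A (Coalgebra.counit a)) → (⊥ : Subalgebra k A) ≠ ⊤ →
    ringKrullDim A ≤ n →
    ∃ π : A →ₐ[k] k[X], Function.Surjective π ∧
      ∀ a b : k, toConv ((aeval a).comp π) * toConv ((aeval b).comp π) = toConv ((aeval (a + b)).comp π) := by
  intro n
  induction n with
  | zero =>
    intro A _ _ _ _ hc hk hne hdim
    obtain ⟨v, hv, hv0⟩ := exists_prim_ne_zero hc ⟨1, fun a => by rw [pow_one]; exact hk a⟩ hne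
    exfalso
    let Q := RingHom.ker (Bialgebra.counitAlgHom k A)
    haveI : Q.IsPrime := RingHom.ker_isPrime _
    have hQ : (⊥ : Ideal A) < Q := bot_lt_iff_ne_bot.2 fun h => hv0 (by
      rw [← Ideal.mem_bot, ← h]; exact hv.counit_eq_zero)
    let l : LTSeries (PrimeSpectrum A) :=
      LTSeries.mk 1 ![⟨⊥, Ideal.isPrime_bot⟩, ⟨Q, inferInstance⟩]
        (Fin.strictMono_iff_lt_succ.2 fun i => by fin_cases i; exact hQ)
    have := le_trans (Order.LTSeries.length_le_krullDim l) hdim
    exact absurd (Nat.cast_le.1 (show ((1 : ℕ) : WithBot ℕ∞) ≤ ((0 : ℕ) : WithBot ℕ∞) from this)) (by omega)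
  | succ n ih =>
    intro A _ _ _ _ hc hk hne hdim
    by_cases h1 : ringKrullDim A ≤ 1
    · obtain ⟨w, hw, hbij⟩ := exists_coord (p := p) hc hk h1 hne
      let e : k[X] ≃ₐ[k] A := AlgEquiv.ofBijective (aeval w) hbij
      refine ⟨e.symm.toAlgHom, e.symm.surjective, fun a b => ?_⟩
      have he : ∀ c : k, ((aeval c).comp e.symm.toAlgHom) w = c := fun c => by
        show aeval c (e.symm w) = c
        rw [show w = e X from (aeval_X w).symm, AlgEquiv.symm_apply_apply, aeval_X]
      refine WithConv.ofConv_injective ?_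
      have hext : ∀ f g : A →ₐ[k] k, f w = g w → f = g := fun f g h => AlgHom.ext fun z => by
        obtain ⟨q, rfl⟩ := hbij.2 z
        rw [← aeval_algHom_apply, ← aeval_algHom_apply, h]
      refine hext _ _ ?_
      rw [ofConv_toConv, he]
      show (_ * _ : WithConv (A →ₐ[k] k)) w = _
      rw [hw.pt]
      show (aeval a).comp e.symm.toAlgHom w + (aeval b).comp e.symm.toAlgHom w = _
      rw [he, he]
    obtain ⟨v, hv, hv0⟩ := exists_prim_ne_zero hc ⟨1, fun a => by rw [pow_one]; exact hk a⟩ hne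
    haveI : IsNoetherianRing A := Algebra.FiniteType.isNoetherianRing k A
    let Q := RingHom.ker (Bialgebra.counitAlgHom k A)
    haveI : Q.IsPrime := RingHom.ker_isPrime _
    obtain ⟨P, hP, hPQ⟩ := Ideal.exists_minimalPrimes_le (I := Ideal.span {v}) (J := Q)
      ((Ideal.span_singleton_le_iff_mem _).2 hv.counit_eq_zero)
    haveI : P.IsPrime := hP.1.1
    have hvP : v ∈ P := hP.1.2 (Ideal.mem_span_singleton_self v)
    -- the kernel of comultiplication restricted to two translates
    have key : ∀ P' : Ideal A, P'.IsPrime → v ∈ P' → (∀ a ∈ P', Coalgebra.counit (R := k) a = 0) →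
        (∀ a ∈ P, a ∈ P') ∧ ∀ x y : WithConv (A →ₐ[k] k), (∀ a ∈ P, x a = 0) → (∀ a ∈ P', y a = 0) →
          ∀ a ∈ P, (x * y) a = 0 := by
      intro P' hP' hv' hε'
      let φ : A →ₐ[k] (A ⧸ P) ⊗[k] (A ⧸ P') :=
        (Algebra.TensorProduct.map (Ideal.Quotient.mkₐ k P) (Ideal.Quotient.mkₐ k P')).comp (Bialgebra.comulAlgHom k A)
      let J : Ideal A := RingHom.ker φ
      haveI := hP'
      haveI : Algebra.FiniteType k (A ⧸ P) :=
        Algebra.FiniteType.of_surjective (Ideal.Quotient.mkₐ k P) Ideal.Quotient.mk_surjective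
      haveI : Algebra.FiniteType k (A ⧸ P') :=
        Algebra.FiniteType.of_surjective (Ideal.Quotient.mkₐ k P') Ideal.Quotient.mk_surjective
      have hJP : J ≤ P ∧ J ≤ P' := by
        let εP : (A ⧸ P) →ₐ[k] k := Ideal.Quotient.liftₐ P (Bialgebra.counitAlgHom k A) fun a ha => hPQ ha
        let εP' : (A ⧸ P') →ₐ[k] k := Ideal.Quotient.liftₐ P' (Bialgebra.counitAlgHom k A) fun a ha => hε' a ha
        have e1 : ((Algebra.TensorProduct.lift (AlgHom.id k (A ⧸ P)) ((Algebra.ofId k _).comp εP')
            (fun _ _ => Commute.all _ _)).comp φ) = Ideal.Quotient.mkₐ k P := by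
          have : ((Algebra.TensorProduct.lift (AlgHom.id k (A ⧸ P)) ((Algebra.ofId k _).comp εP')
              (fun _ _ => Commute.all _ _)).comp (Algebra.TensorProduct.map (Ideal.Quotient.mkₐ k P) (Ideal.Quotient.mkₐ k P'))) =
              Algebra.TensorProduct.lift (Ideal.Quotient.mkₐ k P) ((Algebra.ofId k _).comp (Bialgebra.counitAlgHom k A))
              (fun _ _ => Commute.all _ _) := Algebra.TensorProduct.ext' fun a b => by
                simp [εP']
          rw [show φ = (Algebra.TensorProduct.map (Ideal.Quotient.mkₐ k P) (Ideal.Quotient.mkₐ k P')).comp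
            (Bialgebra.comulAlgHom k A) from rfl, ← AlgHom.comp_assoc, this]
          exact AlgHom.ext fun a => (AlgHom.convMul_apply (toConv (Ideal.Quotient.mkₐ k P)) 1 a).symm.trans
            (by rw [_root_.mul_one])
        have e2 : ((Algebra.TensorProduct.lift ((Algebra.ofId k _).comp εP) (AlgHom.id k (A ⧸ P'))
            (fun _ _ => Commute.all _ _)).comp φ) = Ideal.Quotient.mkₐ k P' := by
          have : ((Algebra.TensorProduct.lift ((Algebra.ofId k _).comp εP) (AlgHom.id k (A ⧸ P'))
              (fun _ _ => Commute.all _ _)).comp (Algebra.TensorProduct.map (Ideal.Quotient.mkₐ k P) (Ideal.Quotient.mkₐ k P'))) =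
              Algebra.TensorProduct.lift ((Algebra.ofId k _).comp (Bialgebra.counitAlgHom k A)) (Ideal.Quotient.mkₐ k P')
              (fun _ _ => Commute.all _ _) := Algebra.TensorProduct.ext' fun a b => by
                simp [εP]
          rw [show φ = (Algebra.TensorProduct.map (Ideal.Quotient.mkₐ k P) (Ideal.Quotient.mkₐ k P')).comp
            (Bialgebra.comulAlgHom k A) from rfl, ← AlgHom.comp_assoc, this]
          exact AlgHom.ext fun a => (AlgHom.convMul_apply 1 (toConv (Ideal.Quotient.mkₐ k P')) a).symm.trans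
            (by rw [_root_.one_mul])
        refine ⟨fun a ha => ?_, fun a ha => ?_⟩
        · have := congr($e1 a)
          rw [AlgHom.comp_apply, show φ a = 0 from ha, map_zero] at this
          exact Ideal.Quotient.eq_zero_iff_mem.1 this.symm
        · have := congr($e2 a)
          rw [AlgHom.comp_apply, show φ a = 0 from ha, map_zero] at this
          exact Ideal.Quotient.eq_zero_iff_mem.1 this.symm
      have hJprime : J.IsPrime := by
        refine ⟨fun h => (Ideal.IsPrime.ne_top ‹P.IsPrime›) (top_le_iff.1 (h ▸ hJP.1)), fun {a b} hab => ?_⟩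
        by_contra hcon
        push Not at hcon
        have hab' : φ (a * b) = 0 := hab
        rw [map_mul] at hab'
        exact tensor_mul_ne_zero hcon.1 hcon.2 hab'
      have hvJ : v ∈ J := by
        show φ v = 0
        show Algebra.TensorProduct.map _ _ (Coalgebra.comul (R := k) v) = 0
        rw [hv, map_add, Algebra.TensorProduct.map_tmul, Algebra.TensorProduct.map_tmul]
        simp [Ideal.Quotient.eq_zero_iff_mem.2 hvP, Ideal.Quotient.eq_zero_iff_mem.2 hv']
      have hPJ : P ≤ J := hP.2 ⟨hJprime, (Ideal.span_singleton_le_iff_mem _).2 hvJ⟩ hJP.1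
      refine ⟨fun a ha => hJP.2 (hPJ ha), fun x y hx hy a ha => ?_⟩
      have hφ : φ a = 0 := hPJ ha
      let x' : (A ⧸ P) →ₐ[k] k := Ideal.Quotient.liftₐ P x.ofConv hx
      let y' : (A ⧸ P') →ₐ[k] k := Ideal.Quotient.liftₐ P' y.ofConv hy
      have : (Algebra.TensorProduct.lift x' y' (fun _ _ => Commute.all _ _)).comp
          (Algebra.TensorProduct.map (Ideal.Quotient.mkₐ k P) (Ideal.Quotient.mkₐ k P')) =
          Algebra.TensorProduct.lift x.ofConv y.ofConv (fun _ _ => Commute.all _ _) :=
        Algebra.TensorProduct.ext' fun u w => by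
          simp [x', y']
      show (x * y).ofConv a = 0
      rw [AlgHom.convMul_apply, ← this, AlgHom.comp_apply,
        show Algebra.TensorProduct.map _ _ (Coalgebra.comul (R := k) a) = φ a from rfl, hφ, map_zero]
    let Sa := HopfAlgebra.antipodeAlgHom k A
    have hSv : Sa v = -v := by
      have h := congr($(AlgHom.antipode_id_cancel (R := k) (A := A)) v)
      rw [hv.pt, AlgHom.convOne_apply, hv.counit_eq_zero, map_zero] at h
      exact eq_neg_of_add_eq_zero_left h
    have hS : ∀ a ∈ P, Sa a ∈ P := (key (P.comap Sa) inferInstance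
      (by rw [Ideal.mem_comap, hSv]; exact neg_mem hvP)
      (fun a ha => by
        have h : Bialgebra.counitAlgHom k A (Sa a) = 0 := hPQ ha
        rw [← AlgHom.comp_apply, AlgHom.counitAlgHom_comp_antipodeAlgHom] at h
        exact h)).1
    haveI : P.IsHopfIdeal k := isHopfIdeal (fun a ha => hPQ ha)
      ((key P inferInstance hvP fun a ha => hPQ ha).2) hS
    haveI : Algebra.FiniteType k (A ⧸ P) :=
      Algebra.FiniteType.of_surjective (Ideal.Quotient.mkₐ k P) Ideal.Quotient.mk_surjective
    have hPne : P ≠ ⊥ := fun h => hv0 (by rw [← Ideal.mem_bot, ← h]; exact hvP)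
    have hQP : ∃ a, Coalgebra.counit (R := k) a = 0 ∧ a ∉ P := by
      by_contra hcon
      push Not at hcon
      have hPeq : P = Q := le_antisymm hPQ fun a ha => hcon a ha
      haveI : (Ideal.span {v} : Ideal A).IsPrincipal := ⟨⟨v, rfl⟩⟩
      have hle := Ideal.height_le_one_of_isPrincipal_of_mem_minimalPrimes (Ideal.span {v}) P hP
      apply h1
      refine (ringKrullDim_le_height_counit (k := k) (A := A)).trans ?_
      rw [show RingHom.ker (Bialgebra.counitAlgHom k A) = P from hPeq.symm]
      exact WithBot.coe_le_coe.2 hle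
    obtain ⟨π, hπ, hadd⟩ := ih (A := A ⧸ P) (ptsComm_quot hc) (fun a => by
        obtain ⟨b, rfl⟩ := Ideal.Quotient.mk_surjective a
        rw [powMap_mk, hk, Ideal.Quotient.mk_algebraMap]
        rfl) (bot_ne_top_of_maximal_ne hQP fun a ha => hPQ ha) (ringKrullDim_quotPrime_le hPne hdim)
    refine ⟨π.comp (Ideal.Quotient.mkₐ k P), hπ.comp Ideal.Quotient.mk_surjective, fun a b => ?_⟩
    rw [← AlgHom.comp_assoc, ← AlgHom.comp_assoc, ← AlgHom.comp_assoc]
    have := mul_mk (P := P) (toConv ((aeval a).comp π)) (toConv ((aeval b).comp π))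
    rw [hadd] at this
    exact this.symm

/-- The additive subgroup attached to the last nontrivial image of multiplication by `p`. -/
theorem exists_additive {p : ℕ} [Fact p.Prime] [CharP k p] (hc : PtsComm k A) {m : ℕ}
    (hm : ∀ a : A, powMap k (p ^ (m + 1)) a = algebraMap k A (Coalgebra.counit a))
    (hm' : ¬ ∀ a : A, powMap k (p ^ m) a = algebraMap k A (Coalgebra.counit a)) {n : ℕ} (hn : ringKrullDim A ≤ n) :
    ∃ π : A →ₐ[k] k[X], Function.Surjective π ∧
      (∀ a b : k, toConv ((aeval a).comp π) * toConv ((aeval b).comp π) = toConv ((aeval (a + b)).comp π)) ∧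
      RingHom.ker (powMap k (A := A) (p ^ m)) ≤ RingHom.ker π ∧
      (n = m + 1 → RingHom.ker π = RingHom.ker (powMap k (A := A) (p ^ m))) := by
  set P : Ideal A := RingHom.ker (powMap k (A := A) (p ^ m)) with hPdef
  haveI : P.IsPrime := RingHom.ker_isPrime _
  have hPε : ∀ a ∈ P, Coalgebra.counit (R := k) a = 0 := by
    intro a ha
    have h : Bialgebra.counitAlgHom k A (powMap k (p ^ m) a) = 0 := by rw [show powMap k (p ^ m) a = 0 from ha, map_zero]
    rw [pt_powMap, show toConv (Bialgebra.counitAlgHom k A) = (1 : WithConv (A →ₐ[k] k)) from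
      WithConv.ofConv_injective (AlgHom.ext fun _ => rfl), one_pow, AlgHom.convOne_apply] at h
    simpa using h
  have hfac : ∀ x : WithConv (A →ₐ[k] k), ∀ a ∈ P, (x ^ (p ^ m)) a = 0 := by
    intro x a ha
    show (toConv x.ofConv ^ (p ^ m)).ofConv a = 0
    rw [← pt_powMap, show powMap k (p ^ m) a = 0 from ha, map_zero]
  -- points killing `P` lift to powers
  have hinj : ∀ y : WithConv (A →ₐ[k] k), (∀ a ∈ P, y a = 0) → ∃ x, y = x ^ (p ^ m) := by
    intro y hy
    let B := (powMap k (A := A) (p ^ m)).range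
    have hB : SGA3.IsHopfSubalgebra k A B := by
      refine ⟨?_, ?_⟩
      · rintro _ ⟨a, rfl⟩
        refine ⟨TensorProduct.map (powMap k (p ^ m)).rangeRestrict.toLinearMap (powMap k (p ^ m)).rangeRestrict.toLinearMap
          (Coalgebra.comul (R := k) a), ?_⟩
        rw [← LinearMap.comp_apply, ← TensorProduct.map_comp]
        refine tensor_ext fun x z => ?_
        have e : ∀ t : A ⊗[k] A, Algebra.TensorProduct.lift x z (fun _ _ => Commute.all _ _)
            (TensorProduct.map (B.val.toLinearMap ∘ₗ (powMap k (p ^ m)).rangeRestrict.toLinearMap)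
              (B.val.toLinearMap ∘ₗ (powMap k (p ^ m)).rangeRestrict.toLinearMap) t) =
            Algebra.TensorProduct.lift (x.comp (powMap k (p ^ m))) (z.comp (powMap k (p ^ m)))
              (fun _ _ => Commute.all _ _) t := by
          intro t
          induction t with
          | zero => simp
          | add u v hu hv => simp only [map_add, hu, hv]
          | tmul u v => rw [TensorProduct.map_tmul, Algebra.TensorProduct.lift_tmul, Algebra.TensorProduct.lift_tmul]; rfl
        rw [e, ← AlgHom.convMul_apply (toConv (x.comp _)) (toConv (z.comp _)), comp_powMap, comp_powMap,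
          ← AlgHom.convMul_apply (toConv x) (toConv z), toConv_ofConv, toConv_ofConv]
        show _ = (toConv x * toConv z).ofConv (powMap k (p ^ m) a)
        rw [pt_powMap, toConv_ofConv, Commute.mul_pow (hc _ _)]
      · rintro _ ⟨a, rfl⟩
        refine ⟨HopfAlgebra.antipodeAlgHom k A a, ext_pts (k := k) fun x => ?_⟩
        show x (powMap k (p ^ m) (HopfAlgebra.antipodeAlgHom k A a)) =
          (x.comp (HopfAlgebra.antipodeAlgHom k A)) (powMap k (p ^ m) a)
        rw [pt_powMap, pt_powMap]
        show ((toConv x ^ p ^ m)⁻¹) a = ((toConv x)⁻¹ ^ p ^ m) a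
        rw [inv_pow]
    let e := Ideal.quotientKerAlgEquivOfSurjective (AlgHom.rangeRestrict_surjective (powMap k (A := A) (p ^ m)))
    have hker : ∀ a ∈ RingHom.ker (powMap k (A := A) (p ^ m)).rangeRestrict, y.ofConv a = 0 := fun a ha =>
      hy a (by
        have : ((powMap k (A := A) (p ^ m)).rangeRestrict a : A) = 0 := congrArg Subtype.val ha
        exact this)
    let yB : B →ₐ[k] k := (Ideal.Quotient.liftₐ _ y.ofConv hker).comp e.symm.toAlgHom
    let mB : Ideal B := RingHom.ker yB
    haveI : mB.IsMaximal := RingHom.ker_isMaximal_of_surjective _ (fun c => ⟨algebraMap k B c, by simp⟩)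
    obtain ⟨M, hM, hMm⟩ : ∃ M : Ideal A, M.IsMaximal ∧ M.comap (algebraMap B A) = mB := by
      have hne : mB.map (algebraMap B A) ≠ ⊤ := fun h => (inferInstance : mB.IsMaximal).ne_top (by
        rw [← comap_map hB mB, h, Ideal.comap_top])
      obtain ⟨M, hM, hle⟩ := Ideal.exists_le_maximal _ hne
      exact ⟨M, hM, ((inferInstance : mB.IsMaximal).eq_of_le (Ideal.comap_ne_top _ hM.ne_top)
        (Ideal.map_le_iff_le_comap.1 hle)).symm⟩
    obtain ⟨x, hx⟩ := exists_pt_ker (k := k) M
    refine ⟨toConv x, WithConv.ofConv_injective (AlgHom.ext fun a => ?_)⟩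
    show y.ofConv a = (toConv x ^ p ^ m).ofConv a
    rw [← pt_powMap]
    let b : B := (powMap k (A := A) (p ^ m)).rangeRestrict a
    have hyb : yB b = y.ofConv a := by
      show Ideal.Quotient.liftₐ _ y.ofConv hker (e.symm (e (Ideal.Quotient.mk _ a))) = _
      rw [AlgEquiv.symm_apply_apply]
      rfl
    have h2 : b - algebraMap k B (yB b) ∈ mB := by
      show yB _ = 0
      rw [map_sub, AlgHom.commutes, Algebra.algebraMap_self, RingHom.id_apply, sub_self]
    rw [← hMm, Ideal.mem_comap, map_sub, ← hx, map_sub] at h2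
    rw [← hyb]
    have h3 : x (algebraMap B A b) = x (algebraMap B A (algebraMap k B (yB b))) := sub_eq_zero.1 h2
    rw [← IsScalarTower.algebraMap_apply k B A, AlgHom.commutes] at h3
    exact h3.symm
  haveI : P.IsHopfIdeal k := isHopfIdeal hPε (fun x y hx hy a ha => by
      obtain ⟨x', rfl⟩ := hinj x hx
      obtain ⟨y', rfl⟩ := hinj y hy
      rw [← Commute.mul_pow (hc _ _)]
      exact hfac _ a ha)
    (fun a ha => by
      show HopfAlgebra.antipodeAlgHom k A a ∈ P
      refine eq_zero_of_forall (k := k) fun x => ?_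
      rw [pt_powMap]
      show ((toConv x ^ p ^ m)⁻¹) a = 0
      rw [← inv_pow]
      exact hfac _ a ha)
  haveI : Algebra.FiniteType k (A ⧸ P) :=
    Algebra.FiniteType.of_surjective (Ideal.Quotient.mkₐ k P) Ideal.Quotient.mk_surjective
  have hQP : ∃ a, Coalgebra.counit (R := k) a = 0 ∧ a ∉ P := by
    by_contra hcon
    push Not at hcon
    refine hm' fun a => ?_
    have h := hcon (a - algebraMap k A (Coalgebra.counit a)) (by
      rw [map_sub, Bialgebra.counit_algebraMap, sub_self])
    rw [hPdef, RingHom.mem_ker, map_sub, AlgHom.commutes, sub_eq_zero] at h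
    exact h
  have hk : ∀ a : A ⧸ P, powMap k p a = algebraMap k _ (Coalgebra.counit a) := fun a => by
    obtain ⟨b, rfl⟩ := Ideal.Quotient.mk_surjective a
    rw [powMap_mk, ← Ideal.Quotient.mk_algebraMap k P, Ideal.Quotient.eq]
    show powMap k (p ^ m) (powMap k p b - algebraMap k A (Coalgebra.counit b)) = 0
    rw [map_sub, powMap_powMap, ← pow_succ, hm, AlgHom.commutes, sub_self]
  haveI : IsNoetherianRing A := Algebra.FiniteType.isNoetherianRing k A
  have hdim : ringKrullDim (A ⧸ P) ≤ n := (ringKrullDim_quotient_le P).trans hn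
  obtain ⟨π, hπ, hadd⟩ := exists_additive_of_killed n (ptsComm_quot hc) hk
    (bot_ne_top_of_maximal_ne hQP hPε) hdim
  refine ⟨π.comp (Ideal.Quotient.mkₐ k P), hπ.comp Ideal.Quotient.mk_surjective, fun a b => ?_, fun a ha => ?_,
    fun hnm => le_antisymm ?_ ?_⟩
  · rw [← AlgHom.comp_assoc, ← AlgHom.comp_assoc, ← AlgHom.comp_assoc]
    have := mul_mk (P := P) (toConv ((aeval a).comp π)) (toConv ((aeval b).comp π))
    rw [hadd] at this
    exact this.symm
  · show π (Ideal.Quotient.mk P a) = 0
    rw [Ideal.Quotient.eq_zero_iff_mem.2 ha, map_zero]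
  rotate_left
  · intro a ha
    show π (Ideal.Quotient.mk P a) = 0
    rw [Ideal.Quotient.eq_zero_iff_mem.2 ha, map_zero]
  -- the chain of kernels
  set K : Ideal A := RingHom.ker (π.comp (Ideal.Quotient.mkₐ k P))
  intro a haK
  by_contra haP
  have hPK : P < K := lt_of_le_of_ne (fun b hb => by
    show π (Ideal.Quotient.mk P b) = 0
    rw [Ideal.Quotient.eq_zero_iff_mem.2 hb, map_zero]) fun h => haP (h ▸ haK)
  let I : ℕ → Ideal A := fun i => RingHom.ker (powMap k (A := A) (p ^ i))
  have hmono : ∀ i, I i ≤ I (i + 1) := fun i b hb => by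
    simp only [I, RingHom.mem_ker] at hb ⊢
    rw [pow_succ, mul_comm, ← powMap_powMap, hb, map_zero]
  have hstrict : ∀ i < m, I i < I (i + 1) := by
    intro i hi
    refine lt_of_le_of_ne (hmono i) fun he => hm' ?_
    have key : ∀ d, I (i + d) = I i ∧ I (i + d + 1) = I i := by
      intro d
      induction d with
      | zero => exact ⟨rfl, he.symm⟩
      | succ d ih =>
        refine ⟨ih.2, Ideal.ext fun b => ?_⟩
        have hstep : ∀ j (c : A), c ∈ I (j + 1) ↔ powMap k p c ∈ I j := fun j c => by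
          simp only [I, RingHom.mem_ker, powMap_powMap, pow_succ]
        rw [hstep (i + (d + 1)) b, show i + (d + 1) = i + d + 1 from rfl, ih.2, ← ih.1, ← hstep (i + d) b, ih.2, ← ih.1]
    have hIm : I m = I (m + 1) := by
      obtain ⟨d, rfl⟩ := Nat.exists_eq_add_of_le hi.le
      rw [(key d).1, (key d).2]
    intro b
    have hmem : b - algebraMap k A (Coalgebra.counit b) ∈ I m := by
      rw [hIm, RingHom.mem_ker, map_sub, hm, AlgHom.commutes, sub_self]
    rw [RingHom.mem_ker, map_sub, AlgHom.commutes, sub_eq_zero] at hmem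
    exact hmem
  let Q : Ideal A := RingHom.ker ((aeval (0 : k)).comp (π.comp (Ideal.Quotient.mkₐ k P)))
  have hKQ : K < Q := by
    refine lt_of_le_of_ne (fun b hb => ?_) fun h => ?_
    · show aeval (0 : k) (π (Ideal.Quotient.mk P b)) = 0
      rw [show π (Ideal.Quotient.mk P b) = 0 from hb, map_zero]
    · obtain ⟨c, hc'⟩ := (hπ.comp (Ideal.Quotient.mk_surjective (I := P))) X
      have hcQ : c ∈ Q := by
        show aeval (0 : k) (π (Ideal.Quotient.mk P c)) = 0
        rw [show π (Ideal.Quotient.mk P c) = X from hc', aeval_X]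
      rw [← h] at hcQ
      exact X_ne_zero (hc'.symm.trans hcQ)
  let J : Fin (m + 3) → PrimeSpectrum A := fun j =>
    if (j : ℕ) ≤ m then ⟨I j, RingHom.ker_isPrime _⟩
    else if (j : ℕ) = m + 1 then ⟨K, RingHom.ker_isPrime _⟩ else ⟨Q, RingHom.ker_isPrime _⟩
  let l : LTSeries (PrimeSpectrum A) := LTSeries.mk (m + 2) J (Fin.strictMono_iff_lt_succ.2 fun j => by
    have hj := j.2
    simp only [J, Fin.val_castSucc, Fin.val_succ]
    by_cases h1 : (j : ℕ) + 1 ≤ m
    · rw [if_pos (by omega), if_pos h1]; exact hstrict j (by omega)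
    by_cases h2 : (j : ℕ) ≤ m
    · rw [if_pos h2, if_neg h1, if_pos (by omega)]
      have : (j : ℕ) = m := by omega
      simp only [this]
      exact hPK
    · rw [if_neg h2, if_pos (by omega), if_neg h1, if_neg (by omega)]
      exact hKQ)
  have h := le_trans (Order.LTSeries.length_le_krullDim l) hn
  rw [hnm] at h
  exact absurd (Nat.cast_le.1 (show ((m + 2 : ℕ) : WithBot ℕ∞) ≤ ((m + 1 : ℕ) : WithBot ℕ∞) from h)) (by omega)

end Groth.Agent.UnipLib
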