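import Groth.Agent.UnipLib.Chars
import Groth.Agent.HopfSub.Basic
import Mathlib.LinearAlgebra.Basis.VectorSpace

/-! Functions on unipotent groups: fixed vectors modulo a stable subspace, primitive elements, slices. -/

set_option autoImplicit false
set_option linter.style.haveILetI false
universe u
open scoped TensorProduct
open WithConv

namespace Groth.Agent.UnipLib

variable {k : Type u} [Field k] {A : Type u} [CommRing A] [HopfAlgebra k A]

variable (k) in
/-- Some power of `p` kills the group. -/
def Killed (p : ℕ) (A : Type u) [CommRing A] [HopfAlgebra k A] : Prop :=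
  ∃ r : ℕ, ∀ a : A, powMap k (p ^ r) a = algebraMap k A (Coalgebra.counit a)

variable (k) in
/-- Primitive elements. -/
def IsPrim (v : A) : Prop := Coalgebra.comul (R := k) v = v ⊗ₜ 1 + 1 ⊗ₜ v

lemma IsPrim.pt {v : A} (h : IsPrim k v) {R : Type u} [CommRing R] [Algebra k R] (x y : WithConv (A →ₐ[k] R)) :
    (x * y) v = x v + y v := by
  rw [AlgHom.convMul_apply, h, map_add, Algebra.TensorProduct.lift_tmul, Algebra.TensorProduct.lift_tmul]
  simp

lemma IsPrim.counit_eq_zero {v : A} (h : IsPrim k v) : Coalgebra.counit (R := k) v = 0 := by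
  have e := h.pt (1 : WithConv (A →ₐ[k] k)) 1
  rw [_root_.mul_one, AlgHom.convOne_apply] at e
  simp only [Algebra.algebraMap_self, RingHom.id_apply] at e
  exact left_eq_add.1 e

variable [IsAlgClosed k] [Algebra.FiniteType k A] [IsReduced A]

lemma isPrim_of_forall {v : A} (h : ∀ x y : WithConv (A →ₐ[k] k), (x * y) v = x v + y v) : IsPrim k v := by
  refine tensor_ext fun x y => ?_
  rw [← AlgHom.convMul_apply (toConv x) (toConv y), h, map_add, Algebra.TensorProduct.lift_tmul,
    Algebra.TensorProduct.lift_tmul]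
  simp

/-- A proper stable subspace of a unipotent group admits a function fixed modulo it. -/
theorem exists_fixed_mod (hc : PtsComm k A) {p : ℕ} [Fact p.Prime] [CharP k p] (hu : Killed k p A)
    {B : Submodule k A} (hne : B ≠ ⊤) :
    ∃ f ∉ B, ∀ g : A →ₐ[k] k, rho g f - f ∈ B := by
  classical
  obtain ⟨r, hr⟩ := hu
  obtain ⟨a, ha⟩ : ∃ a, a ∉ B := by
    by_contra hcon
    push Not at hcon
    exact hne (eq_top_iff.2 fun x _ => hcon x)
  have hex : ∃ d, ∃ W : Submodule k A, Module.Finite k W ∧ (∀ g, ∀ v ∈ W, rho (k := k) g v ∈ W) ∧ ¬ W ≤ B ∧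
      Module.finrank k W = d := by
    obtain ⟨V, h1, h2, h3⟩ := exists_stable (k := k) ({a} : Finset A)
    exact ⟨_, V, h1, h3, fun hle => ha (hle (h2 (by simp))), rfl⟩
  obtain ⟨W, hfin, hst, hWB, hd⟩ := Nat.find_spec hex
  haveI := hfin
  obtain ⟨f, hfW, hfB⟩ := SetLike.not_le_iff_exists.1 hWB
  refine ⟨f, hfB, fun g => ?_⟩
  let n : A →ₗ[k] A := (rho g).toLinearMap - LinearMap.id
  by_contra hcon
  let W' := W.map n
  have hle : W' ≤ W := by
    rintro _ ⟨v, hv, rfl⟩
    exact sub_mem (hst g v hv) hv
  haveI : Module.Finite k W' := Submodule.finiteDimensional_of_le hle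
  have hst' : ∀ h, ∀ v ∈ W', rho (k := k) h v ∈ W' := by
    rintro h _ ⟨v, hv, rfl⟩
    refine ⟨rho h v, hst h v hv, ?_⟩
    show rho g (rho h v) - rho h v = rho h (rho g v - v)
    rw [map_sub, rho_mul, rho_mul, hc]
  have hW'B : ¬ W' ≤ B := fun h => hcon (h ⟨f, hfW, rfl⟩)
  have hmin := Nat.find_min' hex ⟨W', inferInstance, hst', hW'B, rfl⟩
  have heq : W' = W := Submodule.eq_of_le_of_finrank_le hle (hd.le.trans hmin)
  -- the difference is nilpotent
  have hpow : ∀ (N : ℕ), ∀ v ∈ W, ∃ u ∈ W, (n ^ N) u = v := by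
    intro N
    induction N with
    | zero => exact fun v hv => ⟨v, hv, rfl⟩
    | succ N ih =>
      intro v hv
      obtain ⟨u, hu, rfl⟩ := ih v hv
      obtain ⟨w, hw, rfl⟩ : u ∈ W' := heq ▸ hu
      exact ⟨w, hw, by rw [pow_succ, Module.End.mul_apply]⟩
  obtain ⟨u, -, hu⟩ := hpow (p ^ r) f hfW
  apply hfB
  rw [← hu]
  have hiter : ∀ (N : ℕ) (b : A), ((rho g).toLinearMap ^ N) b = rho (toConv g ^ N).ofConv b := by
    intro N
    induction N with
    | zero =>
      intro b
      refine ext_pts (k := k) fun x => ?_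
      rw [pow_zero, pow_zero, pt_rho_self, toConv_ofConv, _root_.mul_one]
      rfl
    | succ N ih =>
      intro b
      rw [pow_succ, Module.End.mul_apply, AlgHom.toLinearMap_apply, ih, rho_mul, toConv_ofConv, ← pow_succ]
  have hP : ((rho g).toLinearMap ^ (p ^ r)) = 1 := by
    refine LinearMap.ext fun b => ext_pts (k := k) fun x => ?_
    rw [hiter, pt_rho_self, toConv_ofConv]
    have e : toConv g ^ p ^ r = 1 := WithConv.ofConv_injective (AlgHom.ext fun c => by
      show (toConv g ^ p ^ r) c = _
      rw [← pt_powMap, hr, AlgHom.commutes]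
      rfl)
    rw [e, _root_.mul_one]
    rfl
  have hn0 : n ^ (p ^ r) = 0 := by
    have hp0 : (p : Module.End k A) = 0 := by
      rw [← map_natCast (algebraMap k (Module.End k A)), CharP.cast_eq_zero, map_zero]
    obtain ⟨c, hc'⟩ : ∃ c : Module.End k A, (n + 1) ^ (p ^ r) = n ^ (p ^ r) + 1 ^ (p ^ r) + (p : Module.End k A) * c :=
      ⟨_, ((Commute.one_right n).add_pow_prime_pow_eq (p := p) Fact.out r).trans (by simp only [_root_.mul_assoc]; rfl)⟩
    rw [one_pow, hp0, zero_mul, add_zero,
      show n + 1 = (rho g).toLinearMap from sub_add_cancel _ _, hP] at hc'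
    exact add_eq_right.1 hc'.symm
  rw [hn0]
  exact zero_mem _

/-- Tensors all of whose slices lie in a subalgebra. -/
theorem mem_range_of_slices (B : Subalgebra k A) {t : A ⊗[k] A}
    (h1 : ∀ y : A →ₐ[k] k, Algebra.TensorProduct.lift (AlgHom.id k A) ((Algebra.ofId k A).comp y)
      (fun _ _ => Commute.all _ _) t ∈ B)
    (h2 : ∀ x : A →ₐ[k] k, Algebra.TensorProduct.lift ((Algebra.ofId k A).comp x) (AlgHom.id k A)
      (fun _ _ => Commute.all _ _) t ∈ B) :
    t ∈ (Algebra.TensorProduct.map B.val B.val).range := by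
  obtain ⟨q, hq⟩ := (Subalgebra.toSubmodule B).exists_isCompl
  let π : A →ₗ[k] A := (Subalgebra.toSubmodule B).subtype ∘ₗ
    (Subalgebra.toSubmodule B).projectionOnto q hq
  have hπ : ∀ b ∈ B, π b = b := fun b hb =>
    congrArg Subtype.val (Submodule.projectionOnto_apply_left hq ⟨b, hb⟩)
  have e1 : π.rTensor A t = t := by
    refine tensor_ext fun x y => ?_
    have hs : ∀ u : A ⊗[k] A, Algebra.TensorProduct.lift x y (fun _ _ => Commute.all _ _) (π.rTensor A u) =
        x (π (Algebra.TensorProduct.lift (AlgHom.id k A) ((Algebra.ofId k A).comp y) (fun _ _ => Commute.all _ _) u)) := by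
      intro u
      induction u with
      | zero => simp
      | add a b ha hb => simp only [map_add, ha, hb]
      | tmul a b =>
        rw [LinearMap.rTensor_tmul, Algebra.TensorProduct.lift_tmul, Algebra.TensorProduct.lift_tmul,
          AlgHom.id_apply, AlgHom.comp_apply, Algebra.ofId_apply, _root_.mul_comm a, ← Algebra.smul_def,
          map_smul, map_smul, smul_eq_mul, _root_.mul_comm]
    rw [hs, hπ _ (h1 y), ← AlgHom.comp_apply]
    have e : x.comp (Algebra.TensorProduct.lift (AlgHom.id k A) ((Algebra.ofId k A).comp y) (fun _ _ => Commute.all _ _)) =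
        Algebra.TensorProduct.lift x y (fun _ _ => Commute.all _ _) :=
      Algebra.TensorProduct.ext' fun a b => by simp
    rw [e]
  have e2 : π.lTensor A t = t := by
    refine tensor_ext fun x y => ?_
    have hs : ∀ u : A ⊗[k] A, Algebra.TensorProduct.lift x y (fun _ _ => Commute.all _ _) (π.lTensor A u) =
        y (π (Algebra.TensorProduct.lift ((Algebra.ofId k A).comp x) (AlgHom.id k A) (fun _ _ => Commute.all _ _) u)) := by
      intro u
      induction u with
      | zero => simp
      | add a b ha hb => simp only [map_add, ha, hb]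
      | tmul a b =>
        rw [LinearMap.lTensor_tmul, Algebra.TensorProduct.lift_tmul, Algebra.TensorProduct.lift_tmul,
          AlgHom.id_apply, AlgHom.comp_apply, Algebra.ofId_apply, ← Algebra.smul_def,
          map_smul, map_smul, smul_eq_mul]
    rw [hs, hπ _ (h2 x), ← AlgHom.comp_apply]
    have e : y.comp (Algebra.TensorProduct.lift ((Algebra.ofId k A).comp x) (AlgHom.id k A) (fun _ _ => Commute.all _ _)) =
        Algebra.TensorProduct.lift x y (fun _ _ => Commute.all _ _) :=
      Algebra.TensorProduct.ext' fun a b => by simp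
    rw [e]
  let π' : A →ₗ[k] B := (Subalgebra.toSubmodule B).projectionOnto q hq
  refine ⟨TensorProduct.map π' π' t, ?_⟩
  conv_rhs => rw [← e1, ← e2, ← LinearMap.comp_apply]
  generalize t = u
  induction u with
  | zero => simp
  | add a b ha hb => simp only [map_add, ha, hb]
  | tmul a b =>
    rw [TensorProduct.map_tmul]
    exact Algebra.TensorProduct.map_tmul ..

end Groth.Agent.UnipLib
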