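import Groth.Agent.UnipLib.Points
import Groth.Agent.WittLib.Isogeny

/-! Finite surjective endomorphisms of Witt groups killing prescribed finite sets. -/

set_option autoImplicit false
set_option linter.style.haveILetI false
universe u

open CategoryTheory CategoryTheory.Limits AlgebraicGeometry MonoidalCategory CartesianMonoidalCategory MonObj

namespace Groth.Agent.UnipLib

open Groth.Agent.WittLib.Basic Groth.Agent.WittLib.Factor Groth.Agent.WittLib.Endo
  Groth.Agent.WittLib.Killed Groth.Agent.WittLib.Isogeny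

variable {p : ℕ} [hp : Fact p.Prime] {k : Type u} [Field k] [CharP k p] [IsAlgClosed k]

local notation "Sk" => Spec (CommRingCat.of k)
local notation "pt₀" => IsLocalRing.closedPoint k

/-- Homomorphisms that are finite and surjective. -/
structure Good {G H : Over (Spec (CommRingCat.of k))} [GrpObj G] [GrpObj H] (f : G ⟶ H) : Prop where
  hom : IsMonHom f
  fin : IsFinite f.left
  surj : Surjective f.left

omit hp [CharP k p] [IsAlgClosed k] in
lemma Good.comp {G H K : Over Sk} [GrpObj G] [GrpObj H] [GrpObj K] {f : G ⟶ H} {g : H ⟶ K}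
    (hf : Good f) (hg : Good g) : Good (f ≫ g) := by
  haveI := hf.hom; haveI := hg.hom; haveI := hf.fin; haveI := hg.fin; haveI := hf.surj; haveI := hg.surj
  refine ⟨inferInstance, ?_, ?_⟩ <;> rw [Over.comp_left] <;> infer_instance

omit hp [CharP k p] [IsAlgClosed k] in
lemma good_id {G : Over Sk} [GrpObj G] : Good (𝟙 G) :=
  ⟨inferInstance, by rw [Over.id_left]; infer_instance, by rw [Over.id_left]; infer_instance⟩

lemma lin_one_ne_one {M : ℕ} {b : ℕ → k} {i : ℕ} (hi : i < M) (hb : b i ≠ 0) :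
    lin p 1 M b ≠ (1 : WittGrp.W p 1 Sk ⟶ _) := by
  intro h
  have hP : poly p M b ≠ 0 := fun h0 => natDegree_poly_ne_zero hi hb (by rw [h0, Polynomial.natDegree_zero])
  obtain ⟨c, hc⟩ := Polynomial.exists_eval_ne_zero_of_natDegree_lt_card (poly p M b) hP
    (lt_of_lt_of_le (Cardinal.natCast_lt_aleph0) (Cardinal.aleph0_le_mk k))
  let T : Over Sk := 𝟙_ (Over Sk)
  let z : T ⟶ WittGrp.W p 1 Sk := ofVec (TruncatedWittVector.mk p fun _ => str T c)
  have e := congrArg (fun q => (vec (z ≫ q)).coeff 0) h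
  simp only [coeff_lin_one, MonObj.comp_one, vec_one, TruncatedWittVector.coeff_zero, z, vec_ofVec,
    TruncatedWittVector.coeff_mk, Polynomial.eval₂_at_apply] at e
  haveI : Nontrivial Γ(T.left, ⊤) :=
    (Scheme.ΓSpecIso (CommRingCat.of k)).commRingCatIsoToRingEquiv.toEquiv.nontrivial
  exact hc ((str T).injective (by rw [e, map_zero]))

lemma good_lin {n M : ℕ} {b : ℕ → k} {i : ℕ} (hi : i < M) (hb : b i ≠ 0) : Good (lin p n M b) := by
  obtain ⟨h1, h2⟩ := surjective_and_finite (lin p n M b) M b (fun h => lin_R M b h) (lin_one_ne_one hi hb)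
  exact ⟨inferInstance, h2, h1⟩

lemma ne_one_of_surjective {G : Over Sk} [LocallyOfFiniteType G.hom] (g : G ⟶ WittGrp.W p 1 Sk)
    [Surjective g.left] : g ≠ 1 := by
  intro h
  let T : Over Sk := 𝟙_ (Over Sk)
  obtain ⟨x, hx⟩ := exists_lift_point g (ofVec (TruncatedWittVector.mk p fun _ => (1 : Γ(T.left, ⊤))))
  rw [h, MonObj.comp_one] at hx
  have := congrArg (fun q => (vec q).coeff 0) hx
  simp [vec_one, TruncatedWittVector.coeff_zero] at this

lemma good_of_ne_one {n : ℕ} (hn : 1 ≤ n) (f : WittGrp.W p n Sk ⟶ WittGrp.W p n Sk) [IsMonHom f]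
    (hf : f ≫ WittGrp.R p Sk hn ≠ 1) : Good f := by
  obtain ⟨M, a, ha⟩ := exists_hom_to_W_one hn (f ≫ WittGrp.R p Sk hn)
  have hne : lin p 1 M a ≠ 1 := fun h => hf (by rw [ha, h, MonObj.comp_one])
  obtain ⟨hs, hfin⟩ := surjective_and_finite f M a (fun _ => ha) hne
  exact ⟨inferInstance, hfin, hs⟩

/-- One rational point can be killed. -/
theorem exists_good_kill : ∀ {n : ℕ} (t : 𝟙_ (Over Sk) ⟶ WittGrp.W p n Sk),
    ∃ φ : WittGrp.W p n Sk ⟶ WittGrp.W p n Sk, Good φ ∧ t ≫ φ = 1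
  | 0, t => ⟨𝟙 _, good_id, eq_W_zero _ _⟩
  | n + 1, t => by
    have hS : (p : Γ(Sk, ⊤)) = 0 := natCast_eq_zero_spec k
    have h1 : 1 ≤ n + 1 := Nat.le_add_left 1 n
    have hl : n ≤ n + 1 := Nat.le_succ n
    obtain ⟨ψ, hψ, hψt⟩ : ∃ ψ : WittGrp.W p (n + 1) Sk ⟶ WittGrp.W p (n + 1) Sk, Good ψ ∧
        (t ≫ ψ) ≫ WittGrp.R p Sk hl = 1 := by
      rcases Nat.eq_zero_or_pos n with h0 | h0
      · subst h0
        exact ⟨𝟙 _, good_id, eq_W_zero _ _⟩
      · obtain ⟨φ, hφ, hφt⟩ := exists_good_kill (t ≫ WittGrp.R p Sk hl)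
        haveI := hφ.hom
        obtain ⟨⟨ψ, hψ, hψR⟩, -⟩ := exists_lift_and_extend φ
        haveI := hψ
        refine ⟨ψ, good_of_ne_one h1 ψ ?_, by rw [Category.assoc, ← hψR, ← Category.assoc, hφt]⟩
        have e : ψ ≫ WittGrp.R p Sk h1 = WittGrp.R p Sk hl ≫ φ ≫ WittGrp.R p Sk h0 := by
          rw [← R_comp_R (p := p) (S := Sk) h0 hl, ← Category.assoc, ← hψR, Category.assoc]
        haveI := hφ.surj
        haveI : Surjective (WittGrp.R p Sk hl).left :=
          (flat_R_left (p := p) (S := Sk) (n := n) (m := 1) hl).2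
        haveI : Surjective (WittGrp.R p Sk h0).left := by
          obtain ⟨n', rfl⟩ : ∃ n', n = 1 + n' := ⟨n - 1, by omega⟩
          exact (flat_R_left (p := p) (S := Sk) (n := 1) (m := n') h0).2
        haveI : Surjective (WittGrp.R p Sk hl ≫ φ ≫ WittGrp.R p Sk h0).left := by
          rw [Over.comp_left, Over.comp_left]; infer_instance
        rw [e]
        exact ne_one_of_surjective _
    haveI := hψ.hom
    obtain ⟨z, hz⟩ := exists_factor_V h1 hl (Nat.add_comm 1 n) (t ≫ ψ) hψt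
    let e : Γ((𝟙_ (Over Sk)).left, ⊤) ≃+* k := (Scheme.ΓSpecIso (CommRingCat.of k)).commRingCatIsoToRingEquiv
    let c : k := e ((vec z).coeff 0)
    obtain ⟨b₁, b₂, hb₂, hb⟩ : ∃ b₁ b₂ : k, b₂ ≠ 0 ∧ b₁ ^ p ^ (n + 1 - 1) * c + b₂ ^ p ^ (n + 1 - 1) * c ^ p = 0 := by
      rcases eq_or_ne c 0 with hc | hc
      · exact ⟨0, 1, one_ne_zero, by rw [hc, mul_zero, zero_pow hp.out.ne_zero, mul_zero, add_zero]⟩
      · obtain ⟨r, hr⟩ := IsAlgClosed.exists_pow_nat_eq (-(c ^ (p - 1))) (pow_pos hp.out.pos (n + 1 - 1))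
        refine ⟨r, 1, one_ne_zero, ?_⟩
        rw [hr, one_pow, _root_.one_mul, neg_mul, ← pow_succ, Nat.sub_add_cancel hp.out.one_le, neg_add_cancel]
    let b : ℕ → k := fun i => if i = 0 then b₁ else b₂
    refine ⟨ψ ≫ lin p (n + 1) 2 b, hψ.comp (good_lin (i := 1) one_lt_two (by simpa [b] using hb₂)), ?_⟩
    rw [← Category.assoc, ← hz, Category.assoc, V_lin, ← Category.assoc]
    suffices h : z ≫ lin p 1 2 (fun i => b i ^ p ^ (n + 1 - 1)) = 1 by rw [h, MonObj.one_comp]
    refine vec_ext (TruncatedWittVector.ext fun j => ?_)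
    rw [Subsingleton.elim j 0, coeff_lin_one, vec_one, TruncatedWittVector.coeff_zero]
    apply e.injective
    rw [map_zero, ← RingEquiv.coe_toRingHom, Polynomial.hom_eval₂]
    have hid : (e : Γ((𝟙_ (Over Sk)).left, ⊤) →+* k).comp (str (𝟙_ (Over Sk))) = RingHom.id k := by
      refine RingHom.ext fun x => ?_
      show (Scheme.ΓSpecIso (CommRingCat.of k)).hom ((Scheme.ΓSpecIso (CommRingCat.of k)).inv x) = x
      simp
    rw [hid]
    simpa [poly, Finset.sum_range_succ, b, c] using hb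

/-- Finite sets of rational points can be killed. -/
theorem exists_good_kill_finite {n : ℕ} {S : Set (𝟙_ (Over Sk) ⟶ WittGrp.W p n Sk)} (hS : S.Finite) :
    ∃ φ : WittGrp.W p n Sk ⟶ WittGrp.W p n Sk, Good φ ∧ ∀ t ∈ S, t ≫ φ = 1 := by
  induction S, hS using Set.Finite.induction_on with
  | empty => exact ⟨𝟙 _, good_id, by simp⟩
  | @insert t S _ _ ih =>
    obtain ⟨φ, hφ, hφS⟩ := ih
    obtain ⟨ψ, hψ, hψt⟩ := exists_good_kill (t ≫ φ)
    haveI := hψ.hom
    refine ⟨φ ≫ ψ, hφ.comp hψ, ?_⟩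
    rintro s (rfl | hs)
    · rw [← Category.assoc]; exact hψt
    · rw [← Category.assoc, hφS s hs, MonObj.one_comp]

/-- A map from a finite scheme killed on rational points is killed by a good endomorphism. -/
theorem exists_good_nilp {n : ℕ} {N : Over Sk} [IsFinite N.hom] (w : N ⟶ WittGrp.W p n Sk)
    (hw : ∀ P : 𝟙_ (Over Sk) ⟶ N, P ≫ w = 1) :
    ∃ φ : WittGrp.W p n Sk ⟶ WittGrp.W p n Sk, Good φ ∧ w ≫ φ = 1 := by
  haveI : IsAffine N.left := isAffine_of_isAffineHom N.hom
  haveI : JacobsonSpace N.left := LocallyOfFiniteType.jacobsonSpace N.hom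
  have hnil : ∀ j, IsNilpotent ((vec w).coeff j) := by
    intro j
    rw [Scheme.isNilpotent_iff_basicOpen_eq_bot]
    refine le_bot_iff.1 fun x hx => ?_
    obtain ⟨y, hy, hyc⟩ := nonempty_inter_closedPoints (Z := (N.left.basicOpen ((vec w).coeff j) : Set N.left))
      ⟨x, hx⟩ (N.left.basicOpen _).2.isLocallyClosed
    obtain ⟨P, hP⟩ := WittLib.Subgroup.exists_point hyc
    have e : P.left.appTop ((vec w).coeff j) = 0 := by
      rw [← coeff_vec_comp, hw P, vec_one, TruncatedWittVector.coeff_zero]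
    have hmem : pt₀ ∈ P.left ⁻¹ᵁ N.left.basicOpen ((vec w).coeff j) := by
      show P.left.base pt₀ ∈ N.left.basicOpen ((vec w).coeff j)
      rw [hP]; exact hy
    rw [Scheme.preimage_basicOpen] at hmem
    change pt₀ ∈ (𝟙_ (Over Sk)).left.basicOpen (P.left.appTop _) at hmem
    rw [e] at hmem
    rw [Scheme.basicOpen_zero] at hmem
    exact (show False from hmem).elim
  choose e he using hnil
  let a := ∑ j, e j
  refine ⟨lin p n (a + 1) (Pi.single a 1), good_lin (i := a) (Nat.lt_succ_self a) (by simp), ?_⟩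
  refine vec_ext (TruncatedWittVector.ext fun j => ?_)
  rw [vec_lin, vec_one, TruncatedWittVector.coeff_zero]
  rw [Finset.sum_eq_single a]
  · rw [coeff_term]
    have hle : e j ≤ p ^ a := le_trans (Finset.single_le_sum (fun i _ => Nat.zero_le (e i)) (Finset.mem_univ j))
      (Nat.lt_pow_self hp.out.one_lt).le
    rw [pow_eq_zero_of_le hle (he j), mul_zero]
  · intro i _ hi
    refine TruncatedWittVector.ext fun l => ?_
    rw [coeff_term, Pi.single_eq_of_ne hi, map_zero, zero_pow (pow_ne_zero _ hp.out.ne_zero), zero_mul,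
      TruncatedWittVector.coeff_zero]
  · intro h; exact absurd (Finset.self_mem_range_succ a) h

end Groth.Agent.UnipLib
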